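import Cfsg.Agent.Lib.Known.AutPOmega.Main
import Cfsg.Agent.Lib.Classical.Quad.PlusMinusType

/-!
The automorphism groups of the groups `PΩ` of the standard forms.
-/

set_option autoImplicit false
set_option linter.unusedSectionVars false

namespace CfsgLib.Known.AutPOmega

open QuadraticMap (polar polarBilin)
open CfsgLib.Classical.Quad
open scoped Matrix

variable {F : Type*} [Field F] {ι : Type} [Fintype ι] [DecidableEq ι] [Finite F]
  {Q : QuadraticForm F (ι → F)}

/-- The matrix inducing the automorphism of a semisimilarity. -/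
theorem induced_of_semi (D : Big Q) (S : Semi Q) (β : MulAut (Cfsg.POmega F (⇑Q)))
    (hS : ∀ x, pOmegaEquiv Q (β x) = S.aut (pOmegaEquiv Q x)) (g : GL ι F)
    (hg : ∀ v : ι → F, (g : Matrix ι ι F) *ᵥ (fun i => S.θ (v i)) = S.G v) :
    Cfsg.IsInducedBySemilinearPOmega (⇑Q) g S.θ β := by
  intro s s' hs
  set E := pOmegaEquiv Q
  apply E.injective
  rw [hS]
  show S.aut (pr Q (omegaEquiv Q s)) = pr Q (omegaEquiv Q s')
  rw [Semi.aut_pr]
  refine congrArg (pr Q) (ext_ac fun x => ?_)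
  obtain ⟨y, rfl⟩ := S.G.surjective x
  rw [Semi.ac_aut, AddEquiv.symm_apply_apply]
  show S.G (((oEquiv Q (s : ↥(Cfsg.isometryGroup F (⇑Q))) : OQ Q) : (ι → F) ≃ₗ[F] (ι → F)) y) =
    ((oEquiv Q (s' : ↥(Cfsg.isometryGroup F (⇑Q))) : OQ Q) : (ι → F) ≃ₗ[F] (ι → F)) (S.G y)
  rw [oEquiv_apply, oEquiv_apply, hs, ← hg y, ← hg]
  rw [Matrix.mulVec_mulVec, mul_assoc, ← Units.val_mul, inv_mul_cancel, Units.val_one, mul_one,
    ← Matrix.mulVec_mulVec]
  congr 1
  funext i
  exact RingHom.map_mulVec S.θ.toRingHom _ y i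

/-- The matrix of a semisimilarity. -/
theorem exists_matrix (S : Semi Q) :
    ∃ g : GL ι F, (∀ v : ι → F, (g : Matrix ι ι F) *ᵥ (fun i => S.θ (v i)) = S.G v) ∧
      Cfsg.IsSemisimilarityPair (⇑Q) g S.θ := by
  let L : (ι → F) →ₗ[F] (ι → F) :=
    { toFun := fun v => S.G fun i => S.θ.symm (v i)
      map_add' := fun v w => by
        rw [← map_add]; congr 1; funext i; simp
      map_smul' := fun t v => by
        show S.G (fun i => S.θ.symm ((t • v) i)) = t • S.G (fun i => S.θ.symm (v i))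
        rw [show (fun i => S.θ.symm ((t • v) i)) = S.θ.symm t • (fun i => S.θ.symm (v i)) from
          funext fun i => by simp, S.semilin, RingEquiv.apply_symm_apply] }
  have hLinj : Function.Injective L := fun v w h => by
    funext i
    exact S.θ.symm.injective (congrFun (S.G.injective h) i)
  let Le : (ι → F) ≃ₗ[F] (ι → F) := LinearEquiv.ofBijective L
    ⟨hLinj, LinearMap.injective_iff_surjective.1 hLinj⟩
  let g : GL ι F :=
    { val := LinearMap.toMatrix' (Le : (ι → F) →ₗ[F] (ι → F))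
      inv := LinearMap.toMatrix' (Le.symm : (ι → F) →ₗ[F] (ι → F))
      val_inv := by rw [← LinearMap.toMatrix'_comp]; simp
      inv_val := by rw [← LinearMap.toMatrix'_comp]; simp }
  have hg : ∀ v : ι → F, (g : Matrix ι ι F) *ᵥ (fun i => S.θ (v i)) = S.G v := fun v => by
    show LinearMap.toMatrix' (Le : (ι → F) →ₗ[F] (ι → F)) *ᵥ _ = _
    rw [LinearMap.toMatrix'_mulVec]
    show S.G (fun i => S.θ.symm (S.θ (v i))) = S.G v
    simp
  exact ⟨g, hg, Units.mk0 S.c S.c_ne, fun v => by rw [hg]; exact S.quad v⟩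

/-- Every automorphism of `PΩ` is induced by a semisimilarity of the matrix form. -/
theorem exists_induced (D : Big Q) (hT : NoTriality Q) (β : MulAut (Cfsg.POmega F (⇑Q))) :
    ∃ (g : GL ι F) (σ : F ≃+* F), Cfsg.IsSemisimilarityPair (⇑Q) g σ ∧
      Cfsg.IsInducedBySemilinearPOmega (⇑Q) g σ β := by
  have : Finite (OQ Q) := Finite.of_equiv _ (oEquiv Q).toEquiv
  have : Finite (POm Q) := Quotient.finite _
  set E := pOmegaEquiv Q
  obtain ⟨S, hS⟩ := exists_semi D hT ((E.symm.trans β).trans E : MulAut (POm Q))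
  obtain ⟨g, hg, hp⟩ := exists_matrix S
  refine ⟨g, S.θ, hp, induced_of_semi D S β (fun x => ?_) g hg⟩
  rw [← hS]
  show E (β x) = E (β (E.symm (E x)))
  rw [E.symm_apply_apply]

theorem gamma_eq_top (D : Big Q) (hT : NoTriality Q) : Cfsg.gammaPOmega F (⇑Q) = ⊤ := by
  rw [eq_top_iff]
  rintro β -
  exact Subgroup.subset_closure (exists_induced D hT β)

theorem noTriality_of_small {V : Type*} [AddCommGroup V] [Module F V] [FiniteDimensional F V]
    {Q : QuadraticForm F V} (h : ∀ X : Submodule F V, (∀ x ∈ X, Q x = 0) → Module.finrank F X ≤ 3) :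
    NoTriality Q := by
  refine Or.inr fun a b c d ha hb hc hd hab hac had hbc hbd hcd hli => ?_
  have h1 := h (Submodule.span F (Set.range ![a, b, c, d])) fun x hx => by
    obtain ⟨k, rfl⟩ := (Submodule.mem_span_range_iff_exists_fun F).1 hx
    simp [Fin.sum_univ_four, apply_add, apply_smul, polar_add_left', polar_smul_left',
      polar_smul_right', ha, hb, hc, hd, hab, hac, had, hbc, hbd, hcd]
  rw [finrank_span_eq_card hli, Fintype.card_fin] at h1
  omega

omit [Fintype ι] [DecidableEq ι]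

theorem big_qOdd (h2 : (2 : F) ≠ 0) {m : ℕ} (hm : 3 ≤ m) :
    Big (qOdd m F) ∧ NoTriality (qOdd m F) := by
  have hn : Module.finrank F (Unit ⊕ (Fin m ⊕ Fin m) → F) = 2 * m + 1 := by
    rw [Module.finrank_pi]; simp; omega
  refine ⟨⟨qOdd_nondeg h2 m, by omega⟩, ?_⟩
  by_cases h : 4 ≤ m
  · exact Or.inl (by omega)
  · exact noTriality_of_small fun X hX => by
      have := two_mul_finrank_le (qOdd_nondeg h2 m) hX
      omega

theorem big_qPlus {m : ℕ} (hm : 5 ≤ m) : Big (qPlus m F) ∧ NoTriality (qPlus m F) := by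
  have hn : Module.finrank F (Fin m ⊕ Fin m → F) = 2 * m := by rw [Module.finrank_pi]; simp; omega
  exact ⟨⟨qPlus_nondeg m, by omega⟩, Or.inl (by omega)⟩

theorem big_qMinus {m : ℕ} (hm : 3 ≤ m) {a b : F}
    (hab : ∀ z₁ z₂ : F, z₁ ^ 2 + a * z₁ * z₂ + b * z₂ ^ 2 = 0 → z₁ = 0 ∧ z₂ = 0) :
    Big (qMinus m F a b) ∧ NoTriality (qMinus m F a b) := by
  have hn : Module.finrank F ((Fin m ⊕ Fin m) ⊕ Fin 2 → F) = 2 * m + 2 := by
    rw [Module.finrank_pi]; simp; omega
  refine ⟨⟨qMinus_nondeg hab m, by omega⟩, ?_⟩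
  by_cases h : 4 ≤ m
  · exact Or.inl (by omega)
  · exact noTriality_of_small fun X hX => (qMinus_no_half hab m X hX).trans (by omega)

end CfsgLib.Known.AutPOmega
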