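import Cfsg.Agent.Lib.Known.AutPOmega.Lines

/-!
When do the root groups of two singular lines commute, and when do their products consist of root
elements only?
-/

set_option autoImplicit false
set_option linter.unusedSectionVars false

namespace CfsgLib.Known.AutPOmega

open QuadraticMap (polar polarBilin)
open CfsgLib.Classical.Quad

variable {F : Type*} [Field F] {V : Type*} [AddCommGroup V] [Module F V] {Q : QuadraticForm F V}
  [FiniteDimensional F V] [Finite F] (D : Big Q)
include D

/-- The root group of some singular line. -/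
def IsX (A : Set (POm Q)) : Prop := ∃ u v : V, Pair Q u v ∧ A = X D u v

/-- The two sets commute elementwise. -/
def CommS (A B : Set (POm Q)) : Prop := ∀ a ∈ A, ∀ b ∈ B, a * b = b * a

/-- All products are root elements. -/
def AdjS (A B : Set (POm Q)) : Prop :=
  A ≠ B ∧ ∀ a ∈ A, ∀ b ∈ B, ∃ C, IsX D C ∧ a * b ∈ C

/-- Two lines meet in zero only. -/
def Apart (u v x y : V) : Prop := ∀ z, z ∈ line F u v → z ∈ line F x y → z = 0

theorem comm_point {u v y : V} (h : Pair Q u v) (h' : Pair Q u y) :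
    CommS (X D u v) (X D u y) := by
  rintro _ ⟨s, rfl⟩ _ ⟨t, rfl⟩
  have h1 : polar Q u (s • v) = 0 := by rw [polar_smul_right', h.uv, mul_zero]
  have h2 : polar Q u (t • y) = 0 := by rw [polar_smul_right', h'.uv, mul_zero]
  show El D u (s • v) * El D u (t • y) = El D u (t • y) * El D u (s • v)
  rw [El_mul D h.qu h1 h2, El_mul D h.qu h2 h1, add_comm]

theorem comm_perp {u v x y : V} (h : Pair Q u v) (h' : Pair Q x y) (hux : polar Q x u = 0)
    (hvx : polar Q x v = 0) (huy : polar Q y u = 0) (hvy : polar Q y v = 0) :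
    CommS (X D u v) (X D x y) := by
  rintro _ ⟨s, rfl⟩ _ ⟨t, rfl⟩
  show El D u (s • v) * El D x (t • y) = El D x (t • y) * El D u (s • v)
  rw [← mul_inv_eq_iff_eq_mul, El, conj_El D _ h'.qu (by rw [polar_smul_right', h'.uv, mul_zero]),
    ac_smul, eps_sing_fix D h s hux hvx, eps_sing_fix D h s huy hvy]

theorem eps_conj_eq {g : Om Q} {x y : V} (h' : Pair Q x y)
    (e : pr Q g * El D x y = El D x y * pr Q g) :
    El D (ac g x) ((1 : F) • ac g y) = El D x ((1 : F) • y) := by
  rw [one_smul, one_smul, ← conj_El D g h'.qu h'.uv, e, mul_inv_cancel_right]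

theorem perp_of_comm {u v x y : V} (h : Pair Q u v) (h' : Pair Q x y) (ha : Apart (F := F) u v x y)
    (hc : CommS (X D u v) (X D x y)) :
    polar Q x u = 0 ∧ polar Q x v = 0 ∧ polar Q y u = 0 ∧ polar Q y v = 0 := by
  have e := hc _ ⟨1, rfl⟩ _ ⟨1, rfl⟩
  simp only [one_smul] at e
  obtain ⟨hx, hy⟩ := line_of_El_eq D (h'.map D (eps D u v)) h' one_ne_zero (eps_conj_eq D h' e)
  have key : ∀ z, z ∈ line F x y → ac (eps D u v) z ∈ line F x y →
      polar Q z u = 0 ∧ polar Q z v = 0 := by
    intro z hz hz'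
    have h1 := ac_eps_sing D h 1 z
    simp only [one_smul, one_mul, add_assoc] at h1
    have h2 : polar Q z v • u + -polar Q z u • v = 0 := by
      refine ha _ (mem_line.2 ⟨_, _, rfl⟩) ?_
      have := sub_mem hz' hz
      rwa [h1, add_sub_cancel_left] at this
    obtain ⟨h3, h4⟩ := LinearIndependent.pair_iff.1 h.li _ _ h2
    exact ⟨neg_eq_zero.1 h4, h3⟩
  exact ⟨(key x (left_mem_line x y) hx).1, (key x (left_mem_line x y) hx).2,
    (key y (right_mem_line x y) hy).1, (key y (right_mem_line x y) hy).2⟩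

/-- Coplanar lines through a point. -/
theorem adj_point {u v y : V} (h : Pair Q u v) (h' : Pair Q u y) (hvy : polar Q v y = 0)
    (hne : X D u v ≠ X D u y) : AdjS D (X D u v) (X D u y) := by
  refine ⟨hne, ?_⟩
  rintro _ ⟨s, rfl⟩ _ ⟨t, rfl⟩
  have hw : polar Q u (s • v + t • y) = 0 := by
    rw [polar_add_right', polar_smul_right', polar_smul_right', h.uv, h'.uv]; ring
  show ∃ C, IsX D C ∧ El D u (s • v) * El D u (t • y) ∈ C
  rw [El_mul D h.qu (by rw [polar_smul_right', h.uv, mul_zero])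
    (by rw [polar_smul_right', h'.uv, mul_zero])]
  by_cases hli : LinearIndependent F ![u, s • v + t • y]
  · have hQ : Q (s • v + t • y) = 0 := by
      rw [apply_add, apply_smul, apply_smul, polar_smul_left', polar_smul_right', h.qv, h'.qv, hvy]
      ring
    exact ⟨_, ⟨u, _, ⟨h.qu, hQ, hw, hli⟩, rfl⟩, 1, by simp only [one_smul]⟩
  · obtain ⟨r, hr⟩ : ∃ r : F, s • v + t • y = r • u := by
      rw [LinearIndependent.pair_iff' h.ne_zero_left] at hli
      push Not at hli
      exact ⟨_, hli.choose_spec.symm⟩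
    refine ⟨_, ⟨u, v, h, rfl⟩, 0, ?_⟩
    show El D u ((0 : F) • v) = El D u (s • v + t • y)
    have hu0 : polar Q u (r • u) = 0 := by rw [polar_smul_right', polar_self', h.qu]; ring
    rw [zero_smul, El_zero, hr, El, show eps D u (r • u) = 1 from ext_ac fun z => by
      rw [ac_eps D h.qu hu0, ac_one, apply_smul, h.qu, polar_smul_right']
      module, map_one]

/-- Lines through a point spanning a non-singular plane. -/
theorem not_adj_point {u v y : V} (h : Pair Q u v) (h' : Pair Q u y) (hvy : polar Q v y ≠ 0) :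
    ¬ AdjS D (X D u v) (X D u y) := by
  rintro ⟨-, hall⟩
  obtain ⟨_, ⟨x', y', hC, rfl⟩, t, ht⟩ := hall _ ⟨1, rfl⟩ _ ⟨1, rfl⟩
  simp only [one_smul] at ht
  rw [El_mul D h.qu h.uv h'.uv] at ht
  have hw : polar Q u (v + y) = 0 := by rw [polar_add_right', h.uv, h'.uv, add_zero]
  have hQw : Q (v + y) = polar Q v y := by rw [apply_add, h.qv, h'.qv]; ring
  obtain ⟨z, hz0, hz⟩ := exists_perp_ne D (k := 4) (by have := D.seven; omega) ![u, v + y, x', y']
  have he : eps D u (v + y) = eps D x' (t • y') :=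
    eq_of_pr D ht.symm hz0 (by rw [eps_fix D h.qu hw (hz 0) (hz 1), eps_sing_fix D hC t (hz 2) (hz 3)])
  have key : ∀ z : V, (polar Q z (v + y) - Q (v + y) * polar Q z u) • u +
      (-polar Q z u) • (v + y) ∈ line F x' y' := fun z => by
    refine mem_line.2 ⟨t * polar Q z y', -(t * polar Q z x'), ?_⟩
    have := congrArg (fun g : Om Q => ac g z) he
    simp only [ac_eps D h.qu hw, ac_eps_sing D hC, add_assoc, add_right_inj] at this
    exact this
  have hwu : v + y ∉ Submodule.span F {u} := fun hm => by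
    obtain ⟨c, hc⟩ := Submodule.mem_span_singleton.1 hm
    exact hvy (by rw [← hQw, ← hc, apply_smul, h.qu, mul_zero])
  obtain ⟨z₁, hz1, hz1'⟩ := exists_sep_polar D.nondeg hwu
  have hu' : u ∈ line F x' y' := by
    have := key z₁
    rw [QuadraticMap.polar_comm (⇑Q) z₁ (v + y), hz1, QuadraticMap.polar_comm (⇑Q) z₁ u,
      hz1' u (Submodule.mem_span_singleton_self u)] at this
    simpa using this
  obtain ⟨z₂, hz2⟩ := exists_polar_eq_one D h.ne_zero_left
  have hw' : v + y ∈ line F x' y' := by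
    have := sub_mem (Submodule.smul_mem _ (polar Q z₂ (v + y) - Q (v + y) * polar Q z₂ u) hu')
      (key z₂)
    rw [QuadraticMap.polar_comm (⇑Q) z₂ u, hz2] at this
    simpa [add_comm v y] using this
  exact hvy (by rw [← hQw]; exact hC.sing hw')

theorem not_adj_apart {u v x y : V} (h : Pair Q u v) (h' : Pair Q x y) (ha : Apart (F := F) u v x y) :
    ¬ AdjS D (X D u v) (X D x y) := by
  rintro ⟨-, hall⟩
  obtain ⟨_, ⟨x', y', hC, rfl⟩, t, ht⟩ := hall _ ⟨1, rfl⟩ _ ⟨1, rfl⟩
  obtain ⟨z, hz0, hz⟩ := exists_perp_ne D (k := 6) (by have := D.seven; omega) ![u, v, x, y, x', y']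
  have he : eps D u ((1 : F) • v) * eps D x ((1 : F) • y) = eps D x' (t • y') := by
    refine eq_of_pr D (by rw [map_mul]; exact ht.symm) hz0 ?_
    rw [ac_mul, eps_sing_fix D h' 1 (hz 2) (hz 3), eps_sing_fix D h 1 (hz 0) (hz 1),
      eps_sing_fix D hC t (hz 4) (hz 5)]
  have key : ∀ z : V, ∃ r s : F,
      r • u + s • v + (polar Q z y • x + -polar Q z x • y) ∈ line F x' y' ∧
        (polar Q z x = 0 → polar Q z y = 0 → r = polar Q z v ∧ s = -polar Q z u) := fun z => by
    have h1 := congrArg (fun g : Om Q => ac g z) he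
    simp only [ac_mul, ac_eps_sing D h, ac_eps_sing D h', ac_eps_sing D hC, one_mul] at h1
    refine ⟨polar Q (z + polar Q z y • x + -polar Q z x • y) v,
      -polar Q (z + polar Q z y • x + -polar Q z x • y) u,
      mem_line.2 ⟨t * polar Q z y', -(t * polar Q z x'), ?_⟩, fun h2 h3 => by rw [h2, h3]; simp⟩
    linear_combination (norm := module) h1
  have hv' : v ∉ Submodule.span F (Set.range ![x, y, u]) := fun hm => by
    obtain ⟨c, hc⟩ := (Submodule.mem_span_range_iff_exists_fun F).1 hm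
    simp only [Fin.sum_univ_three, Matrix.cons_val_zero, Matrix.cons_val_one, Matrix.cons_val] at hc
    have h1 : (-c 2) • u + (1 : F) • v = 0 := by
      refine ha _ (mem_line.2 ⟨_, _, rfl⟩) (mem_line.2 ⟨c 0, c 1, ?_⟩)
      rw [one_smul, neg_smul, ← hc]; abel
    exact one_ne_zero (LinearIndependent.pair_iff.1 h.li _ _ h1).2
  have hu0 : u ∉ Submodule.span F (Set.range ![x, y, v]) := fun hm => by
    obtain ⟨c, hc⟩ := (Submodule.mem_span_range_iff_exists_fun F).1 hm
    simp only [Fin.sum_univ_three, Matrix.cons_val_zero, Matrix.cons_val_one, Matrix.cons_val] at hc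
    have h1 : (1 : F) • u + (-c 2) • v = 0 := by
      refine ha _ (mem_line.2 ⟨_, _, rfl⟩) (mem_line.2 ⟨c 0, c 1, ?_⟩)
      rw [one_smul, neg_smul, ← hc]; abel
    exact one_ne_zero (LinearIndependent.pair_iff.1 h.li _ _ h1).1
  have hu : u ∈ line F x' y' := by
    obtain ⟨z, hz, hz'⟩ := exists_sep_polar D.nondeg hv'
    obtain ⟨r, s, hm, hrs⟩ := key z
    have hzx : polar Q z x = 0 := by
      rw [QuadraticMap.polar_comm]; exact hz' x (Submodule.subset_span ⟨0, rfl⟩)
    have hzy : polar Q z y = 0 := by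
      rw [QuadraticMap.polar_comm]; exact hz' y (Submodule.subset_span ⟨1, rfl⟩)
    obtain ⟨hr, hs⟩ := hrs hzx hzy
    rw [hr, hs, hzx, hzy, QuadraticMap.polar_comm (⇑Q) z v, hz, QuadraticMap.polar_comm (⇑Q) z u,
      hz' u (Submodule.subset_span ⟨2, rfl⟩)] at hm
    simpa using hm
  have hv : v ∈ line F x' y' := by
    obtain ⟨z, hz, hz'⟩ := exists_sep_polar D.nondeg hu0
    obtain ⟨r, s, hm, hrs⟩ := key z
    have hzx : polar Q z x = 0 := by
      rw [QuadraticMap.polar_comm]; exact hz' x (Submodule.subset_span ⟨0, rfl⟩)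
    have hzy : polar Q z y = 0 := by
      rw [QuadraticMap.polar_comm]; exact hz' y (Submodule.subset_span ⟨1, rfl⟩)
    obtain ⟨hr, hs⟩ := hrs hzx hzy
    rw [hr, hs, hzx, hzy, QuadraticMap.polar_comm (⇑Q) z v,
      hz' v (Submodule.subset_span ⟨2, rfl⟩), QuadraticMap.polar_comm (⇑Q) z u, hz] at hm
    simpa using hm
  have heq : line F x' y' = line F u v := by
    refine (Submodule.eq_of_le_of_finrank_le (line_le hu hv) ?_).symm
    rw [line, line, finrank_span_eq_card h.li, finrank_span_eq_card hC.li]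
  obtain ⟨z, hz, hz'⟩ := exists_sep_polar D.nondeg h'.swap.not_mem_left
  obtain ⟨r, s, hm, -⟩ := key z
  rw [QuadraticMap.polar_comm (⇑Q) z y, hz, QuadraticMap.polar_comm (⇑Q) z x,
    hz' x (Submodule.mem_span_singleton_self x), one_smul, neg_zero, zero_smul, add_zero, heq] at hm
  have hx : x ∈ line F u v := by
    have := sub_mem hm (mem_line.2 ⟨r, s, rfl⟩ : r • u + s • v ∈ line F u v)
    simpa using this
  exact h'.ne_zero_left (ha x hx (left_mem_line x y))

theorem common_point {u v x y : V} (h : Pair Q u v) (h' : Pair Q x y) (ha : ¬ Apart (F := F) u v x y) :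
    ∃ w a b, Pair Q w a ∧ Pair Q w b ∧ X D u v = X D w a ∧ X D x y = X D w b := by
  simp only [Apart, not_forall] at ha
  obtain ⟨w, hw, hw', hw0⟩ := ha
  obtain ⟨a, ha, h1, h2⟩ := exists_partner_line hw hw0
  obtain ⟨b, hb, h3, h4⟩ := exists_partner_line hw' hw0
  have hl := li_of_spans h.li h1 h2
  have hl' := li_of_spans h'.li h3 h4
  exact ⟨w, a, b, h.change hw ha hl, h'.change hw' hb hl', (X_change D h hw ha hl).symm,
    (X_change D h' hw' hb hl').symm⟩

end CfsgLib.Known.AutPOmega
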