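import Cfsg.Agent.Lib.Known.AutPOmega.Basic

/-!
Root groups of singular lines in `PΩ`.
-/

set_option autoImplicit false
set_option linter.unusedSectionVars false

namespace CfsgLib.Known.AutPOmega

open QuadraticMap (polar polarBilin)
open CfsgLib.Classical.Quad

variable {F : Type*} [Field F] {V : Type*} [AddCommGroup V] [Module F V]

/-- A basis of a totally singular line. -/
structure Pair (Q : QuadraticForm F V) (u v : V) : Prop where
  qu : Q u = 0
  qv : Q v = 0
  uv : polar Q u v = 0
  li : LinearIndependent F ![u, v]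

/-- The line spanned by two vectors. -/
abbrev line (F : Type*) [Field F] {V : Type*} [AddCommGroup V] [Module F V] (u v : V) :
    Submodule F V :=
  Submodule.span F (Set.range ![u, v])

theorem mem_line {u v z : V} : z ∈ line F u v ↔ ∃ a b : F, z = a • u + b • v := by
  rw [Submodule.mem_span_range_iff_exists_fun]
  constructor
  · rintro ⟨c, rfl⟩
    exact ⟨c 0, c 1, by simp [Fin.sum_univ_two]⟩
  · rintro ⟨a, b, rfl⟩
    exact ⟨![a, b], by simp [Fin.sum_univ_two]⟩

theorem left_mem_line (u v : V) : u ∈ line F u v := mem_line.2 ⟨1, 0, by simp⟩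

theorem right_mem_line (u v : V) : v ∈ line F u v := mem_line.2 ⟨0, 1, by simp⟩

theorem line_le {u v u' v' : V} (h : u ∈ line F u' v') (h' : v ∈ line F u' v') :
    line F u v ≤ line F u' v' := by
  intro z hz
  obtain ⟨a, b, rfl⟩ := mem_line.1 hz
  exact add_mem (Submodule.smul_mem _ a h) (Submodule.smul_mem _ b h')

theorem line_comm (u v : V) : line F u v = line F v u :=
  le_antisymm (line_le (right_mem_line v u) (left_mem_line v u))
    (line_le (right_mem_line u v) (left_mem_line u v))

theorem exists_partner_line {u v x : V} (hx : x ∈ line F u v) (hx0 : x ≠ 0) :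
    ∃ y ∈ line F u v, u ∈ line F x y ∧ v ∈ line F x y := by
  obtain ⟨a, b, rfl⟩ := mem_line.1 hx
  by_cases ha : a = 0
  · have hb : b ≠ 0 := fun hb => hx0 (by rw [ha, hb, zero_smul, zero_smul, add_zero])
    refine ⟨u, left_mem_line u v, right_mem_line _ _, mem_line.2 ⟨b⁻¹, 0, ?_⟩⟩
    rw [ha, zero_smul, zero_add, inv_smul_smul₀ hb, add_zero]
  · refine ⟨v, right_mem_line u v, mem_line.2 ⟨a⁻¹, -(a⁻¹ * b), ?_⟩, right_mem_line _ _⟩
    rw [smul_add, inv_smul_smul₀ ha, smul_smul, neg_smul]
    abel

variable {Q : QuadraticForm F V}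

theorem Pair.swap {u v : V} (h : Pair Q u v) : Pair Q v u :=
  ⟨h.qv, h.qu, by rw [QuadraticMap.polar_comm]; exact h.uv, LinearIndependent.pair_symm_iff.1 h.li⟩

theorem Pair.ne_zero_left {u v : V} (h : Pair Q u v) : u ≠ 0 := fun e => by
  simpa [e] using h.li.ne_zero 0

theorem Pair.ne_zero_right {u v : V} (h : Pair Q u v) : v ≠ 0 := h.swap.ne_zero_left

theorem Pair.not_mem_left {u v : V} (h : Pair Q u v) : u ∉ Submodule.span F {v} := fun hc => by
  obtain ⟨c, hc⟩ := Submodule.mem_span_singleton.1 hc
  exact one_ne_zero (LinearIndependent.pair_iff.1 h.li 1 (-c) (by rw [one_smul, ← hc]; module)).1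

theorem Pair.sing {u v z : V} (h : Pair Q u v) (hz : z ∈ line F u v) : Q z = 0 := by
  obtain ⟨a, b, rfl⟩ := mem_line.1 hz
  rw [apply_add, apply_smul, apply_smul, polar_smul_left', polar_smul_right', h.qu, h.qv, h.uv]
  ring

theorem Pair.perp {u v z y : V} (h : Pair Q u v) (hz : z ∈ line F u v) (hy : y ∈ line F u v) :
    polar Q z y = 0 := by
  have := apply_add (Q := Q) z y
  rw [h.sing hz, h.sing hy, h.sing (add_mem hz hy)] at this
  linear_combination -this

theorem Pair.change {u v x y : V} (h : Pair Q u v) (hx : x ∈ line F u v) (hy : y ∈ line F u v)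
    (hli : LinearIndependent F ![x, y]) : Pair Q x y := ⟨h.sing hx, h.sing hy, h.perp hx hy, hli⟩

theorem li_of_spans {u v x y : V} (hli : LinearIndependent F ![u, v]) (hu : u ∈ line F x y)
    (hv : v ∈ line F x y) : LinearIndependent F ![x, y] := by
  rw [linearIndependent_iff_card_eq_finrank_span, Set.finrank]
  refine le_antisymm ?_ (finrank_range_le_card _)
  haveI : Module.Finite F ↥(line F x y) := Module.Finite.span_of_finite F (Set.finite_range _)
  have := Submodule.finrank_mono (line_le hu hv)
  rw [finrank_span_eq_card hli] at this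
  exact this

variable [FiniteDimensional F V] [Finite F] (D : Big Q)
include D

theorem ac_eps_sing {u v : V} (h : Pair Q u v) (t : F) (z : V) :
    ac (eps D u (t • v)) z = z + (t * polar Q z v) • u + (-(t * polar Q z u)) • v := by
  rw [ac_eps D h.qu (by rw [polar_smul_right', h.uv, mul_zero]), apply_smul, h.qv, polar_smul_right',
    mul_zero, zero_mul, sub_zero, smul_smul, neg_mul, mul_comm (polar Q z u) t]

theorem eps_sing_fix {u v z : V} (h : Pair Q u v) (t : F) (hu : polar Q z u = 0)
    (hv : polar Q z v = 0) : ac (eps D u (t • v)) z = z := by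
  rw [ac_eps_sing D h, hu, hv]
  simp

theorem eps_change {u v x y : V} (h : Pair Q u v) {a b c d : F} (hx : x = a • u + b • v)
    (hy : y = c • u + d • v) (t : F) : eps D x (t • y) = eps D u ((t * (a * d - b * c)) • v) := by
  have hxm : x ∈ line F u v := mem_line.2 ⟨a, b, hx⟩
  have hym : y ∈ line F u v := mem_line.2 ⟨c, d, hy⟩
  refine ext_ac fun z => ?_
  rw [ac_eps D (h.sing hxm) (by rw [polar_smul_right', h.perp hxm hym, mul_zero]), ac_eps_sing D h,
    apply_smul, h.sing hym, polar_smul_right', hx, hy]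
  simp only [polar_add_right', polar_smul_right']
  match_scalars <;> ring

/-- The root group of a singular line. -/
def X (u v : V) : Set (POm Q) := Set.range fun t : F => El D u (t • v)

theorem one_mem_X (u v : V) : (1 : POm Q) ∈ X D u v :=
  ⟨0, by show El D u ((0 : F) • v) = 1; rw [zero_smul, El_zero]⟩

theorem X_change {u v x y : V} (h : Pair Q u v) (hx : x ∈ line F u v) (hy : y ∈ line F u v)
    (hli : LinearIndependent F ![x, y]) : X D x y = X D u v := by
  obtain ⟨a, b, hx'⟩ := mem_line.1 hx
  obtain ⟨c, d, hy'⟩ := mem_line.1 hy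
  have hd : a * d - b * c ≠ 0 := by
    intro h0
    have h1 : d • x + (-b) • y = 0 := by
      rw [hx', hy']
      match_scalars <;> first | linear_combination h0 | ring
    obtain ⟨hd0, hb0⟩ := LinearIndependent.pair_iff.1 hli d (-b) h1
    have h2 : c • x + (-a) • y = 0 := by
      rw [hx', hy']
      match_scalars <;> first | linear_combination -h0 | ring
    obtain ⟨hc0, ha0⟩ := LinearIndependent.pair_iff.1 hli c (-a) h2
    have : x = 0 := by rw [hx', neg_eq_zero.1 ha0, neg_eq_zero.1 hb0]; simp
    simpa [this] using hli.ne_zero 0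
  ext g
  constructor
  · rintro ⟨t, rfl⟩
    exact ⟨t * (a * d - b * c), by simp only [El, eps_change D h hx' hy']⟩
  · rintro ⟨s, rfl⟩
    refine ⟨s / (a * d - b * c), ?_⟩
    simp only [El]
    rw [eps_change D h hx' hy', div_mul_cancel₀ _ hd]

theorem X_swap {u v : V} (h : Pair Q u v) : X D v u = X D u v :=
  X_change D h (right_mem_line u v) (left_mem_line u v) h.swap.li

/-- Two equal non-trivial root elements have the same line. -/
theorem line_of_El_eq {u v x y : V} (h : Pair Q u v) (h' : Pair Q x y) {s t : F} (hs : s ≠ 0)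
    (e : El D u (s • v) = El D x (t • y)) : u ∈ line F x y ∧ v ∈ line F x y := by
  obtain ⟨z, hz0, hz⟩ := exists_perp_ne D (k := 4) (by have := D.seven; omega) ![u, v, x, y]
  have he : eps D u (s • v) = eps D x (t • y) := by
    refine eq_of_pr D e hz0 ?_
    rw [eps_sing_fix D h s (hz 0) (hz 1), eps_sing_fix D h' t (hz 2) (hz 3)]
  have key : ∀ w : V, (s * polar Q w v) • u + (-(s * polar Q w u)) • v ∈ line F x y := fun w => by
    refine mem_line.2 ⟨t * polar Q w y, -(t * polar Q w x), ?_⟩
    have := congrArg (fun g : Om Q => ac g w) he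
    simp only [ac_eps_sing D h, ac_eps_sing D h', add_assoc, add_right_inj] at this
    exact this
  obtain ⟨w, hw, hw'⟩ := exists_sep_polar D.nondeg h.not_mem_left
  obtain ⟨w', hw2, hw2'⟩ := exists_sep_polar D.nondeg h.swap.not_mem_left
  constructor
  · have := key w'
    rw [QuadraticMap.polar_comm (⇑Q) w' v, hw2, QuadraticMap.polar_comm (⇑Q) w' u,
      hw2' u (Submodule.mem_span_singleton_self u), mul_zero, neg_zero, zero_smul, add_zero,
      mul_one] at this
    simpa [smul_smul, inv_mul_cancel₀ hs] using Submodule.smul_mem _ s⁻¹ this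
  · have := key w
    rw [QuadraticMap.polar_comm (⇑Q) w u, hw, QuadraticMap.polar_comm (⇑Q) w v,
      hw' v (Submodule.mem_span_singleton_self v), mul_zero, zero_smul, zero_add, mul_one] at this
    simpa [smul_smul, inv_mul_cancel₀ hs] using Submodule.smul_mem _ (-s)⁻¹ this

theorem El_sing_ne_one {u v : V} (h : Pair Q u v) {t : F} (ht : t ≠ 0) : El D u (t • v) ≠ 1 := by
  intro e
  obtain ⟨z, hz0, hz⟩ := exists_perp_ne D (k := 2) (by have := D.seven; omega) ![u, v]
  have he : eps D u (t • v) = 1 :=
    eq_of_pr D (e.trans (map_one _).symm) hz0 (by rw [eps_sing_fix D h t (hz 0) (hz 1), ac_one])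
  obtain ⟨w, hw, hw'⟩ := exists_sep_polar D.nondeg h.not_mem_left
  have h1 := congrArg (fun g : Om Q => ac g w) he
  simp only [ac_eps_sing D h, ac_one, QuadraticMap.polar_comm (⇑Q) w u, hw,
    QuadraticMap.polar_comm (⇑Q) w v, hw' v (Submodule.mem_span_singleton_self v), mul_zero,
    zero_smul, add_zero, mul_one, add_eq_left] at h1
  exact ((smul_eq_zero.1 h1).elim (fun h0 => ht (neg_eq_zero.1 h0)) h.ne_zero_right).elim

theorem El_sing_inj {u v : V} (h : Pair Q u v) {s t : F} (e : El D u (s • v) = El D u (t • v)) :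
    s = t := by
  have hp : ∀ r : F, polar Q u (r • v) = 0 := fun r => by rw [polar_smul_right', h.uv, mul_zero]
  by_contra hne
  refine El_sing_ne_one D h (sub_ne_zero.2 hne) ?_
  rw [sub_smul, sub_eq_add_neg, ← neg_smul, ← El_mul D h.qu (hp _) (hp _), e,
    El_mul D h.qu (hp _) (hp _), neg_smul, add_neg_cancel, El_zero]

/-- A root group determines its line. -/
theorem line_of_X_eq {u v x y : V} (h : Pair Q u v) (h' : Pair Q x y) (e : X D u v = X D x y) :
    line F u v = line F x y := by
  have one : ∀ {u v x y : V}, Pair Q u v → Pair Q x y → X D u v = X D x y →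
      line F u v ≤ line F x y := fun {u v x y} h h' e => by
    obtain ⟨t, ht⟩ : El D u ((1 : F) • v) ∈ X D x y := e ▸ ⟨1, rfl⟩
    obtain ⟨hu, hv⟩ := line_of_El_eq D h h' one_ne_zero ht.symm
    exact line_le hu hv
  exact le_antisymm (one h h' e) (one h' h e.symm)

theorem X_eq_of_line {u v x y : V} (h : Pair Q u v) (hxy : Pair Q x y)
    (e : line F u v = line F x y) : X D x y = X D u v :=
  X_change D h (e ▸ left_mem_line x y) (e ▸ right_mem_line x y) hxy.li

theorem conj_X (g : Om Q) {u v : V} (h : Pair Q u v) :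
    (fun a => pr Q g * a * (pr Q g)⁻¹) '' X D u v = X D (ac g u) (ac g v) := by
  rw [X, X, ← Set.range_comp]
  congr 1
  funext t
  show pr Q g * El D u (t • v) * (pr Q g)⁻¹ = _
  rw [conj_El D g h.qu (by rw [polar_smul_right', h.uv, mul_zero]), ac_smul]

theorem Pair.map (g : Om Q) {u v : V} (h : Pair Q u v) : Pair Q (ac g u) (ac g v) where
  qu := by rw [Q_ac, h.qu]
  qv := by rw [Q_ac, h.qv]
  uv := by rw [polar_ac, h.uv]
  li := LinearIndependent.pair_iff.2 fun a b hab => by
    rw [← ac_smul, ← ac_smul, ← ac_add] at hab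
    exact LinearIndependent.pair_iff.1 h.li a b (ac_injective g (hab.trans (ac_zero g).symm))

end CfsgLib.Known.AutPOmega
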