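import Cfsg.Agent.Lib.Known.AutPOmega.FieldDescent
import Cfsg.Agent.Lib.Known.AutPOmega.Lines
import Cfsg.Agent.Lib.Known.BalanceCriterion
import Cfsg.Agent.Lib.Known.AutPSL.FieldCent
import Cfsg.Agent.Lib.Known.OrthFieldCent.Invariants
import Mathlib.FieldTheory.Galois.Basic

/-!
The data of the local balance criterion for a standard field automorphism of an orthogonal group.
-/

set_option autoImplicit false
set_option linter.unusedSectionVars false

namespace CfsgLib.Known.AutPOmega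

open QuadraticMap (polar polarBilin)
open CfsgLib.Classical.Quad
open CfsgLib.Known.OrthFieldCent (FormMap Invariant commute_iff mem_ker_iff exists_descent psi_commute invs)
open scoped Matrix

variable {F : Type*} [Field F] [Finite F] {ι : Type} [Fintype ι] [DecidableEq ι]
  {Q : QuadraticForm F (ι → F)}

theorem mem_zpowers_fix {p f r : ℕ} [Fact p.Prime] [Fact r.Prime] [Fintype F]
    (hF : Fintype.card F = r ^ f) (hf : 1 ≤ f) {σ : F ≃+* F} (hord : orderOf σ = p) (τ : F ≃+* F)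
    (hτ : ∀ a : fixField σ, τ a = a) : τ ∈ Subgroup.zpowers σ := by
  obtain ⟨hdvd, hL⟩ := AutPSL.exists_fixed_field hF hf σ hord
  have hfin : Module.finrank (fixField σ) F = p := by
    have h := Module.natCard_eq_pow_finrank (K := fixField σ) (V := F)
    rw [hL, ← pow_mul, Nat.card_eq_fintype_card, hF] at h
    have h2 := Nat.pow_right_injective (Fact.out : r.Prime).two_le h
    obtain ⟨d, hd⟩ := hdvd
    rw [hd, Nat.mul_div_cancel_left _ (Fact.out : p.Prime).pos, mul_comm p d] at h2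
    exact (Nat.eq_of_mul_eq_mul_left (Nat.pos_of_ne_zero fun h0 => by simp [h0] at hd; omega) h2).symm
  let φ : (F ≃ₐ[fixField σ] F) →* (F ≃+* F) :=
    { toFun := fun a => a.toRingEquiv, map_one' := rfl, map_mul' := fun _ _ => rfl }
  let σ' : F ≃ₐ[fixField σ] F := AlgEquiv.ofRingEquiv (f := σ) fun a => a.2
  let τ' : F ≃ₐ[fixField σ] F := AlgEquiv.ofRingEquiv (f := τ) hτ
  have hinj : Function.Injective φ := fun a b h => AlgEquiv.ext fun x => RingEquiv.congr_fun h x
  have hσ' : orderOf σ' = p := by rw [← orderOf_injective φ hinj]; exact hord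
  have htop : Subgroup.zpowers σ' = ⊤ :=
    Subgroup.eq_top_of_card_eq _ (by rw [Nat.card_zpowers, hσ', IsGalois.card_aut_eq_finrank, hfin])
  obtain ⟨i, hi⟩ := (htop ▸ Subgroup.mem_top τ' : τ' ∈ Subgroup.zpowers σ')
  exact ⟨i, by
    show σ ^ i = τ
    rw [show σ = φ σ' from rfl, ← map_zpow, show σ' ^ i = τ' from hi]; rfl⟩

theorem pow_four_mem {F₀ : Type*} [Field F₀] [Finite F₀] {Q₀ : QuadraticForm F₀ (ι → F₀)}
    (D : Big Q₀) (h : simGrp Q₀) : conjAut Q₀ (h ^ 4) ∈ Cfsg.Inn (Cfsg.POmega F₀ (⇑Q₀)) := by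
  have hn := seven_le_card D
  set μ := simMult h
  set z : GL ι F₀ := Matrix.GeneralLinearGroup.scalar ι μ
  have hzv : (z : Matrix ι ι F₀) = (μ : F₀) • 1 := (Matrix.smul_one_eq_diagonal (μ : F₀)).symm
  have hzm : z ∈ simGrp Q₀ := ⟨μ * μ, fun v => by
    rw [hzv, Matrix.smul_mulVec, Matrix.one_mulVec, apply_smul]; rfl⟩
  have hx : z⁻¹ * ((h : GL ι F₀) * (h : GL ι F₀)) ∈ Cfsg.isometryGroup F₀ (⇑Q₀) := fun v _ => by
    show Q₀ (((z⁻¹ * ((h : GL ι F₀) * (h : GL ι F₀)) : GL ι F₀) : Matrix ι ι F₀) *ᵥ v) = Q₀ v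
    set w := ((z⁻¹ * ((h : GL ι F₀) * (h : GL ι F₀)) : GL ι F₀) : Matrix ι ι F₀) *ᵥ v with hw
    have h1 : (z : Matrix ι ι F₀) *ᵥ w = simMat h *ᵥ (simMat h *ᵥ v) := by
      rw [hw, Matrix.mulVec_mulVec, ← Units.val_mul, mul_inv_cancel_left, Units.val_mul,
        ← Matrix.mulVec_mulVec]
    have h3 := congrArg (⇑Q₀) h1
    rw [hzv, Matrix.smul_mulVec, Matrix.one_mulVec, apply_smul, simMult_spec, simMult_spec,
      ← mul_assoc] at h3
    exact mul_left_cancel₀ (mul_ne_zero μ.ne_zero μ.ne_zero) h3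
  set x : ↥(Cfsg.isometryGroup F₀ (⇑Q₀)) := ⟨_, hx⟩
  have hx2 : x * x ∈ Cfsg.Omega F₀ (⇑Q₀) := by
    rw [← OrthFieldCent.invs_eq_one_iff D.nondeg (by omega), map_mul]
    refine Prod.ext ?_ (sqClass_mul_self _)
    have : ∀ a : Multiplicative (ZMod 2), a * a = 1 := by decide
    exact this _
  have e : h * h = ⟨z, hzm⟩ * Subgroup.inclusion (isometry_le_sim Q₀) x :=
    Subtype.ext (mul_inv_cancel_left z ((h : GL ι F₀) * (h : GL ι F₀))).symm
  have hz1 : conjAut Q₀ ⟨z, hzm⟩ = 1 :=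
    MonoidHom.mem_ker.1 ((mem_ker_iff D.nondeg hn _).2 ⟨μ, hzv⟩)
  refine ⟨QuotientGroup.mk ⟨x * x, hx2⟩, ?_⟩
  rw [show h ^ 4 = (h * h) * (h * h) by simp [pow_succ, mul_assoc], e, map_mul, map_mul,
    hz1, one_mul, ← map_mul, ← map_mul, ← conjAut_omega]
  rfl

theorem conjAut_incl {K : Type*} [Field K] [Finite K] (R : QuadraticForm K (ι → K))
    (s : ↥(Cfsg.Omega K (⇑R))) :
    conjAut R (Subgroup.inclusion (isometry_le_sim R) (s : ↥(Cfsg.isometryGroup K (⇑R)))) =
      MulAut.conj (QuotientGroup.mk s) := by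
  rw [← conjAut_omega]
  congr 1

section Std

variable (D : Big Q) {σ : F ≃+* F} {Q₀ : QuadraticForm (fixField σ) (ι → fixField σ)}
  (D₀ : Big Q₀)
  (hQ₀ : ∀ v : ι → fixField σ, Q (fun i => ((v i : fixField σ) : F)) = ((Q₀ v : fixField σ) : F))
include D D₀ hQ₀

/-- A semilinear map centralising the elements over the fixed field is scalar. -/
theorem scalar_of_comm {τ : F ≃+* F} (g : GL ι F)
    (hcomm : ∀ (s : ↥(Cfsg.Omega (fixField σ) (⇑Q₀))),
      (g : Matrix ι ι F) * (((((s : ↥(Cfsg.isometryGroup (fixField σ) (⇑Q₀))) :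
        GL ι (fixField σ)) : Matrix ι ι (fixField σ))).map (fixField σ).subtype).map τ =
        ((((s : ↥(Cfsg.isometryGroup (fixField σ) (⇑Q₀))) : GL ι (fixField σ)) :
          Matrix ι ι (fixField σ))).map (fixField σ).subtype * (g : Matrix ι ι F)) :
    (∀ a : fixField σ, τ a = a) ∧ ∃ c : Fˣ, (g : Matrix ι ι F) = (c : F) • 1 := by
  classical
  have hn0 := seven_le_card D₀
  have h5 : 5 ≤ Module.finrank (fixField σ) (ι → fixField σ) := D₀.five
  -- the matrices of the elements of `Ω` over the fixed field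
  have hmat : ∀ x : Om Q₀, ∃ M : Matrix ι ι (fixField σ), (∀ z, M *ᵥ z = ac x z) ∧
      (g : Matrix ι ι F) * (M.map (fixField σ).subtype).map τ =
        M.map (fixField σ).subtype * (g : Matrix ι ι F) := by
    intro x
    obtain ⟨s, rfl⟩ := (omegaEquiv Q₀).surjective x
    exact ⟨_, fun z => (oEquiv_apply Q₀ _ z).symm, hcomm s⟩
  have hτ : ∀ a : fixField σ, τ a = a := by
    obtain ⟨u, hu0, hu⟩ := exists_singular D₀.nondeg (by have := D₀.seven; omega)
    obtain ⟨v, -, hp, -, -⟩ := exists_pairs_at D₀ hu hu0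
    obtain ⟨M₁, hM₁, hg₁⟩ := hmat (eps D₀ u ((1 : fixField σ) • v))
    set N := M₁ - 1 with hN
    have hM : ∀ t : fixField σ, ∀ M : Matrix ι ι (fixField σ),
        (∀ z, M *ᵥ z = ac (eps D₀ u (t • v)) z) → M = 1 + t • N := fun t M hM => by
      refine Matrix.ext_of_mulVec_single fun i => ?_
      generalize (Pi.single i (1 : fixField σ) : ι → fixField σ) = z
      rw [hM, ac_eps_sing D₀ hp, Matrix.add_mulVec, Matrix.one_mulVec, Matrix.smul_mulVec, hN,
        Matrix.sub_mulVec, hM₁, ac_eps_sing D₀ hp, Matrix.one_mulVec]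
      module
    have hN0 : N ≠ 0 := by
      intro h0
      obtain ⟨z, hz, hz'⟩ := exists_sep_polar D₀.nondeg hp.swap.not_mem_left
      have h1 := hM₁ z
      rw [sub_eq_zero.1 h0, Matrix.one_mulVec, ac_eps_sing D₀ hp] at h1
      have hzu : polar Q₀ z u = 0 := by
        rw [QuadraticMap.polar_comm]; exact hz' u (Submodule.mem_span_singleton_self u)
      have hzv : polar Q₀ z v = 1 := by rw [QuadraticMap.polar_comm]; exact hz
      rw [hzu, hzv, mul_one, mul_zero, neg_zero, zero_smul, add_zero, one_smul] at h1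
      exact hu0 (add_left_cancel ((add_zero z).trans h1)).symm
    have hNF : N.map (fixField σ).subtype ≠ 0 := fun h0 => hN0 (Matrix.map_injective
      (fixField σ).subtype.injective (h0.trans (Matrix.map_zero _ (map_zero _)).symm))
    have key : ∀ t : fixField σ, τ (t : F) • ((g : Matrix ι ι F) * (N.map (fixField σ).subtype).map τ) =
        (t : F) • (N.map (fixField σ).subtype * (g : Matrix ι ι F)) := fun t => by
      obtain ⟨M, hMa, hgM⟩ := hmat (eps D₀ u (t • v))
      rw [hM t M hMa] at hgM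
      have e : ((1 : Matrix ι ι (fixField σ)) + t • N).map (fixField σ).subtype =
          1 + (t : F) • N.map (fixField σ).subtype := by
        ext i l
        by_cases hil : i = l <;> simp [hil]
      have e2 : ((1 : Matrix ι ι F) + (t : F) • N.map (fixField σ).subtype).map τ =
          1 + τ (t : F) • (N.map (fixField σ).subtype).map τ := by
        ext i l
        by_cases hil : i = l <;> simp [hil]
      rw [e, e2, mul_add, add_mul, mul_one, one_mul, Matrix.mul_smul, Matrix.smul_mul] at hgM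
      exact add_left_cancel hgM
    have k1 := key 1
    rw [OneMemClass.coe_one, map_one, one_smul, one_smul] at k1
    have hne : N.map (fixField σ).subtype * (g : Matrix ι ι F) ≠ 0 := fun h0 =>
      hNF (g.isUnit.mul_left_eq_zero.1 h0)
    intro t
    have := key t
    rw [k1] at this
    exact smul_left_injective F hne this
  refine ⟨hτ, ?_⟩
  have hlin : ∀ π : F →ₗ[fixField σ] fixField σ, ∃ c : fixField σ,
      (g : Matrix ι ι F).map π = c • 1 := by
    intro π
    obtain ⟨c, hc⟩ := scalar_of_comm_eich D₀.nondeg (by have := D₀.seven; exact this)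
      (Matrix.toLin' ((g : Matrix ι ι F).map π)) fun w a hw ha z => by
        obtain ⟨M, hM, hgM⟩ := hmat (eichΩ D₀.nondeg h5 hw ha)
        have hMτ : (M.map (fixField σ).subtype).map τ = M.map (fixField σ).subtype :=
          Matrix.ext fun i l => hτ (M i l)
        rw [hMτ] at hgM
        have e : (g : Matrix ι ι F).map π * M = M * (g : Matrix ι ι F).map π := by
          refine Matrix.ext fun i l => ?_
          have h1 := congrArg π (congrFun₂ hgM i l)
          simp only [Matrix.mul_apply, Matrix.map_apply, map_sum] at h1 ⊢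
          have e1 : ∀ k, π ((g : Matrix ι ι F) i k * (fixField σ).subtype (M k l)) =
              π ((g : Matrix ι ι F) i k) * M k l := fun k => by
            rw [mul_comm, show (fixField σ).subtype (M k l) * (g : Matrix ι ι F) i k =
              M k l • (g : Matrix ι ι F) i k from rfl, map_smul, smul_eq_mul, mul_comm]
          have e2 : ∀ k, π ((fixField σ).subtype (M i k) * (g : Matrix ι ι F) k l) =
              M i k * π ((g : Matrix ι ι F) k l) := fun k => by
            rw [show (fixField σ).subtype (M i k) * (g : Matrix ι ι F) k l =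
              M i k • (g : Matrix ι ι F) k l from rfl, map_smul, smul_eq_mul]
          simp only [e1, e2] at h1
          exact h1
        rw [Matrix.toLin'_apply, Matrix.toLin'_apply,
          show (eich D₀.nondeg hw ha : (ι → fixField σ) ≃ₗ[fixField σ] _) z =
            ac (eichΩ D₀.nondeg h5 hw ha) z from rfl,
          show (eich D₀.nondeg hw ha : (ι → fixField σ) ≃ₗ[fixField σ] _)
              ((g : Matrix ι ι F).map π *ᵥ z) =
            ac (eichΩ D₀.nondeg h5 hw ha) ((g : Matrix ι ι F).map π *ᵥ z) from rfl,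
          ← hM, ← hM, Matrix.mulVec_mulVec, Matrix.mulVec_mulVec, e]
    exact ⟨c, Matrix.toLin'.injective (LinearMap.ext fun v => by
      rw [hc, Matrix.toLin'_apply, Matrix.smul_mulVec, Matrix.one_mulVec])⟩
  haveI : Nonempty ι := Fintype.card_pos_iff.1 (by omega)
  obtain ⟨o⟩ := ‹Nonempty ι›
  set b := Module.Basis.ofVectorSpace (fixField σ) F
  have hfun : ∀ i l, (g : Matrix ι ι F) i l = if i = l then (g : Matrix ι ι F) o o else 0 := by
    intro i l
    refine b.ext_elem fun k => ?_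
    obtain ⟨c, hc⟩ := hlin (b.coord k)
    have h1 := congrFun₂ hc i l
    have h2 := congrFun₂ hc o o
    simp at h1 h2
    split_ifs with hil
    · subst hil; simp at h1; rw [h1, h2]
    · simp [hil] at h1; rw [h1, map_zero]; rfl
  have hg0 : (g : Matrix ι ι F) o o ≠ 0 := fun h0 => g.ne_zero (Matrix.ext fun i l => by
    rw [hfun i l, h0, ite_self]; rfl)
  refine ⟨Units.mk0 _ hg0, Matrix.ext fun i l => ?_⟩
  rw [hfun i l]
  by_cases hil : i = l <;> simp [hil]

theorem balance_data (hσ : Invariant Q σ) {p f r : ℕ} [Fact p.Prime] [Fact r.Prime] [Fintype F]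
    (hF : Fintype.card F = r ^ f) (hf : 1 ≤ f) (hord : orderOf σ = p) (hT : NoTriality Q)
    (h2dvd : p = 2 → 2 ∣ Nat.card (Cfsg.POmega (fixField σ) (⇑Q₀)))
    {φ : MulAut (Cfsg.POmega F (⇑Q))} (hφ : Cfsg.IsFieldAutPOmegaOf (⇑Q) σ φ) :
    Balance.Data p φ := by
  classical
  have hn := seven_le_card D
  have hn0 := seven_le_card D₀
  haveI : Nonempty ι := Fintype.card_pos_iff.1 (by omega)
  haveI : Finite (fixField σ) := inferInstance
  have hp : p.Prime := Fact.out
  have hφi := ind_field hσ hφ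
  have hφord : orderOf φ = p := (OrthFieldCent.orderOf_isField D.nondeg hn hσ hφ).trans hord
  obtain ⟨Φ, hΦ, hker⟩ := exists_field_hom D hT
  have hinn : Cfsg.Inn (Cfsg.POmega F (⇑Q)) ≤ Φ.ker := by
    rw [hker, pgoAut_eq, inn_eq]
    exact Subgroup.map_le_range _ _
  have hnot : φ ∉ Cfsg.Inn (Cfsg.POmega F (⇑Q)) := fun h => by
    have h1 := MonoidHom.mem_ker.1 (hinn h)
    rw [hΦ _ _ _ hφi] at h1
    rw [h1, orderOf_one] at hord
    exact hp.one_lt.ne hord
  let d : FormMap Q₀ Q :=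
    { j := (fixField σ).subtype, e := Equiv.refl _, A := 1, μ := 1
      spec := fun v => by simpa using hQ₀ v }
  have hA : (1 : GL ι F) * semiMap σ d.A = d.A := by rw [one_mul, show d.A = 1 from rfl, map_one]
  have hj : ∀ a : F, σ a = a ↔ a ∈ d.j.range := fun a =>
    ⟨fun h => ⟨⟨a, h⟩, rfl⟩, fun ⟨b, hb⟩ => hb ▸ b.2⟩
  -- the copy of the small group
  have hmap : ∀ k : simGrp Q₀, conjAut Q₀ k = 1 → conjAut Q (d.psi k) = 1 := fun k hk => by
    have h1 : k ∈ (conjAut Q₀).ker := hk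
    rw [ker_conjAut D₀.nondeg hn0] at h1
    have h2 : d.psi k ∈ scalS Q := (d.base_scalar_iff _).2 h1
    rw [← ker_conjAut D.nondeg hn] at h2
    exact h2
  let ω₀ : ↥(Cfsg.Omega (fixField σ) (⇑Q₀)) →* MulAut (Cfsg.POmega F (⇑Q)) :=
    (conjAut Q).comp (d.psi.comp ((Subgroup.inclusion (isometry_le_sim Q₀)).comp
      (Cfsg.Omega (fixField σ) (⇑Q₀)).subtype))
  have hω₀ : ∀ s : ↥(Cfsg.Omega (fixField σ) (⇑Q₀)), conjAut Q₀ (Subgroup.inclusion (isometry_le_sim Q₀)
      (s : ↥(Cfsg.isometryGroup (fixField σ) (⇑Q₀)))) = MulAut.conj (QuotientGroup.mk s) :=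
    fun s => conjAut_incl Q₀ s
  have hcen : Subgroup.center (Cfsg.Omega (fixField σ) (⇑Q₀)) ≤ ω₀.ker := fun s hs => by
    have h1 : conjAut Q₀ (Subgroup.inclusion (isometry_le_sim Q₀)
        (s : ↥(Cfsg.isometryGroup (fixField σ) (⇑Q₀)))) = 1 := by
      rw [hω₀, (QuotientGroup.eq_one_iff s).2 hs, map_one]
    have h2 := hmap _ h1
    exact MonoidHom.mem_ker.2 h2
  let ω : Cfsg.POmega (fixField σ) (⇑Q₀) →* MulAut (Cfsg.POmega F (⇑Q)) := QuotientGroup.lift _ ω₀ hcen
  have hωinj : Function.Injective ω := (injective_iff_map_eq_one _).2 fun x hx => by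
    obtain ⟨s, rfl⟩ := QuotientGroup.mk'_surjective _ x
    have h1 : d.psi (Subgroup.inclusion (isometry_le_sim Q₀)
        (s : ↥(Cfsg.isometryGroup (fixField σ) (⇑Q₀)))) ∈ (conjAut Q).ker := hx
    rw [ker_conjAut D.nondeg hn] at h1
    have h2 := (d.base_scalar_iff _).1 h1
    have h3 : Subgroup.inclusion (isometry_le_sim Q₀)
        (s : ↥(Cfsg.isometryGroup (fixField σ) (⇑Q₀))) ∈ (conjAut Q₀).ker := by
      rw [ker_conjAut D₀.nondeg hn0]; exact h2
    rw [MonoidHom.mem_ker, hω₀] at h3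
    exact Balance.conj_injective (center_POmega_eq_bot D₀) (h3.trans (map_one _).symm)
  set C := Cfsg.Inn (Cfsg.POmega F (⇑Q)) ⊓ Subgroup.centralizer {φ} with hC
  have hωC : ∀ x, ω x ∈ C := fun x => by
    obtain ⟨s, rfl⟩ := QuotientGroup.mk'_surjective _ x
    refine Subgroup.mem_inf.2 ⟨?_, Subgroup.mem_centralizer_singleton_iff.2 ?_⟩
    · have hmem : d.isoMap (s : ↥(Cfsg.isometryGroup (fixField σ) (⇑Q₀))) ∈ Cfsg.Omega F (⇑Q) := by
        have h1 : Subgroup.map d.isoMap ⁅(⊤ : Subgroup ↥(Cfsg.isometryGroup (fixField σ) (⇑Q₀))), ⊤⁆ ≤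
            ⁅(⊤ : Subgroup ↥(Cfsg.isometryGroup F (⇑Q))), ⊤⁆ := by
          rw [Subgroup.map_commutator]
          exact Subgroup.commutator_mono le_top le_top
        exact h1 (Subgroup.mem_map_of_mem _ s.2)
      exact ⟨QuotientGroup.mk ⟨_, hmem⟩, (conjAut_omega (Q := Q) ⟨_, hmem⟩).symm⟩
    · exact psi_commute D.nondeg hn d hσ.pair hφi.induced hj hA _
  -- the centraliser of the copy
  have hcent : ∀ y : MulAut (Cfsg.POmega F (⇑Q)), (∀ x, ω x * y = y * ω x) →
      y ∈ Subgroup.zpowers φ := by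
    intro y hy
    obtain ⟨g, τ, hgp, hgi⟩ := exists_induced D hT y
    have hsc : ∀ s : ↥(Cfsg.Omega (fixField σ) (⇑Q₀)), ∃ c : Fˣ,
        ((g * semiMap τ (d.psi (Subgroup.inclusion (isometry_le_sim Q₀)
          (s : ↥(Cfsg.isometryGroup (fixField σ) (⇑Q₀)))) : GL ι F) * g⁻¹ : GL ι F) : Matrix ι ι F) =
          (c : F) • simMat (d.psi (Subgroup.inclusion (isometry_le_sim Q₀)
          (s : ↥(Cfsg.isometryGroup (fixField σ) (⇑Q₀))))) :=
      fun s => (commute_iff D.nondeg hn hgp hgi _).1 (hy (QuotientGroup.mk s))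
    let P : ↥(Cfsg.Omega (fixField σ) (⇑Q₀)) →* GL ι F :=
      (simGrp Q).subtype.comp (d.psi.comp ((Subgroup.inclusion (isometry_le_sim Q₀)).comp
        (Cfsg.Omega (fixField σ) (⇑Q₀)).subtype))
    choose c hc using hsc
    have huniq : ∀ (A : GL ι F) (a b : F), a • (A : Matrix ι ι F) = b • (A : Matrix ι ι F) → a = b :=
      fun A a b h => smul_left_injective F A.ne_zero h
    let χ : ↥(Cfsg.Omega (fixField σ) (⇑Q₀)) →* Fˣ := MonoidHom.mk' c fun s t => by
      refine Units.ext (huniq (P (s * t)) _ _ ?_)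
      rw [Units.val_mul]
      refine (hc (s * t)).symm.trans ?_
      show ((g * semiMap τ (P (s * t)) * g⁻¹ : GL ι F) : Matrix ι ι F) =
        ((c s : F) * (c t : F)) • ((P (s * t) : GL ι F) : Matrix ι ι F)
      rw [map_mul, map_mul, show g * (semiMap τ (P s) * semiMap τ (P t)) * g⁻¹ =
        (g * semiMap τ (P s) * g⁻¹) * (g * semiMap τ (P t) * g⁻¹) by group, Units.val_mul,
        show ((g * semiMap τ (P s) * g⁻¹ : GL ι F) : Matrix ι ι F) = (c s : F) • ((P s : GL ι F) :
          Matrix ι ι F) from hc s,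
        show ((g * semiMap τ (P t) * g⁻¹ : GL ι F) : Matrix ι ι F) = (c t : F) • ((P t : GL ι F) :
          Matrix ι ι F) from hc t, Matrix.smul_mul, Matrix.mul_smul, smul_smul, Units.val_mul]
    have hχ : ∀ s, c s = 1 := fun s => by
      have h1 : commutator ↥(Cfsg.Omega (fixField σ) (⇑Q₀)) ≤ χ.ker := Abelianization.commutator_subset_ker χ
      rw [commutator_Omega_top D₀.nondeg hn0] at h1
      exact h1 (Subgroup.mem_top s)
    obtain ⟨hτ, cg, hcg⟩ := scalar_of_comm D D₀ hQ₀ (τ := τ) g fun s => by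
      have h1 := hc s
      rw [hχ s, Units.val_one, one_smul] at h1
      have hPs : simMat (d.psi (Subgroup.inclusion (isometry_le_sim Q₀)
          (s : ↥(Cfsg.isometryGroup (fixField σ) (⇑Q₀))))) =
          (((s : ↥(Cfsg.isometryGroup (fixField σ) (⇑Q₀))) : GL ι (fixField σ)) :
            Matrix ι ι (fixField σ)).map (fixField σ).subtype := by
        show ((d.base _ : GL ι F) : Matrix ι ι F) = _
        rw [FormMap.coe_base, show d.A = 1 from rfl, one_mul, inv_one, mul_one, FormMap.coe_lift]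
        rfl
      have h2 : g * semiMap τ (P s) = P s * g := by
        rw [← mul_inv_eq_iff_eq_mul]; exact Units.ext h1
      have h3 := congrArg Units.val h2
      rw [Units.val_mul, Units.val_mul, coe_semiMap] at h3
      rw [show ((P s : GL ι F) : Matrix ι ι F) = _ from hPs] at h3
      exact h3
    haveI : Finite (F ≃+* F) := Finite.of_injective (fun e => (e : F → F)) DFunLike.coe_injective
    obtain ⟨i, hi⟩ := (IsOfFinOrder.mem_powers_iff_mem_zpowers (isOfFinOrder_of_finite σ)).2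
      (mem_zpowers_fix hF hf hord τ hτ)
    have hgs : g ∈ simGrp Q := ⟨cg * cg, fun v => by
      rw [hcg, Matrix.smul_mulVec, Matrix.one_mulVec, apply_smul]; rfl⟩
    have hz : conjAut Q ⟨g, hgs⟩ = 1 := MonoidHom.mem_ker.1 ((mem_ker_iff D.nondeg hn _).2 ⟨cg, hcg⟩)
    have hI : Ind Q 1 τ (φ ^ i) := by
      rw [← show σ ^ i = τ from hi]
      exact ind_field (hσ.pow i) (OrthFieldCent.isField_pow hσ hφ i)
    have h4 := (ind_conjAut (⟨g, hgs⟩ : simGrp Q)).mul hI
    rw [hz, one_mul, map_one, mul_one, show τ.trans (RingEquiv.refl F) = τ from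
      RingEquiv.ext fun _ => rfl] at h4
    rw [Ind.unique (⟨hgp, hgi⟩ : Ind Q g τ y) h4]
    exact pow_mem (Subgroup.mem_zpowers φ) i
  refine ⟨hnot, fun h => ?_, fun y _ hy => hcent y fun x => hy _ (hωC x), ?_⟩
  · haveI := isSimpleGroup_POmega D₀.nondeg hn0
    obtain ⟨x, hx⟩ := exists_ne (1 : Cfsg.POmega (fixField σ) (⇑Q₀))
    refine hx (hωinj ?_)
    have := hωC x
    rw [hC, h, Subgroup.mem_bot] at this
    rw [this, map_one]
  intro hdvd N hNC hNn hNp
  have hrep : ∀ c ∈ C, ∃ h : simGrp Q₀, c = conjAut Q (d.psi h) := fun c hc => by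
    obtain ⟨hc1, hc2⟩ := Subgroup.mem_inf.1 hc
    rw [inn_eq] at hc1
    obtain ⟨k, -, rfl⟩ := hc1
    obtain ⟨h, hh⟩ := exists_descent D.nondeg hn D₀.nondeg d hσ.pair hφi.induced hj hA k
      (Subgroup.mem_centralizer_singleton_iff.1 hc2)
    rw [MonoidHom.mem_ker, map_mul, map_inv, inv_mul_eq_one] at hh
    exact ⟨h, hh⟩
  have htrans : ∀ (h : simGrp Q₀) (x : Cfsg.POmega (fixField σ) (⇑Q₀)),
      conjAut Q₀ h = MulAut.conj x → conjAut Q (d.psi h) = ω x := fun h x hx => by
    obtain ⟨s, rfl⟩ := QuotientGroup.mk'_surjective _ x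
    have h1 : conjAut Q₀ (h * (Subgroup.inclusion (isometry_le_sim Q₀)
        (s : ↥(Cfsg.isometryGroup (fixField σ) (⇑Q₀))))⁻¹) = 1 := by
      rw [map_mul, map_inv, hx, hω₀, mul_inv_eq_one]; rfl
    have h2 := hmap _ h1
    rw [map_mul, map_inv, map_mul, map_inv, mul_inv_eq_one] at h2
    exact h2
  have hnorm : ∀ c ∈ C, ∀ x, c * ω x * c⁻¹ ∈ ω.range := fun c hc x => by
    obtain ⟨h, rfl⟩ := hrep c hc
    obtain ⟨s, rfl⟩ := QuotientGroup.mk'_surjective _ x
    refine ⟨conjAut Q₀ h (QuotientGroup.mk s), ?_⟩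
    show ω _ = conjAut Q (d.psi h) * conjAut Q (d.psi (Subgroup.inclusion (isometry_le_sim Q₀)
      (s : ↥(Cfsg.isometryGroup (fixField σ) (⇑Q₀))))) * (conjAut Q (d.psi h))⁻¹
    rw [← map_mul, ← map_inv, ← map_mul, ← map_mul, ← map_inv, ← map_mul]
    refine (htrans _ _ ?_).symm
    rw [map_mul, map_mul, map_inv, hω₀, Balance.conj_mul_aut]
  haveI : Finite (MulAut (Cfsg.POmega F (⇑Q))) :=
    Finite.of_injective (fun a => (a : Cfsg.POmega F (⇑Q) → Cfsg.POmega F (⇑Q))) DFunLike.coe_injective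
  haveI := isSimpleGroup_POmega D₀.nondeg hn0
  have hdL : p ∣ Nat.card (Cfsg.POmega (fixField σ) (⇑Q₀)) := by
    rcases hp.eq_two_or_odd' with h2 | hodd
    · rw [h2]; exact h2dvd h2
    · obtain ⟨⟨c, hc⟩, hco⟩ := exists_prime_orderOf_dvd_card' p hdvd
      rw [← Subgroup.orderOf_coe] at hco
      change orderOf c = p at hco
      obtain ⟨h, he⟩ := hrep c hc
      obtain ⟨x, hx⟩ := pow_four_mem D₀ h
      have h4 : c ^ 4 ∈ ω.range := ⟨x, by
        rw [he, ← map_pow, ← map_pow]; exact (htrans _ _ hx.symm).symm⟩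
      have hcop : Nat.Coprime 4 (orderOf c) := by
        rw [hco, show (4 : ℕ) = 2 ^ 2 from rfl]
        exact Nat.Coprime.pow_left 2 (hp.coprime_iff_not_dvd.2 fun h => by
          obtain ⟨t, ht⟩ := hodd
          have := Nat.le_of_dvd two_pos h
          have := hp.two_le
          omega).symm
      have hmem : c ∈ ω.range := by
        obtain ⟨u, hu⟩ := exists_pow_eq_self_of_coprime hcop
        rw [← hu]; exact pow_mem h4 u
      rw [Nat.card_congr (MonoidHom.ofInjective hωinj).toEquiv, ← hco,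
        ← Subgroup.orderOf_mk c hmem]
      exact orderOf_dvd_natCard _
  haveI hN0 : (N.comap ω).Normal := ⟨fun x hx y => by
    rw [Subgroup.mem_comap, map_mul, map_mul, map_inv]
    exact hNn _ (hωC y) _ hx⟩
  have hbot : N.comap ω = ⊥ := hN0.eq_bot_or_eq_top.resolve_right fun htop => hNp (by
    refine hdL.trans ?_
    rw [Nat.card_congr (MonoidHom.ofInjective hωinj).toEquiv]
    refine Subgroup.card_dvd_of_le ?_
    rintro _ ⟨x, rfl⟩
    exact Subgroup.mem_comap.1 (htop ▸ Subgroup.mem_top x))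
  rw [eq_bot_iff]
  intro n hn'
  rw [Subgroup.mem_bot]
  have hfix : ∀ x, ω x * n = n * ω x := fun x => by
    obtain ⟨z, hz⟩ := hnorm n (hNC hn') x
    have hmem : ω (z * x⁻¹) ∈ N := by
      rw [map_mul, map_inv, hz, show n * ω x * n⁻¹ * (ω x)⁻¹ = n * (ω x * n⁻¹ * (ω x)⁻¹) by group]
      exact mul_mem hn' (hNn _ (hωC x) _ (inv_mem hn'))
    have h1 : z * x⁻¹ = 1 := Subgroup.mem_bot.1 (hbot ▸ (Subgroup.mem_comap.2 hmem))
    rw [mul_inv_eq_one.1 h1] at hz
    exact eq_mul_inv_iff_mul_eq.1 hz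
  obtain ⟨i, hi⟩ := hcent n hfix
  by_contra hne
  refine hnot ?_
  have h2 : orderOf n = p := by
    rcases (Nat.dvd_prime hp).1 (hφord ▸ orderOf_dvd_of_mem_zpowers ⟨i, hi⟩) with h | h
    · exact absurd (orderOf_eq_one_iff.1 h) hne
    · exact h
  have h3 : Subgroup.zpowers n = Subgroup.zpowers φ :=
    Subgroup.eq_of_le_of_card_ge (Subgroup.zpowers_le.2 ⟨i, hi⟩)
      (by rw [Nat.card_zpowers, Nat.card_zpowers, h2, hφord])
  exact (Subgroup.zpowers_le.2 (Subgroup.mem_inf.1 (hNC hn')).1 : Subgroup.zpowers n ≤ _)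
    (h3 ▸ Subgroup.mem_zpowers φ)

end Std

end CfsgLib.Known.AutPOmega
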