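import Cfsg.Agent.Lib.Known.BalancePSL.Reflect
import Cfsg.Agent.Lib.Classical.Quad.InvolutiveSimilarity
import Mathlib.LinearAlgebra.Matrix.ToLin
import Mathlib.LinearAlgebra.QuadraticForm.Basic

/-!
Auxiliary facts on orthogonal spaces for the local balance criterion of minus type: groups of
similitudes normalised by the isometries, pairs of vectors and traces of products of reflections.
-/

set_option autoImplicit false
set_option linter.unusedSectionVars false

namespace CfsgLib.Known.AutPOmega

open QuadraticMap (polar polarBilin)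
open CfsgLib.Classical.Quad
open scoped Matrix

/-- A group of similitudes normalised by all isometries, in which every element has an odd power
that is scalar, consists of scalars. -/
theorem scalar_of_normalized_space {K : Type*} [Field K] [Finite K] {W : Type*} [AddCommGroup W]
    [Module K W] [FiniteDimensional K W] (B : LinearMap.BilinForm K W) (hsym : ∀ u v, B u v = B v u)
    (hB : B.Nondegenerate) (h2 : (2 : K) ≠ 0) (hn : 3 ≤ Module.finrank K W)
    (M : Subgroup (W ≃ₗ[K] W))
    (hnorm : ∀ h : W ≃ₗ[K] W, (∀ u v, B (h u) (h v) = B u v) → ∀ e ∈ M, h * e * h⁻¹ ∈ M)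
    (hpow : ∀ e ∈ M, ∃ o : ℕ, Odd o ∧ ∃ c : K, ∀ w, (e ^ o) w = c • w)
    (hsim : ∀ e ∈ M, ∃ c : K, ∀ u v, B (e u) (e v) = c * B u v)
    {e : W ≃ₗ[K] W} (he : e ∈ M) : ∃ c : K, ∀ w, e w = c • w := by
  classical
  haveI : Fintype K := Fintype.ofFinite K
  haveI : Invertible (2 : K) := invertibleOfNonzero h2
  obtain ⟨b, hb⟩ := LinearMap.BilinForm.exists_orthogonal_basis (B := B) ⟨fun x y => hsym x y⟩
  set d : Fin (Module.finrank K W) → K := fun i => B (b i) (b i) with hd
  have hoff : ∀ i j, i ≠ j → B (b i) (b j) = 0 := fun i j h => hb h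
  have hd0 : ∀ i, d i ≠ 0 := fun i h0 => b.ne_zero i (hB.1 (b i) fun w => by
    rw [← b.sum_repr w, map_sum, Finset.sum_eq_single i]
    · rw [map_smul, show B (b i) (b i) = 0 from h0, smul_zero]
    · intro j _ hji
      rw [map_smul, hoff i j (Ne.symm hji), smul_zero]
    · exact fun h => absurd (Finset.mem_univ i) h)
  have hBd : ∀ u v, B u v = BalancePSL.herm d (RingEquiv.refl K) (b.equivFun u) (b.equivFun v) := by
    intro u v
    conv_lhs => rw [← b.sum_equivFun u, ← b.sum_equivFun v]
    rw [LinearMap.BilinForm.sum_left]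
    refine Finset.sum_congr rfl fun i _ => ?_
    rw [map_smul, LinearMap.smul_apply, map_sum, Finset.sum_eq_single i]
    · rw [map_smul, smul_eq_mul, smul_eq_mul]
      show _ = d i * _ * _
      simp only [hd, RingEquiv.refl_apply]
      ring
    · intro j _ hji
      rw [map_smul, hoff i j (Ne.symm hji), smul_zero]
    · exact fun h => absurd (Finset.mem_univ i) h
  let Φ : (W ≃ₗ[K] W) ≃* GL (Fin (Module.finrank K W)) K :=
    (LinearMap.GeneralLinearGroup.generalLinearEquiv K W).symm.trans
      (Units.mapEquiv (LinearMap.toMatrixAlgEquiv b).toMulEquiv)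
  have hΦ : ∀ (f : W ≃ₗ[K] W) w,
      (Φ f : Matrix (Fin (Module.finrank K W)) (Fin (Module.finrank K W)) K) *ᵥ b.equivFun w =
        b.equivFun (f w) :=
    fun f w => LinearMap.toMatrix_mulVec_repr b b (f : W →ₗ[K] W) w
  have hone : ∀ (f : W ≃ₗ[K] W) (c : K),
      (Φ f : Matrix (Fin (Module.finrank K W)) (Fin (Module.finrank K W)) K) = c • 1 ↔
        ∀ w, f w = c • w := by
    intro f c
    constructor
    · intro h w
      refine b.equivFun.injective ?_
      rw [← hΦ, h, Matrix.smul_mulVec, Matrix.one_mulVec, map_smul]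
    · intro h
      refine BalancePSL.mat_eq_of_mulVec fun x => ?_
      obtain ⟨w, rfl⟩ := b.equivFun.surjective x
      rw [hΦ, h, map_smul, Matrix.smul_mulVec, Matrix.one_mulVec]
  have H : BalancePSL.HermData d (RingEquiv.refl K) := ⟨fun _ => rfl, hd0, fun _ => rfl⟩
  refine (BalancePSL.scalar_of_normalized H h2 hn (M := M.map Φ.toMonoidHom) ?_ ?_
    (fun ⟨x, hx⟩ => absurd rfl hx) ?_ (g := Φ e) (Subgroup.mem_map_of_mem Φ.toMonoidHom he)).elim
    fun c hc => ⟨c, (hone e c).1 hc⟩
  · rintro h hh _ ⟨f, hf, rfl⟩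
    obtain ⟨h', rfl⟩ := Φ.surjective h
    refine ⟨h' * f * h'⁻¹, hnorm h' (fun u v => ?_) f hf, by simp⟩
    rw [hBd, hBd, ← hΦ, ← hΦ]
    exact hh _ _
  · rintro _ ⟨f, hf, rfl⟩ ⟨c, hc⟩
    obtain ⟨o, ⟨t, rfl⟩, c', hc'⟩ := hpow f hf
    have hff : ∀ w, (f * f) w = c • w := (hone _ c).1 (by
      rw [MulEquiv.coe_toMonoidHom] at hc
      rw [map_mul]; exact hc)
    have hft : ∀ (t : ℕ) w, (f ^ (2 * t)) w = (c ^ t) • w := fun t => by
      induction t with
      | zero => intro w; simp
      | succ t ih =>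
        intro w
        rw [show 2 * (t + 1) = 2 * t + 2 by ring, pow_add, LinearEquiv.mul_apply, sq, ih, hff,
          smul_smul, pow_succ]
    refine ⟨(c ^ t)⁻¹ * c', (hone f _).2 fun w => ?_⟩
    have h1 := hc' w
    rw [pow_succ, LinearEquiv.mul_apply, hft] at h1
    have hct : c ^ t ≠ 0 := fun h0 => by
      have hW : Nontrivial W := Module.nontrivial_of_finrank_pos (R := K) (by omega)
      obtain ⟨w', hw'⟩ := exists_ne (0 : W)
      refine hw' ((f ^ (2 * t)).injective ?_)
      rw [hft, h0, zero_smul, map_zero]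
    rw [← smul_smul, eq_inv_smul_iff₀ hct]
    exact h1
  · rintro _ ⟨f, hf, rfl⟩
    obtain ⟨c, hc⟩ := hsim f hf
    refine ⟨c, fun u v => ?_⟩
    obtain ⟨u, rfl⟩ := b.equivFun.surjective u
    obtain ⟨v, rfl⟩ := b.equivFun.surjective v
    rw [MulEquiv.coe_toMonoidHom, hΦ, hΦ, ← hBd, ← hBd, hc]

/-- Two vectors of the same value with a prescribed polar form. -/
theorem exists_value_pair {K : Type*} [Field K] [Finite K] {W : Type*} [AddCommGroup W] [Module K W]
    [FiniteDimensional K W] {R : QuadraticForm K W} (hR : (polarBilin R).Nondegenerate)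
    (h2 : (2 : K) ≠ 0) (hn : 3 ≤ Module.finrank K W) {e : K} (he : e ≠ 0) (c : K) :
    ∃ v w, R v = e ∧ R w = e ∧ polar R v w = c * e := by
  obtain ⟨v, hv⟩ := exists_apply_eq hR (by omega) he
  have hv0 : v ≠ 0 := fun h => he (by rw [← hv, h, QuadraticMap.map_zero])
  obtain ⟨u, hu, huv⟩ : ∃ u, R u = e * (1 - c / 2 * (c / 2)) ∧ polar R v u = 0 := by
    by_cases h : e * (1 - c / 2 * (c / 2)) = 0
    · exact ⟨0, by rw [QuadraticMap.map_zero, h], QuadraticMap.polar_zero_right _ _⟩
    · obtain ⟨u, hu, hP⟩ := exists_apply_eq_perp_nondeg hR (P := Submodule.span K {v})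
        (fun x hx hxy => by
          obtain ⟨l, rfl⟩ := Submodule.mem_span_singleton.1 hx
          have h1 := hxy v (Submodule.mem_span_singleton_self v)
          rw [polar_smul_left', polar_self', hv] at h1
          rw [(mul_eq_zero.1 h1).resolve_right (mul_ne_zero h2 he), zero_smul])
        (by rw [finrank_span_singleton hv0]; omega) h
      exact ⟨u, hu, hP v (Submodule.mem_span_singleton_self v)⟩
  refine ⟨v, (c / 2) • v + u, hv, ?_, ?_⟩
  · rw [apply_add, apply_smul, polar_smul_left', hv, hu, huv]; ring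
  · rw [polar_add_right', polar_smul_right', polar_self', hv, huv]
    field_simp
    ring

/-- The trace of a product of two reflections. -/
theorem trace_rO_pair {F : Type*} [Field F] {ι : Type} [Fintype ι] [DecidableEq ι]
    {Q : QuadraticForm F (ι → F)} {v w : ι → F} {c : F} (hv : Q v = 1) (hw : Q w = 1)
    (hvw : polar Q v w = c) (hv0 : Q v ≠ 0) (hw0 : Q w ≠ 0) :
    (((rO hv0 * rO hw0 : ↥(Cfsg.isometryGroup F (⇑Q))) : GL ι F) : Matrix ι ι F).trace =
      (Fintype.card ι : F) - 4 + c ^ 2 := by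
  set a := (polarBilin Q).flip v
  set b := (polarBilin Q).flip w
  have hlin : Matrix.toLin' (((rO hv0 * rO hw0 : ↥(Cfsg.isometryGroup F (⇑Q))) : GL ι F) :
      Matrix ι ι F) = LinearMap.id - a.smulRight v - b.smulRight w + (a w) • b.smulRight v := by
    refine LinearMap.ext fun z => ?_
    rw [Matrix.toLin'_apply, Subgroup.coe_mul, Units.val_mul, ← Matrix.mulVec_mulVec, rO_mulVec,
      rO_mulVec]
    simp only [reflMap_apply, hv, hw, inv_one, one_mul, a, b, sub_eq_add_neg, polar_add_left',
      ← neg_smul, polar_smul_left', LinearMap.add_apply, LinearMap.neg_apply,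
      LinearMap.id_coe, id_eq, LinearMap.smul_apply, LinearMap.smulRight_apply,
      LinearMap.flip_apply, QuadraticMap.polarBilin_apply_apply]
    module
  rw [← Matrix.trace_toLin'_eq, hlin, map_add, map_sub, map_sub, map_smul,
    LinearMap.trace_smulRight, LinearMap.trace_smulRight, LinearMap.trace_smulRight,
    LinearMap.trace_id, Module.finrank_pi]
  simp only [a, b, LinearMap.flip_apply, QuadraticMap.polarBilin_apply_apply, polar_self', hv, hw,
    QuadraticMap.polar_comm (⇑Q) w v, hvw, smul_eq_mul]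
  ring

/-- A similarity as a linear map. -/
noncomputable def simEquiv {F : Type*} [Field F] {ι : Type} [Fintype ι] [DecidableEq ι]
    (Q : QuadraticForm F (ι → F)) : simGrp Q →* ((ι → F) ≃ₗ[F] (ι → F)) :=
  (LinearMap.GeneralLinearGroup.generalLinearEquiv F (ι → F)).toMonoidHom.comp
    (Matrix.GeneralLinearGroup.toLin.toMonoidHom.comp (simGrp Q).subtype)

theorem simEquiv_apply {F : Type*} [Field F] {ι : Type} [Fintype ι] [DecidableEq ι]
    {Q : QuadraticForm F (ι → F)} (g : simGrp Q) (v : ι → F) : simEquiv Q g v = simMat g *ᵥ v := rfl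

/-- A linear similarity as a member of the similarity group. -/
theorem exists_sim_of_linear {F : Type*} [Field F] {ι : Type} [Fintype ι] [DecidableEq ι]
    {Q : QuadraticForm F (ι → F)} (e : (ι → F) ≃ₗ[F] (ι → F)) (he : ∀ v, Q (e v) = Q v) :
    ∃ d : simGrp Q, ∀ v, simMat d *ᵥ v = e v := by
  refine ⟨⟨Matrix.GeneralLinearGroup.toLin.symm
    ((LinearMap.GeneralLinearGroup.generalLinearEquiv F (ι → F)).symm e), 1, fun v => ?_⟩, fun v => ?_⟩
  · rw [Units.val_one, one_mul, ← he v]
    exact congrArg _ (LinearMap.toMatrix'_mulVec _ _)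
  · exact LinearMap.toMatrix'_mulVec _ _

end CfsgLib.Known.AutPOmega
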