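import Cfsg.Agent.Lib.Known.AutPOmega.BalanceField
import Cfsg.Agent.Lib.Known.AutPOmega.BalanceMinusSpace
import Cfsg.Agent.Lib.Known.BalancePSL.Base
import Mathlib.Algebra.QuadraticAlgebra.Basic

/-!
An involutory similarity outside the inner-diagonal group is locally balanced.
-/

set_option autoImplicit false
set_option linter.unusedSectionVars false
set_option linter.unusedSimpArgs false
set_option linter.style.haveILetI false
set_option backward.isDefEq.respectTransparency false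

namespace CfsgLib.Known.AutPOmega

open QuadraticMap (polar polarBilin)
open CfsgLib.Classical.Quad
open scoped Matrix

variable {F : Type*} [Field F] [Fintype F] {ι : Type} [Fintype ι] [DecidableEq ι]
  {Q : QuadraticForm F (ι → F)} {k : ℕ}

theorem sim_ext {a b : simGrp Q} (h : ∀ v, simMat a *ᵥ v = simMat b *ᵥ v) : a = b :=
  Subtype.ext (Units.ext (Matrix.toLin'.injective (LinearMap.ext fun v => by
    rw [Matrix.toLin'_apply, Matrix.toLin'_apply]; exact h v)))

theorem simMat_mul_mulVec (a b : simGrp Q) (v : ι → F) :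
    simMat (a * b) *ᵥ v = simMat a *ᵥ (simMat b *ᵥ v) := by
  rw [← simEquiv_apply, map_mul, LinearEquiv.mul_apply, simEquiv_apply, simEquiv_apply]

theorem mem_cent_iff {g d : simGrp Q} : d ∈ Subgroup.centralizer ({g} : Set (simGrp Q)) ↔
    ∀ v, simMat d *ᵥ (simMat g *ᵥ v) = simMat g *ᵥ (simMat d *ᵥ v) := by
  rw [Subgroup.mem_centralizer_singleton_iff]
  constructor
  · intro h v
    rw [← simMat_mul_mulVec, h, simMat_mul_mulVec]
  · intro h
    exact sim_ext fun v => by rw [simMat_mul_mulVec, h, simMat_mul_mulVec]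

variable (H : EvenForm Q k) (g : simGrp Q) (hg2 : conjAut Q (g * g) = 1) (hgs : sgnHom H g ≠ 1)
include H hg2 hgs

/-- A similarity commuting projectively with `g` commutes up to a sign. -/
theorem comm_sign (h : simGrp Q) (hc : conjAut Q h * conjAut Q g = conjAut Q g * conjAut Q h) :
    ∃ c : F, c * c = 1 ∧ ∀ v, simMat h *ᵥ (simMat g *ᵥ v) = c • (simMat g *ᵥ (simMat h *ᵥ v)) := by
  have hker : (g * h)⁻¹ * (h * g) ∈ (conjAut Q).ker := by
    rw [MonoidHom.mem_ker, map_mul, map_inv, map_mul, map_mul, hc, inv_mul_cancel]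
  obtain ⟨c, hc'⟩ := (OrthFieldCent.mem_ker_iff H.nondeg H.seven_le _).1 hker
  have hcomm : ∀ v, simMat h *ᵥ (simMat g *ᵥ v) = (c : F) • (simMat g *ᵥ (simMat h *ᵥ v)) := by
    intro v
    rw [← simMat_mul_mulVec, show h * g = g * h * ((g * h)⁻¹ * (h * g)) from
      (mul_inv_cancel_left _ _).symm, simMat_mul_mulVec, hc', Matrix.smul_mulVec, Matrix.one_mulVec,
      Matrix.mulVec_smul, simMat_mul_mulVec]
  refine ⟨c, ?_, hcomm⟩
  obtain ⟨v, hv⟩ := H.exists_ne
  have e := hcomm (simMat g *ᵥ v)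
  rw [hcomm v, Matrix.mulVec_smul, sq_apply H g hg2 hgs, sq_apply H g hg2 hgs, Matrix.mulVec_smul,
    smul_smul, smul_smul] at e
  have hy : simMat h *ᵥ v ≠ 0 := fun h0 => by
    have := simMult_spec h v
    rw [h0, QuadraticMap.map_zero] at this
    exact mul_ne_zero (simMult h).ne_zero hv this.symm
  have e' := smul_left_injective F hy e
  exact mul_right_cancel₀ (simMult g).ne_zero (by rw [one_mul]; linear_combination -e')

theorem twist_sq : Matrix.toLin' (simMat g) * Matrix.toLin' (simMat g) =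
    (simMult g : F) • (1 : Module.End F (ι → F)) + (0 : F) • Matrix.toLin' (simMat g) :=
  LinearMap.ext fun v => by
    simp only [Module.End.mul_apply, Matrix.toLin'_apply, LinearMap.add_apply,
      LinearMap.smul_apply, zero_smul, add_zero, Module.End.one_apply]
    exact sq_apply H g hg2 hgs v

/-- The space over the quadratic algebra generated by `g`. -/
noncomputable abbrev twistModule :
    Module (QuadraticAlgebra F (simMult g : F) 0) (ι → F) :=
  Module.compHom (ι → F)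
    (QuadraticAlgebra.lift ⟨Matrix.toLin' (simMat g), twist_sq H g hg2 hgs⟩).toRingHom

theorem twist_smul (z : QuadraticAlgebra F (simMult g : F) 0) (v : ι → F) :
    (letI := twistModule H g hg2 hgs; z • v) = z.re • v + z.im • (simMat g *ᵥ v) := rfl

theorem twistTower :
    letI := twistModule H g hg2 hgs
    IsScalarTower F (QuadraticAlgebra F (simMult g : F) 0) (ι → F) := by
  letI := twistModule H g hg2 hgs
  exact ⟨fun x z v => by
    rw [twist_smul H g hg2 hgs, twist_smul H g hg2 hgs, QuadraticAlgebra.re_smul,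
      QuadraticAlgebra.im_smul, smul_eq_mul, smul_eq_mul, smul_add, smul_smul, smul_smul]⟩

/-- The bilinear form over the quadratic extension. -/
theorem exists_twisted_form (hfact : Fact (∀ r : F, r ^ 2 ≠ (simMult g : F) + 0 * r)) :
    letI := twistModule H g hg2 hgs
    haveI := hfact
    ∃ B : LinearMap.BilinForm (QuadraticAlgebra F (simMult g : F) 0) (ι → F),
      (∀ u v, (B u v).re = polar Q u v) ∧
      (∀ u v, (B u v).im = (simMult g : F)⁻¹ * polar Q u (simMat g *ᵥ v)) ∧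
      (∀ u v, B u v = B v u) ∧ B.Nondegenerate ∧
      3 ≤ Module.finrank (QuadraticAlgebra F (simMult g : F) 0) (ι → F) := by
  classical
  set μ := (simMult g : F) with hμdef
  letI := twistModule H g hg2 hgs
  haveI := hfact
  have hμ0 : μ ≠ 0 := (simMult g).ne_zero
  have hsmul : ∀ (z : QuadraticAlgebra F μ 0) (v : ι → F),
      z • v = z.re • v + z.im • (simMat g *ᵥ v) := twist_smul H g hg2 hgs
  haveI : IsScalarTower F (QuadraticAlgebra F μ 0) (ι → F) := twistTower H g hg2 hgs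
  haveI : Finite (QuadraticAlgebra F μ 0) := Finite.of_equiv _ (QuadraticAlgebra.equivProd μ 0).symm
  have hadj := adjoint_self H g hg2 hgs
  have hgg := sq_apply H g hg2 hgs
  let B : LinearMap.BilinForm (QuadraticAlgebra F μ 0) (ι → F) :=
    LinearMap.mk₂ _ (fun u v => (⟨polar Q u v, μ⁻¹ * polar Q u (simMat g *ᵥ v)⟩ : QuadraticAlgebra F μ 0))
      (fun u u' v => by
        ext <;> simp [polar_add_left', mul_add])
      (fun z u v => by
        ext <;> simp only [hsmul, smul_eq_mul, QuadraticAlgebra.re_mul, QuadraticAlgebra.im_mul,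
          polar_add_left', polar_smul_left', hadj, hgg, polar_smul_right', ← hμdef] <;>
          field_simp <;> ring)
      (fun u v v' => by
        ext <;> simp [polar_add_right', mul_add, Matrix.mulVec_add])
      (fun z u v => by
        ext <;> simp only [hsmul, smul_eq_mul, QuadraticAlgebra.re_mul, QuadraticAlgebra.im_mul,
          Matrix.mulVec_add, Matrix.mulVec_smul, polar_add_right', hgg, polar_smul_right', ← hμdef] <;>
          field_simp <;> ring)
  have hBre : ∀ u v, (B u v).re = polar Q u v := fun u v => rfl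
  have hBim : ∀ u v, (B u v).im = μ⁻¹ * polar Q u (simMat g *ᵥ v) := fun u v => rfl
  have hBsym : ∀ u v, B u v = B v u := fun u v => by
    ext
    · rw [hBre, hBre, QuadraticMap.polar_comm]
    · rw [hBim, hBim, ← hadj u v, QuadraticMap.polar_comm]
  have hBnd : B.Nondegenerate := by
    have key : ∀ u, (∀ v, B u v = 0) → u = 0 := fun u hu => H.nondeg.1 u fun v => by
      have := congrArg QuadraticAlgebra.re (hu v)
      rw [hBre] at this
      exact this
    exact ⟨key, fun v hv => key v fun u => by rw [hBsym]; exact hv u⟩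
  haveI : Module.Finite (QuadraticAlgebra F μ 0) (ι → F) := Module.Finite.of_finite
  have hdim : 3 ≤ Module.finrank (QuadraticAlgebra F μ 0) (ι → F) := by
    have h1 := Module.finrank_mul_finrank F (QuadraticAlgebra F μ 0) (ι → F)
    rw [QuadraticAlgebra.finrank_eq_two, Module.finrank_pi, H.card_eq] at h1
    have := H.four_le
    omega
  exact ⟨B, hBre, hBim, hBsym, hBnd, hdim⟩

/-- Two vectors of value one, orthogonal to their images, with a prescribed polar form. -/
theorem exists_twisted_pair (hμ : ¬ IsSquare (simMult g : F)) (c : F) :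
    ∃ v w : ι → F, Q v = 1 ∧ Q w = 1 ∧
      polar Q v w = c ∧ polar Q v (simMat g *ᵥ v) = 0 ∧ polar Q w (simMat g *ᵥ w) = 0 ∧
      polar Q v (simMat g *ᵥ w) = 0 := by
  classical
  set μ := (simMult g : F) with hμdef
  have hμ0 : μ ≠ 0 := (simMult g).ne_zero
  haveI hfact : Fact (∀ r : F, r ^ 2 ≠ μ + 0 * r) :=
    ⟨fun r hr => hμ ⟨r, by linear_combination -hr⟩⟩
  letI := twistModule H g hg2 hgs
  haveI : Finite (QuadraticAlgebra F μ 0) := Finite.of_equiv _ (QuadraticAlgebra.equivProd μ 0).symm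
  obtain ⟨B, hBre, hBim, hBsym, hBnd, hdim⟩ := exists_twisted_form H g hg2 hgs hfact
  haveI : Module.Finite (QuadraticAlgebra F μ 0) (ι → F) := Module.Finite.of_finite
  have h2K : (2 : QuadraticAlgebra F μ 0) ≠ 0 := fun h0 => H.two_ne (by
    have := congrArg QuadraticAlgebra.re h0
    rwa [QuadraticAlgebra.re_ofNat, QuadraticAlgebra.re_zero] at this)
  let R : QuadraticForm (QuadraticAlgebra F μ 0) (ι → F) := LinearMap.BilinMap.toQuadraticMap B
  have hpol : ∀ u v, polar R u v = 2 * B u v := fun u v => by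
    rw [LinearMap.BilinMap.polar_toQuadraticMap, hBsym v u, two_mul]
  have hR : (polarBilin R).Nondegenerate := by
    have key : ∀ u, (∀ v, polar R u v = 0) → u = 0 := fun u hu => hBnd.1 u fun v => by
      have := hu v
      rw [hpol] at this
      exact (mul_eq_zero.1 this).resolve_left h2K
    exact ⟨key, fun v hv => key v fun u => by rw [QuadraticMap.polar_comm]; exact hv u⟩
  obtain ⟨v, w, hv, hw, hvw⟩ := exists_value_pair hR h2K hdim h2K (algebraMap F _ c)
  have hval : ∀ u, R u = 2 → Q u = 1 ∧ polar Q u (simMat g *ᵥ u) = 0 := fun u hu => by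
    change B u u = 2 at hu
    have h1 := congrArg QuadraticAlgebra.re hu
    have h2 := congrArg QuadraticAlgebra.im hu
    rw [hBre, polar_self'] at h1
    rw [hBim] at h2
    simp only [QuadraticAlgebra.re_ofNat, QuadraticAlgebra.im_ofNat] at h1 h2
    exact ⟨mul_left_cancel₀ H.two_ne (h1.trans (mul_one _).symm),
      (mul_eq_zero.1 h2).resolve_left (inv_ne_zero hμ0)⟩
  have hB : B v w = algebraMap F _ c := by
    rw [hpol, mul_comm (algebraMap F _ c)] at hvw
    exact mul_left_cancel₀ h2K hvw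
  refine ⟨v, w, (hval v hv).1, (hval w hw).1, ?_, (hval v hv).2, (hval w hw).2, ?_⟩
  · rw [← hBre, hB]; rfl
  · have h2 := congrArg QuadraticAlgebra.im hB
    rw [hBim] at h2
    exact (mul_eq_zero.1 (h2.trans (by rfl : _ = (0 : F)))).resolve_left (inv_ne_zero hμ0)

section Core

variable (M0 : Subgroup (MulAut (Cfsg.POmega F (⇑Q))))
  (hodd : (Nat.card M0).Coprime 2)
  (hnorm : ∀ d ∈ Subgroup.centralizer ({g} : Set (simGrp Q)), ∀ n ∈ M0,
    conjAut Q d * n * (conjAut Q d)⁻¹ ∈ M0)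

/-- The preimage commuting with `g`. -/
abbrev preCore (g : simGrp Q) (M0 : Subgroup (MulAut (Cfsg.POmega F (⇑Q)))) : Subgroup (simGrp Q) :=
  Subgroup.centralizer {g} ⊓ M0.comap (conjAut Q)

omit H hg2 hgs in
theorem preCore_comm {h : simGrp Q} (hh : h ∈ preCore g M0) (v : ι → F) :
    simMat h *ᵥ (simMat g *ᵥ v) = simMat g *ᵥ (simMat h *ᵥ v) :=
  mem_cent_iff.1 hh.1 v

include hodd in
theorem preCore_pow {h : simGrp Q} (hh : h ∈ preCore g M0) :
    ∃ o : ℕ, Odd o ∧ ∃ c : F, ∀ v, simMat (h ^ o) *ᵥ v = c • v := by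
  haveI : Finite (MulAut (Cfsg.POmega F (⇑Q))) :=
    Finite.of_injective (fun a => (a : Cfsg.POmega F (⇑Q) → Cfsg.POmega F (⇑Q))) DFunLike.coe_injective
  obtain ⟨o, ho, he⟩ := BalancePSL.odd_pow_eq_one hodd (Subgroup.mem_comap.1 hh.2)
  rw [← map_pow] at he
  obtain ⟨c, hc⟩ := (OrthFieldCent.mem_ker_iff H.nondeg H.seven_le _).1 (MonoidHom.mem_ker.2 he)
  exact ⟨o, ho, c, fun v => by rw [hc, Matrix.smul_mulVec, Matrix.one_mulVec]⟩

include hnorm in
theorem preCore_conj {d h : simGrp Q} (hd : d ∈ Subgroup.centralizer ({g} : Set (simGrp Q)))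
    (hh : h ∈ preCore g M0) : d * h * d⁻¹ ∈ preCore g M0 :=
  ⟨Subgroup.mul_mem _ (Subgroup.mul_mem _ hd hh.1) (Subgroup.inv_mem _ hd), Subgroup.mem_comap.2 (by
    rw [map_mul, map_mul, map_inv]; exact hnorm d hd _ (Subgroup.mem_comap.1 hh.2))⟩

theorem eig_dim {t : F} (ht : t * t = (simMult g : F)) : Odd (Module.finrank F (eigSp g t)) := by
  obtain ⟨-, -, -, h⟩ := eig_facts H g hg2 hgs (t := -t) (by rw [neg_mul_neg]; exact ht)
  rwa [neg_neg] at h

include hodd hnorm in
/-- The preimage acts by scalars on each eigenspace. -/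
theorem scalar_on_eig {t : F} (ht : t * t = (simMult g : F)) {h : simGrp Q} (hh : h ∈ preCore g M0) :
    ∃ c : F, ∀ v ∈ eigSp g t, simMat h *ᵥ v = c • v := by
  classical
  obtain ⟨hcompl, horth, -, -⟩ := eig_facts H g hg2 hgs ht
  set W := eigSp g t with hW
  set W' := eigSp g (-t) with hW'
  have hmaps : ∀ h ∈ preCore g M0, ∀ v ∈ W, simMat h *ᵥ v ∈ W := fun h hh v hv => by
    rw [hW, mem_eigSp, ← preCore_comm g M0 hh, (mem_eigSp g).1 hv, Matrix.mulVec_smul]
  by_cases h3 : 3 ≤ Module.finrank F W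
  · let res : ↥(preCore g M0) →* (W ≃ₗ[F] W) :=
      MonoidHom.mk' (fun h =>
        { toFun := fun v => ⟨simMat (h : simGrp Q) *ᵥ (v : ι → F), hmaps _ h.2 _ v.2⟩
          invFun := fun v => ⟨simMat ((h : simGrp Q)⁻¹) *ᵥ (v : ι → F), hmaps _ (inv_mem h.2) _ v.2⟩
          map_add' := fun u v => Subtype.ext (Matrix.mulVec_add _ _ _)
          map_smul' := fun c v => Subtype.ext (Matrix.mulVec_smul _ _ _)
          left_inv := fun v => Subtype.ext (by
            show simMat ((h : simGrp Q)⁻¹) *ᵥ (simMat (h : simGrp Q) *ᵥ (v : ι → F)) = v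
            rw [← simMat_mul_mulVec, inv_mul_cancel, ← simEquiv_apply, map_one]; rfl)
          right_inv := fun v => Subtype.ext (by
            show simMat (h : simGrp Q) *ᵥ (simMat ((h : simGrp Q)⁻¹) *ᵥ (v : ι → F)) = v
            rw [← simMat_mul_mulVec, mul_inv_cancel, ← simEquiv_apply, map_one]; rfl) })
        fun a b => LinearEquiv.ext fun v => Subtype.ext (by
          show simMat ((a : simGrp Q) * (b : simGrp Q)) *ᵥ (v : ι → F) = _
          exact simMat_mul_mulVec _ _ _)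
    have hres : ∀ (h : ↥(preCore g M0)) (v : W),
        ((res h v : W) : ι → F) = simMat (h : simGrp Q) *ᵥ (v : ι → F) := fun h v => rfl
    set B : LinearMap.BilinForm F W := polarBilin (Q.comp W.subtype) with hB
    have hBapp : ∀ u v : W, B u v = polar Q (u : ι → F) v := fun u v => by
      show polar (Q.comp W.subtype) u v = _
      simp [polar]
    refine (scalar_of_normalized_space B
      (fun u v => by rw [hBapp, hBapp, QuadraticMap.polar_comm])
      (restrict_nondeg_of_compl H.nondeg hcompl horth) H.two_ne h3 res.range ?_ ?_ ?_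
      (e := res ⟨h, hh⟩) ⟨_, rfl⟩).elim
      fun c hc => ⟨c, fun v hv => congrArg Subtype.val (hc ⟨v, hv⟩)⟩
    · rintro i hi _ ⟨a, rfl⟩
      set E := Submodule.prodEquivOfIsCompl W W' hcompl
      let e : (ι → F) ≃ₗ[F] (ι → F) := E.symm.trans ((i.prodCongr (LinearEquiv.refl F W')).trans E)
      have he : ∀ (u : W) (u' : W'), e ((u : ι → F) + (u' : ι → F)) = (i u : ι → F) + (u' : ι → F) := by
        intro u u'
        have h1 : E.symm ((u : ι → F) + (u' : ι → F)) = (u, u') := by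
          rw [LinearEquiv.symm_apply_eq]; rfl
        show E ((i.prodCongr (LinearEquiv.refl F W')) (E.symm _)) = _
        rw [h1]; rfl
      obtain ⟨d, hd⟩ := exists_sim_of_linear (Q := Q) e fun v => by
        obtain ⟨⟨u, u'⟩, rfl⟩ := E.surjective v
        show Q (e ((u : ι → F) + u')) = Q ((u : ι → F) + u')
        rw [he, apply_add, apply_add, horth _ (i u).2 _ u'.2, horth _ u.2 _ u'.2]
        have h1 := hi u u
        rw [hBapp, hBapp, polar_self', polar_self'] at h1
        rw [mul_left_cancel₀ H.two_ne h1]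
      have hdc : d ∈ Subgroup.centralizer ({g} : Set (simGrp Q)) := by
        refine mem_cent_iff.2 fun v => ?_
        obtain ⟨⟨u, u'⟩, rfl⟩ := E.surjective v
        show simMat d *ᵥ (simMat g *ᵥ ((u : ι → F) + u')) = simMat g *ᵥ (simMat d *ᵥ ((u : ι → F) + u'))
        rw [hd, hd, he, Matrix.mulVec_add, Matrix.mulVec_add, (mem_eigSp g).1 u.2,
          (mem_eigSp g).1 u'.2, (mem_eigSp g).1 (i u).2]
        have h1 := he (t • u) ((-t) • u')
        rw [map_smul, Submodule.coe_smul, Submodule.coe_smul, Submodule.coe_smul] at h1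
        exact h1
      have hdW : ∀ u : W, simMat d *ᵥ (u : ι → F) = (i u : ι → F) := fun u => by
        simpa [hd] using he u 0
      refine ⟨⟨_, preCore_conj H g hg2 hgs M0 hnorm hdc a.2⟩, LinearEquiv.ext fun w => Subtype.ext ?_⟩
      rw [hres]
      show simMat (d * (a : simGrp Q) * d⁻¹) *ᵥ (w : ι → F) = _
      have hinv : simMat (d⁻¹) *ᵥ (w : ι → F) = ((i⁻¹ : W ≃ₗ[F] W) w : ι → F) := by
        have h1 := hdW ((i⁻¹ : W ≃ₗ[F] W) w)
        rw [show i ((i⁻¹ : W ≃ₗ[F] W) w) = w from i.apply_symm_apply w] at h1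
        rw [← h1, ← simMat_mul_mulVec, inv_mul_cancel, ← simEquiv_apply, map_one]
        rfl
      rw [simMat_mul_mulVec, simMat_mul_mulVec, hinv, ← hres, hdW]
      rfl
    · rintro _ ⟨a, rfl⟩
      obtain ⟨o, ho, c, hc⟩ := preCore_pow H g hg2 hgs M0 hodd a.2
      exact ⟨o, ho, c, fun w => Subtype.ext (by rw [← map_pow, hres, SubmonoidClass.coe_pow, hc]; rfl)⟩
    · rintro _ ⟨a, rfl⟩
      exact ⟨simMult (a : simGrp Q), fun u v => by rw [hBapp, hBapp, hres, hres, polar_sim]⟩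
  · obtain ⟨j, hj⟩ := eig_dim H g hg2 hgs ht
    rw [← hW] at hj
    obtain ⟨w, hw, hall⟩ := finrank_eq_one_iff'.1 (show Module.finrank F W = 1 by omega)
    obtain ⟨c, hc⟩ := hall ⟨_, hmaps h hh _ w.2⟩
    refine ⟨c, fun v hv => ?_⟩
    obtain ⟨a, ha⟩ := hall ⟨v, hv⟩
    have hv' : v = a • (w : ι → F) := (congrArg Subtype.val ha).symm
    have hw' : simMat h *ᵥ (w : ι → F) = c • (w : ι → F) := (congrArg Subtype.val hc).symm
    rw [hv', Matrix.mulVec_smul, hw', smul_comm]

include hodd hnorm in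
/-- Without eigenvalue the preimage acts by scalars of the quadratic extension. -/
theorem scalar_of_nonsquare (hμ : ¬ IsSquare (simMult g : F)) {h : simGrp Q}
    (hh : h ∈ preCore g M0) :
    ∃ α β : F, ∀ v, simMat h *ᵥ v = α • v + β • (simMat g *ᵥ v) := by
  classical
  set μ := (simMult g : F) with hμdef
  haveI hfact : Fact (∀ r : F, r ^ 2 ≠ μ + 0 * r) :=
    ⟨fun r hr => hμ ⟨r, by linear_combination -hr⟩⟩
  letI := twistModule H g hg2 hgs
  haveI : Finite (QuadraticAlgebra F μ 0) := Finite.of_equiv _ (QuadraticAlgebra.equivProd μ 0).symm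
  obtain ⟨B, hBre, hBim, hBsym, hBnd, hdim⟩ := exists_twisted_form H g hg2 hgs hfact
  haveI : IsScalarTower F (QuadraticAlgebra F μ 0) (ι → F) := twistTower H g hg2 hgs
  haveI : Module.Finite (QuadraticAlgebra F μ 0) (ι → F) := Module.Finite.of_finite
  have hsmul : ∀ (z : QuadraticAlgebra F μ 0) (v : ι → F),
      z • v = z.re • v + z.im • (simMat g *ᵥ v) := twist_smul H g hg2 hgs
  have hlin : ∀ d ∈ Subgroup.centralizer ({g} : Set (simGrp Q)),
      ∀ (z : QuadraticAlgebra F μ 0) (v : ι → F), simMat d *ᵥ (z • v) = z • (simMat d *ᵥ v) :=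
    fun d hd z v => by
      rw [hsmul, hsmul, Matrix.mulVec_add, Matrix.mulVec_smul, Matrix.mulVec_smul, mem_cent_iff.1 hd]
  let res : ↥(preCore g M0) →* ((ι → F) ≃ₗ[QuadraticAlgebra F μ 0] (ι → F)) :=
    MonoidHom.mk' (fun h => { simEquiv Q (h : simGrp Q) with map_smul' := hlin _ h.2.1 })
      fun a b => LinearEquiv.ext fun v => simMat_mul_mulVec _ _ _
  have hres : ∀ (h : ↥(preCore g M0)) v, res h v = simMat (h : simGrp Q) *ᵥ v := fun h v => rfl
  have h2K : (2 : QuadraticAlgebra F μ 0) ≠ 0 := fun h0 => H.two_ne (by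
    have := congrArg QuadraticAlgebra.re h0
    rwa [QuadraticAlgebra.re_ofNat, QuadraticAlgebra.re_zero] at this)
  refine (scalar_of_normalized_space B hBsym hBnd h2K hdim res.range ?_ ?_ ?_
    (e := res ⟨h, hh⟩) ⟨_, rfl⟩).elim
    fun c hc => ⟨c.re, c.im, fun v => by rw [← hres ⟨h, hh⟩, hc, hsmul]⟩
  · rintro i hi _ ⟨a, rfl⟩
    obtain ⟨d, hd⟩ := exists_sim_of_linear (Q := Q) (i.restrictScalars F) fun v => by
      have h1 := congrArg QuadraticAlgebra.re (hi v v)
      rw [hBre, hBre, polar_self', polar_self'] at h1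
      exact mul_left_cancel₀ H.two_ne h1
    have hdc : d ∈ Subgroup.centralizer ({g} : Set (simGrp Q)) := mem_cent_iff.2 fun v => by
      have h1 := i.map_smul (⟨0, 1⟩ : QuadraticAlgebra F μ 0) v
      simp only [hsmul, zero_smul, zero_add, one_smul] at h1
      rw [hd, hd]
      exact h1
    refine ⟨⟨_, preCore_conj H g hg2 hgs M0 hnorm hdc a.2⟩, LinearEquiv.ext fun w => ?_⟩
    rw [hres]
    show simMat (d * (a : simGrp Q) * d⁻¹) *ᵥ w = _
    have hinv : simMat (d⁻¹) *ᵥ w = (i⁻¹ : _ ≃ₗ[QuadraticAlgebra F μ 0] _) w := by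
      have h1 := hd ((i⁻¹ : _ ≃ₗ[QuadraticAlgebra F μ 0] _) w)
      rw [LinearEquiv.restrictScalars_apply,
        show i ((i⁻¹ : _ ≃ₗ[QuadraticAlgebra F μ 0] _) w) = w from i.apply_symm_apply w] at h1
      conv_lhs => rw [← h1]
      rw [← simMat_mul_mulVec, inv_mul_cancel, ← simEquiv_apply, map_one]
      rfl
    rw [simMat_mul_mulVec, simMat_mul_mulVec, hinv, hd]
    rfl
  · rintro _ ⟨a, rfl⟩
    obtain ⟨o, ho, c, hc⟩ := preCore_pow H g hg2 hgs M0 hodd a.2
    exact ⟨o, ho, algebraMap F _ c, fun w => by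
      rw [← map_pow, hres, SubmonoidClass.coe_pow, hc, algebraMap_smul]⟩
  · rintro _ ⟨a, rfl⟩
    refine ⟨algebraMap F _ (simMult (a : simGrp Q) : F), fun u v => ?_⟩
    rw [← Algebra.smul_def, hres, hres]
    ext
    · rw [hBre, QuadraticAlgebra.re_smul, hBre, polar_sim, smul_eq_mul]
    · rw [hBim, QuadraticAlgebra.im_smul, hBim, ← preCore_comm g M0 a.2, polar_sim, smul_eq_mul]
      ring

include hodd hnorm in
/-- The preimage consists of self-adjoint maps. -/
theorem preCore_selfadjoint {h : simGrp Q} (hh : h ∈ preCore g M0) (u v : ι → F) :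
    polar Q (simMat h *ᵥ u) v = polar Q u (simMat h *ᵥ v) := by
  by_cases hμ : IsSquare (simMult g : F)
  · obtain ⟨t, ht⟩ := hμ
    obtain ⟨hcompl, horth, -, -⟩ := eig_facts H g hg2 hgs ht.symm
    obtain ⟨c, hc⟩ := scalar_on_eig H g hg2 hgs M0 hodd hnorm ht.symm hh
    obtain ⟨c', hc'⟩ := scalar_on_eig H g hg2 hgs M0 hodd hnorm (t := -t)
      (by rw [neg_mul_neg]; exact ht.symm) hh
    obtain ⟨⟨u₁, u₂⟩, rfl⟩ := (Submodule.prodEquivOfIsCompl _ _ hcompl).surjective u
    obtain ⟨⟨v₁, v₂⟩, rfl⟩ := (Submodule.prodEquivOfIsCompl _ _ hcompl).surjective v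
    simp only [Submodule.coe_prodEquivOfIsCompl', Matrix.mulVec_add, hc _ u₁.2, hc' _ u₂.2,
      hc _ v₁.2, hc' _ v₂.2, polar_add_left', polar_add_right', polar_smul_left', polar_smul_right',
      horth _ u₁.2 _ v₂.2, (QuadraticMap.polar_comm (⇑Q) _ _).trans (horth _ v₁.2 _ u₂.2)]
    ring
  · obtain ⟨α, β, hab⟩ := scalar_of_nonsquare H g hg2 hgs M0 hodd hnorm hμ hh
    simp only [hab, polar_add_left', polar_add_right', polar_smul_left', polar_smul_right',
      adjoint_self H g hg2 hgs]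

include hodd hnorm in
/-- The normalised group of odd order is trivial. -/
theorem core_trivial
    (hrep : ∀ n ∈ M0, ∃ h, conjAut Q h = n ∧ conjAut Q h * conjAut Q g = conjAut Q g * conjAut Q h) :
    M0 = ⊥ := by
  haveI : Finite (MulAut (Cfsg.POmega F (⇑Q))) :=
    Finite.of_injective (fun a => (a : Cfsg.POmega F (⇑Q) → Cfsg.POmega F (⇑Q))) DFunLike.coe_injective
  rw [eq_bot_iff]
  intro y hy
  rw [Subgroup.mem_bot]
  obtain ⟨o, ⟨j, rfl⟩, ho⟩ := BalancePSL.odd_pow_eq_one hodd hy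
  set z := y ^ (j + 1) with hz
  have hzz : z * z = y := by
    rw [hz, ← pow_add, show j + 1 + (j + 1) = (2 * j + 1) + 1 by ring, pow_succ, ho, one_mul]
  obtain ⟨h, hh, hc⟩ := hrep z (pow_mem hy _)
  obtain ⟨c, hc2, hcv⟩ := comm_sign H g hg2 hgs h hc
  have hyh : conjAut Q (h * h) = y := by rw [map_mul, hh, hzz]
  have hmem : h * h ∈ preCore g M0 := ⟨mem_cent_iff.2 fun v => by
      rw [simMat_mul_mulVec, simMat_mul_mulVec, hcv, Matrix.mulVec_smul, hcv, smul_smul, hc2, one_smul],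
    Subgroup.mem_comap.2 (by rw [hyh]; exact hy)⟩
  refine BalancePSL.eq_one_of_sq_of_mem hodd hy ?_
  rw [← hyh, ← map_mul, ← MonoidHom.mem_ker, OrthFieldCent.mem_ker_iff H.nondeg H.seven_le]
  refine ⟨simMult (h * h), Matrix.toLin'.injective (LinearMap.ext fun u => ?_)⟩
  rw [Matrix.toLin'_apply, Matrix.toLin'_apply, simMat_mul_mulVec, Matrix.smul_mulVec, Matrix.one_mulVec,
    ← sub_eq_zero]
  refine H.nondeg.1 _ fun v => ?_
  show polar Q _ v = 0
  rw [sub_eq_add_neg, ← neg_smul, polar_add_left', polar_smul_left',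
    preCore_selfadjoint H g hg2 hgs M0 hodd hnorm hmem, polar_sim]
  ring

end Core

/-- Elements of `Ω` centralised by `g` with prescribed traces. -/
theorem exists_fixed_trace : ∃ A e : F, e ≠ 0 ∧ (∀ τ : F ≃+* F, τ A = A ∧ τ e = e) ∧ ∀ c : F,
    ∃ s : ↥(Cfsg.Omega F (⇑Q)),
      conjO Q g (s : ↥(Cfsg.isometryGroup F (⇑Q))) = (s : ↥(Cfsg.isometryGroup F (⇑Q))) ∧
      (((s : ↥(Cfsg.isometryGroup F (⇑Q))) : GL ι F) : Matrix ι ι F).trace = A + e * c ^ 2 := by
  classical
  have hdet : ∀ {v w : ι → F} (hv : Q v ≠ 0) (hw : Q w ≠ 0),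
      Matrix.GeneralLinearGroup.det ((rO hv * rO hw : ↥(Cfsg.isometryGroup F (⇑Q))) : GL ι F) = 1 :=
    fun hv hw => by rw [Subgroup.coe_mul, map_mul, det_rO, det_rO, neg_one_mul, neg_neg]
  have hscal : ∀ {v : ι → F} (hv : Q v ≠ 0) {c : F} (hc : c ≠ 0) (hv' : Q (c • v) ≠ 0),
      rO hv' = rO hv := fun hv c hc hv' => by
    rw [rO, rO]; congr 1; exact refl_smul hv hc
  by_cases hμ : IsSquare (simMult g : F)
  · obtain ⟨t, ht⟩ := hμ
    obtain ⟨s, hs, h3⟩ : ∃ s : F, s * s = (simMult g : F) ∧ 3 ≤ Module.finrank F (eigSp g s) := by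
      obtain ⟨-, -, hdim, -⟩ := eig_facts H g hg2 hgs ht.symm
      by_cases h : 3 ≤ Module.finrank F (eigSp g t)
      · exact ⟨t, ht.symm, h⟩
      · refine ⟨-t, by rw [neg_mul_neg]; exact ht.symm, ?_⟩
        have := H.four_le
        omega
    obtain ⟨hcompl, horth, -, -⟩ := eig_facts H g hg2 hgs hs
    have hs0 : s ≠ 0 := fun h0 => (simMult g).ne_zero (by rw [← hs, h0, mul_zero])
    refine ⟨(Fintype.card ι : F) - 4, 1, one_ne_zero,
      fun τ => ⟨by rw [map_sub, map_natCast, map_ofNat], map_one τ⟩, fun c => ?_⟩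
    obtain ⟨v, w, hv, hw, hvw⟩ := exists_value_pair (restrict_nondeg_of_compl H.nondeg hcompl horth)
      H.two_ne h3 one_ne_zero c
    rw [QuadraticMap.comp_apply, Submodule.subtype_apply] at hv hw
    have hvw' : polar Q (v : ι → F) (w : ι → F) = c := by
      rw [mul_one] at hvw; rw [← hvw]; simp [polar]
    have hv0 : Q (v : ι → F) ≠ 0 := hv.trans_ne one_ne_zero
    have hw0 : Q (w : ι → F) ≠ 0 := hw.trans_ne one_ne_zero
    have hfix : ∀ {x : ι → F} (hx : Q x ≠ 0), x ∈ eigSp g s → conjO Q g (rO hx) = rO hx := by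
      intro x hx hxs
      have hgx : simMat g *ᵥ x = s • x := (mem_eigSp g).1 hxs
      have hgx0 : Q (simMat g *ᵥ x) ≠ 0 := by
        rw [simMult_spec]; exact mul_ne_zero (simMult g).ne_zero hx
      rw [conjO_rO g hx hgx0]
      have : Q (s • x) ≠ 0 := hgx ▸ hgx0
      rw [← hscal hx hs0 this]
      congr 1
    refine ⟨⟨rO hv0 * rO hw0, (mem_Omega_iff H _).2 ⟨hdet hv0 hw0, ?_⟩⟩, ?_, ?_⟩
    · rw [map_mul, spinO_rO, spinO_rO, hv, hw, sqc_one, one_mul]
    · rw [map_mul, hfix hv0 v.2, hfix hw0 w.2]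
    · rw [trace_rO_pair hv hw hvw' hv0 hw0, one_mul]
  · set μ := (simMult g : F) with hμdef
    have hμ0 : μ ≠ 0 := (simMult g).ne_zero
    have hgg : ∀ v, simMat g *ᵥ (simMat g *ᵥ v) = μ • v := sq_apply H g hg2 hgs
    have hadj := adjoint_self H g hg2 hgs
    refine ⟨(Fintype.card ι : F) - 8, 2, H.two_ne,
      fun τ => ⟨by rw [map_sub, map_natCast, map_ofNat], map_ofNat τ 2⟩, fun c => ?_⟩
    obtain ⟨v, w, hv, hw, hvw, hvgv, hwgw, hvgw⟩ : ∃ v w : ι → F, Q v = 1 ∧ Q w = 1 ∧
        polar Q v w = c ∧ polar Q v (simMat g *ᵥ v) = 0 ∧ polar Q w (simMat g *ᵥ w) = 0 ∧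
        polar Q v (simMat g *ᵥ w) = 0 := exists_twisted_pair H g hg2 hgs hμ c
    have hv0 : Q v ≠ 0 := hv.trans_ne one_ne_zero
    have hw0 : Q w ≠ 0 := hw.trans_ne one_ne_zero
    set v' := simMat g *ᵥ v with hv'def
    set w' := simMat g *ᵥ w with hw'def
    have hv'0 : Q v' ≠ 0 := by rw [hv'def, simMult_spec]; exact mul_ne_zero hμ0 hv0
    have hw'0 : Q w' ≠ 0 := by rw [hw'def, simMult_spec]; exact mul_ne_zero hμ0 hw0
    have hwv' : polar Q w v' = 0 := by rw [QuadraticMap.polar_comm, hv'def, hadj]; exact hvgw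
    set A₁ := rO hv0 * rO hw0 with hA₁
    set A₂ := rO hv'0 * rO hw'0 with hA₂
    have hconj₁ : conjO Q g A₁ = A₂ := by
      rw [hA₁, map_mul, conjO_rO g hv0 hv'0, conjO_rO g hw0 hw'0]
    have hconj₂ : conjO Q g A₂ = A₁ := by
      have h1 : Q (simMat g *ᵥ v') ≠ 0 := by rw [simMult_spec]; exact mul_ne_zero hμ0 hv'0
      have h2 : Q (simMat g *ᵥ w') ≠ 0 := by rw [simMult_spec]; exact mul_ne_zero hμ0 hw'0
      rw [hA₂, map_mul, conjO_rO g hv'0 h1, conjO_rO g hw'0 h2, hA₁]
      have hv1 : Q (μ • v) ≠ 0 := (hgg v) ▸ h1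
      have hw1 : Q (μ • w) ≠ 0 := (hgg w) ▸ h2
      rw [← hscal hv0 hμ0 hv1, ← hscal hw0 hμ0 hw1]
      congr 1 <;> congr 1 <;> exact hgg _
    -- the two factors move orthogonal planes
    have hA2z : ∀ z, ∃ p q : F,
        ((A₂ : GL ι F) : Matrix ι ι F) *ᵥ z = z + (p • v' + q • w') := fun z => by
      rw [hA₂, Subgroup.coe_mul, Units.val_mul, ← Matrix.mulVec_mulVec, rO_mulVec, rO_mulVec]
      simp only [reflMap_apply]
      exact ⟨-((Q v')⁻¹ * polar Q (z - ((Q w')⁻¹ * polar Q z w') • w') v'), -((Q w')⁻¹ * polar Q z w'),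
        by module⟩
    have hA1fix : ∀ p q : F,
        ((A₁ : GL ι F) : Matrix ι ι F) *ᵥ (p • v' + q • w') = p • v' + q • w' := fun p q => by
      have hxv : polar Q (p • v' + q • w') v = 0 := by
        rw [polar_add_left', polar_smul_left', polar_smul_left', QuadraticMap.polar_comm (⇑Q) v',
          QuadraticMap.polar_comm (⇑Q) w', hvgv, hvgw]; ring
      have hxw : polar Q (p • v' + q • w') w = 0 := by
        rw [polar_add_left', polar_smul_left', polar_smul_left', QuadraticMap.polar_comm (⇑Q) v',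
          QuadraticMap.polar_comm (⇑Q) w', hwv', hwgw]; ring
      rw [hA₁, Subgroup.coe_mul, Units.val_mul, ← Matrix.mulVec_mulVec, rO_mulVec, rO_mulVec]
      simp only [reflMap_apply, hxw, mul_zero, zero_smul, sub_zero, hxv]
    have hsum : ((A₁ * A₂ : ↥(Cfsg.isometryGroup F (⇑Q))) : GL ι F).val =
        ((A₁ : GL ι F) : Matrix ι ι F) + ((A₂ : GL ι F) : Matrix ι ι F) - 1 :=
      Matrix.toLin'.injective (LinearMap.ext fun z => by
        obtain ⟨p, q, hz⟩ := hA2z z
        rw [Matrix.toLin'_apply, Matrix.toLin'_apply, Subgroup.coe_mul, Units.val_mul,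
          ← Matrix.mulVec_mulVec, Matrix.sub_mulVec, Matrix.add_mulVec, Matrix.one_mulVec, hz,
          Matrix.mulVec_add, hA1fix]
        abel)
    have hcomm : A₂ * A₁ = A₁ * A₂ := by
      refine Subtype.ext (Units.ext (Matrix.toLin'.injective (LinearMap.ext fun z => ?_)))
      have h1 : ∀ x, polar Q x v' = polar Q (simMat g *ᵥ x) v := fun x => (hadj x v).symm
      simp only [hA₁, hA₂, Subgroup.coe_mul, Units.val_mul, Matrix.toLin'_apply, ← Matrix.mulVec_mulVec,
        rO_mulVec, reflMap_apply, sub_eq_add_neg, ← neg_smul, polar_add_left', polar_smul_left',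
        hvgv, hwgw, hvgw, hwv', (QuadraticMap.polar_comm (⇑Q) v' v).trans hvgv,
        (QuadraticMap.polar_comm (⇑Q) w' w).trans hwgw, (QuadraticMap.polar_comm (⇑Q) w' v).trans hvgw,
        (QuadraticMap.polar_comm (⇑Q) v' w).trans hwv', mul_zero, add_zero]
      module
    refine ⟨⟨A₁ * A₂, (mem_Omega_iff H _).2 ⟨?_, ?_⟩⟩, ?_, ?_⟩
    · rw [Subgroup.coe_mul, map_mul, hA₁, hA₂, hdet hv0 hw0, hdet hv'0 hw'0, one_mul]
    · rw [hA₁, hA₂, map_mul, map_mul, map_mul, spinO_rO, spinO_rO, spinO_rO, spinO_rO, hv, hw,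
        sqc_one, one_mul, one_mul, hv'def, hw'def, simMult_spec, simMult_spec, hv, hw, mul_one,
        ← sqc_mul hμ0 hμ0, sqc_eq_one_iff (mul_ne_zero hμ0 hμ0)]
      exact ⟨μ, rfl⟩
    · rw [map_mul, hconj₁, hconj₂, hcomm]
    · have ht₂ : ((A₂ : GL ι F) : Matrix ι ι F).trace = ((A₁ : GL ι F) : Matrix ι ι F).trace := by
        rw [← hconj₁, conjO_apply, Units.val_mul, Units.val_mul, Matrix.trace_mul_comm, ← mul_assoc,
          Units.inv_mul, one_mul]
      show (((A₁ * A₂ : ↥(Cfsg.isometryGroup F (⇑Q))) : GL ι F).val).trace = _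
      rw [hsum, Matrix.trace_sub, Matrix.trace_add, ht₂, hA₁, trace_rO_pair hv hw hvw hv0 hw0,
        Matrix.trace_one]
      ring

/-- The criterion: the core vanishes. -/
theorem core_bot_graph (hT : NoTriality Q) (A : Subgroup (MulAut (Cfsg.POmega F (⇑Q))))
    (hinn : Cfsg.Inn (Cfsg.POmega F (⇑Q)) ≤ A) :
    Cfsg.pPrimeCore 2 ↥(A ⊓ Subgroup.centralizer {conjAut Q g}) = ⊥ := by
  classical
  have D : Big Q := ⟨H.nondeg, by rw [Module.finrank_pi]; exact H.seven_le⟩
  haveI : Finite (MulAut (Cfsg.POmega F (⇑Q))) :=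
    Finite.of_injective (fun a => (a : Cfsg.POmega F (⇑Q) → Cfsg.POmega F (⇑Q))) DFunLike.coe_injective
  obtain ⟨Φ, hΦ, hker⟩ := exists_field_hom D hT
  set X := conjAut Q g with hX
  set Z := A ⊓ Subgroup.centralizer {X} with hZ
  set L := Cfsg.Inn (Cfsg.POmega F (⇑Q)) ⊓ Subgroup.centralizer {X} with hL
  set M := (Cfsg.pPrimeCore 2 ↥L).map L.subtype with hM
  set N := (Cfsg.pPrimeCore 2 ↥Z).map Z.subtype with hN
  have hLZ : L ≤ Z := inf_le_inf_right _ hinn
  have hInnpgo : Cfsg.Inn (Cfsg.POmega F (⇑Q)) ≤ (conjAut Q).range := by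
    rw [inn_eq]; exact Subgroup.map_le_range _ _
  have hM1 : M = ⊥ := by
    refine core_trivial H g hg2 hgs M (BalancePSL.core_map_card L) (fun d hd n hn => ?_) fun n hn => ?_
    · refine BalancePSL.core_map_norm (fun l hl => ?_) hn
      have hdX : conjAut Q d * X = X * conjAut Q d := by
        rw [hX, ← map_mul, ← map_mul, Subgroup.mem_centralizer_singleton_iff.1 hd]
      have hdX' : conjAut Q d ∈ Subgroup.centralizer ({X} : Set (MulAut (Cfsg.POmega F (⇑Q)))) :=
        Subgroup.mem_centralizer_singleton_iff.2 hdX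
      obtain ⟨hl1, hl2⟩ := Subgroup.mem_inf.1 hl
      refine ⟨Subgroup.mem_inf.2 ⟨Balance.inn_conj_mem hl1 _, mul_mem (mul_mem hdX' hl2) (inv_mem hdX')⟩,
        Subgroup.mem_inf.2 ⟨?_, mul_mem (mul_mem (inv_mem hdX') hl2) hdX'⟩⟩
      simpa using Balance.inn_conj_mem hl1 (conjAut Q d)⁻¹
    · obtain ⟨hn1, hn2⟩ := Subgroup.mem_inf.1 (Subgroup.map_subtype_le _ hn)
      obtain ⟨h, rfl⟩ := hInnpgo hn1
      exact ⟨h, rfl, Subgroup.mem_centralizer_singleton_iff.1 hn2⟩
  have hNZ : N ≤ Z := Subgroup.map_subtype_le _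
  have hodd : (Nat.card N).Coprime 2 := BalancePSL.core_map_card Z
  have hNinn : ∀ n ∈ N, n ∈ Cfsg.Inn (Cfsg.POmega F (⇑Q)) → n = 1 := by
    intro n hn hi
    have h1 : N ⊓ L ≤ M := BalancePSL.le_core_map inf_le_right
      (fun l hl x hx => Subgroup.mem_inf.2 ⟨BalancePSL.core_map_conj_mem Z (hLZ hl) hx.1,
        mul_mem (mul_mem hl hx.2) (inv_mem hl)⟩)
      (hodd.coprime_dvd_left (Subgroup.card_dvd_of_le inf_le_left))
    have h2 := h1 (Subgroup.mem_inf.2 ⟨hn, Subgroup.mem_inf.2 ⟨hi, (Subgroup.mem_inf.1 (hNZ hn)).2⟩⟩)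
    rwa [hM1, Subgroup.mem_bot] at h2
  rw [← BalancePSL.core_map_bot_iff, ← hN, eq_bot_iff]
  intro y hy
  rw [Subgroup.mem_bot]
  obtain ⟨o, ho, hyo⟩ := BalancePSL.odd_pow_eq_one hodd hy
  -- the field part is trivial
  obtain ⟨R, τ, hp, hi⟩ := exists_induced D hT y
  have hτy : Φ y = τ := hΦ _ _ _ ⟨hp, hi⟩
  have hτo : τ ^ o = 1 := by rw [← hτy, ← map_pow, hyo, map_one]
  obtain ⟨A₀, e, he, hfix, htr⟩ := exists_fixed_trace H g hg2 hgs
  have hsq : ∀ c, τ (A₀ + e * c ^ 2) ^ 2 = (A₀ + e * c ^ 2) ^ 2 := by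
    intro c
    obtain ⟨s, hs, hst⟩ := htr c
    set s' : simGrp Q := Subgroup.inclusion (isometry_le_sim Q) (s : ↥(Cfsg.isometryGroup F (⇑Q)))
      with hs'
    have hsg : s' * g = g * s' := by
      refine Subtype.ext ?_
      have h1 := congrArg (fun x : ↥(Cfsg.isometryGroup F (⇑Q)) => (x : GL ι F)) hs
      simp only [conjO_apply, mul_inv_eq_iff_eq_mul] at h1
      exact h1.symm
    have hsL : conjAut Q s' ∈ L := Subgroup.mem_inf.2
      ⟨⟨QuotientGroup.mk s, (conjAut_incl Q s).symm⟩, Subgroup.mem_centralizer_singleton_iff.2 (by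
        rw [hX, ← map_mul, ← map_mul, hsg])⟩
    set u := conjAut Q s' with hu
    have hyu : u * y = y * u := by
      have h1 := hNinn (y * (u * y⁻¹ * u⁻¹))
        (mul_mem hy (BalancePSL.core_map_conj_mem Z (hLZ hsL) (inv_mem hy)))
        (by rw [show y * (u * y⁻¹ * u⁻¹) = y * u * y⁻¹ * u⁻¹ by group]
            exact mul_mem (Balance.inn_conj_mem (Subgroup.mem_inf.1 hsL).1 y)
              (inv_mem (Subgroup.mem_inf.1 hsL).1))
      calc u * y = y * (u * y⁻¹ * u⁻¹) * (u * y) := by rw [h1, one_mul]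
        _ = y * u := by group
    obtain ⟨c₀, hc₀⟩ := (OrthFieldCent.commute_iff H.nondeg H.seven_le hp hi s').1 hyu
    have hmat : ((semiConj hp (s : ↥(Cfsg.isometryGroup F (⇑Q))) : GL ι F) : Matrix ι ι F) =
        (c₀ : F) • simMat s' := by
      rw [coe_semiConj, ← hc₀, Units.val_mul, Units.val_mul, coe_semiMap]
      rfl
    have hc1 : (c₀ : F) * c₀ = 1 := by
      obtain ⟨v, hv⟩ := H.exists_ne
      have h1 : Q (((semiConj hp (s : ↥(Cfsg.isometryGroup F (⇑Q))) : GL ι F) : Matrix ι ι F) *ᵥ v) = Q v :=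
        (semiConj hp (s : ↥(Cfsg.isometryGroup F (⇑Q)))).2 v v
      have h2 : Q (simMat s' *ᵥ v) = Q v := (s : ↥(Cfsg.isometryGroup F (⇑Q))).2 v v
      rw [hmat, Matrix.smul_mulVec, apply_smul, h2] at h1
      exact mul_right_cancel₀ hv (h1.trans (one_mul _).symm)
    have h3 := congrArg Matrix.trace hmat
    rw [coe_semiConj, Matrix.trace_mul_comm, ← mul_assoc, ← Units.val_mul, inv_mul_cancel, Units.val_one,
      one_mul, Matrix.trace_smul] at h3
    have e1 : ∀ S : Matrix ι ι F, (S.map τ).trace = τ S.trace := fun S => by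
      simp [Matrix.trace, map_sum]
    rw [e1, show (simMat s').trace = A₀ + e * c ^ 2 from hst, hst, smul_eq_mul] at h3
    rw [h3, mul_pow, sq (c₀ : F), hc1, one_mul]
  have hfixed : ∀ z, τ z ^ 2 = z ^ 2 → τ z = z := by
    intro z hz
    rcases sq_eq_sq_iff_eq_or_eq_neg.1 hz with h | h
    · exact h
    obtain ⟨j, rfl⟩ := ho
    have h2 : ∀ i, (τ ^ (2 * i)) z = z := fun i => by
      induction i with
      | zero => rfl
      | succ i ih =>
        rw [show 2 * (i + 1) = 2 * i + 2 by ring, pow_add]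
        show (τ ^ (2 * i)) (τ (τ z)) = z
        rw [h, map_neg τ, h, neg_neg, ih]
    have h3 := RingEquiv.congr_fun hτo z
    rw [pow_succ'] at h3
    change τ ((τ ^ (2 * j)) z) = z at h3
    rwa [h2] at h3
  have hsquares : ∀ c, τ (c ^ 2) = c ^ 2 := fun c => by
    have h1 := hfixed _ (hsq c)
    rw [map_add, map_mul, (hfix τ).1, (hfix τ).2] at h1
    exact mul_left_cancel₀ he (add_left_cancel h1)
  have hτ1 : τ = 1 := RingEquiv.ext fun z => by
    show τ z = z
    have h1 := hsquares z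
    have h2 := hsquares (z + 1)
    simp only [map_pow, map_add, map_one] at h1 h2
    exact mul_left_cancel₀ H.two_ne (by linear_combination h2 - h1)
  have hypgo : y ∈ (conjAut Q).range := by
    rw [← pgoAut_eq, ← hker, MonoidHom.mem_ker, hτy, hτ1]
  obtain ⟨h, rfl⟩ := hypgo
  obtain ⟨i, hi'⟩ := exists_pow_eq_self_of_coprime (x := conjAut Q h) (n := 4)
    (Nat.Coprime.pow_left 2 (Nat.coprime_two_left.2
      (ho.of_dvd_nat (orderOf_dvd_of_pow_eq_one hyo))) : Nat.Coprime (2 ^ 2) _)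
  refine hNinn _ hy ?_
  rw [← hi', ← map_pow]
  exact pow_mem (pow_four_mem D h) i

end CfsgLib.Known.AutPOmega
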