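import Cfsg.Agent.Lib.Known.AutPOmega.BalanceMinusField
import Cfsg.Agent.Lib.Known.AutPOmega.BalanceMinusGraph
import Cfsg.Agent.Lib.Classical.Quad.GraphAutStandard

/-!
The local balance criterion for minus type orthogonal groups.
-/

set_option autoImplicit false
set_option linter.unusedSectionVars false

namespace CfsgLib.Known.AutPOmega

open QuadraticMap (polar polarBilin)
open CfsgLib.Classical.Quad
open scoped Matrix

variable {F : Type*} [Field F] [Fintype F]

theorem core_bot_involution {ι : Type} [Fintype ι] [DecidableEq ι] {Q : QuadraticForm F (ι → F)} {k : ℕ}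
    (H : EvenForm Q k) (hT : NoTriality Q) (hodd : Odd (Fintype.card F))
    (hD : IsSquare (-1 : F) →
      ¬ IsSquare (LinearMap.BilinForm.toMatrix (Pi.basisFun F ι) (polarBilin Q)).det)
    {f : (ι → F) → F} (hf : f = ⇑Q) (x : MulAut (Cfsg.POmega F f)) (hord : orderOf x = 2)
    (S : Subgroup (MulAut (Cfsg.POmega F f))) (hS : HEq S ((sgnHom H).ker.map (conjAut Q)))
    (hx : x ∉ S) (A : Subgroup (MulAut (Cfsg.POmega F f)))
    (hinn : ∀ k : Cfsg.POmega F f, MulAut.conj k ∈ A) :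
    Cfsg.pPrimeCore 2 ↥(A ⊓ Subgroup.centralizer {x}) = ⊥ := by
  subst hf
  obtain rfl := eq_of_heq hS
  have D : Big Q := ⟨H.nondeg, by rw [Module.finrank_pi]; exact H.seven_le⟩
  obtain ⟨R, σ, hp, hi⟩ := exists_induced D hT x
  obtain ⟨g, hg, hgi⟩ := exists_sim_of_involution H hodd hD
    (Subgroup.subset_closure ⟨R, σ, hp, hi⟩ : x ∈ Cfsg.gammaPOmega F (⇑Q)) hord
  obtain rfl := (induced_iff ⟨g, hg⟩ x).1 hgi
  refine core_bot_graph H ⟨g, hg⟩ ?_ ?_ hT A ?_
  · rw [map_mul, ← sq, ← hord, pow_orderOf_eq_one]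
  · exact fun h => hx (Subgroup.mem_map_of_mem _ (MonoidHom.mem_ker.2 h))
  · rintro _ ⟨k, rfl⟩
    exact hinn k

variable {m : ℕ} {a b : F}

theorem not_fieldClass_of_involution (hm : 3 ≤ m)
    (hab : ∀ z₁ z₂ : F, z₁ ^ 2 + a * z₁ * z₂ + b * z₂ ^ 2 = 0 → z₁ = 0 ∧ z₂ = 0) {r : ℕ} [Fact r.Prime]
    [CharP F r] (x : MulAut (Cfsg.POmega F (Cfsg.quadFormMinus m F a b))) (hord : orderOf x = 2) :
    ¬ Cfsg.IsFieldAutClassPOmegaMinus m x := by
  intro hx
  obtain ⟨n, -, hn⟩ := FiniteField.card F r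
  obtain ⟨a', b', ψ, σ, hab', -, ha, hb, hφ⟩ := id hx
  have hord' : orderOf σ = 2 := by
    rw [← OrthFieldCent.orderOf_isField_cast (coe_qMinus m F a' b').symm (qMinus_nondeg hab' m)
      (by simp; omega) (OrthFieldCent.invariant_qMinus σ m ha hb) hφ]
    exact ((MulAut.congr ψ).orderOf_eq x).trans hord
  haveI : Fintype (fixField σ) := Fintype.ofFinite _
  obtain ⟨-, hL⟩ := AutPSL.exists_fixed_field hn n.pos σ hord'
  obtain ⟨h, -⟩ := OrthFieldCent.minus_full hn n.pos hm a b hab x hx Nat.prime_two hord (fixField σ)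
    (by rw [← Nat.card_eq_fintype_card]; exact hL)
  exact absurd h (by decide)

theorem balance_minus (hm : 3 ≤ m)
    (hab : ∀ z₁ z₂ : F, z₁ ^ 2 + a * z₁ * z₂ + b * z₂ ^ 2 = 0 → z₁ = 0 ∧ z₂ = 0) {r : ℕ} [Fact r.Prime]
    [CharP F r] {p : ℕ} [Fact p.Prime] (hpr : p ≠ r)
    (A : Subgroup (MulAut (Cfsg.POmega F (Cfsg.quadFormMinus m F a b))))
    (hinn : ∀ k : Cfsg.POmega F (Cfsg.quadFormMinus m F a b), MulAut.conj k ∈ A)
    (x : MulAut (Cfsg.POmega F (Cfsg.quadFormMinus m F a b))) (hord : orderOf x = p)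
    (hnot : ¬ Cfsg.IsInnerDiagonalAutPOmegaMinus m a b x) :
    Cfsg.pPrimeCore p ↥(A ⊓ Subgroup.centralizer {x}) ≠ ⊥ ↔ (Cfsg.IsFieldAutClassPOmegaMinus m x ∧
      Nat.Coprime p (Nat.card ↥(MonoidHom.eqLocus x.toMonoidHom
        (MonoidHom.id (Cfsg.POmega F (Cfsg.quadFormMinus m F a b)))))) := by
  have hx : x ∉ Cfsg.inndiagPOmegaMinus m F a b := fun h => hnot (isInnerDiagonal_of_mem hm hab h)
  rcases (Fact.out : p.Prime).eq_two_or_odd' with h2p | hp
  · subst h2p
    refine iff_of_false (fun h => h ?_) fun h => not_fieldClass_of_involution hm hab (r := r) x hord h.1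
    have hF2 : (2 : F) ≠ 0 := fun h2 => hpr ((CharP.ringChar_of_prime_eq_zero Nat.prime_two
      (by exact_mod_cast h2)).symm.trans (ringChar.eq F r))
    have hodd : Odd (Fintype.card F) := Nat.odd_iff.2 (FiniteField.odd_card_of_char_ne_two fun hc => hF2 (by
      have := ringChar.eq_iff.1 hc; exact CharTwo.two_eq_zero))
    have H := evenForm_qMinus (F := F) hodd hm hab
    have hD : IsSquare (-1 : F) → ¬ IsSquare (LinearMap.BilinForm.toMatrix
        (Pi.basisFun F ((Fin m ⊕ Fin m) ⊕ Fin 2)) (polarBilin (qMinus m F a b))).det := by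
      rintro ⟨i, hi⟩ ⟨r, hr⟩
      rw [det_gram_qMinus] at hr
      have hs : a ^ 2 - 4 * b = (i * r / i ^ m) * (i * r / i ^ m) := by
        have hi0 : i ≠ 0 := fun h => by rw [h, mul_zero] at hi; exact neg_ne_zero.2 one_ne_zero hi
        have hp : ((-1 : F)) ^ m = i ^ m * i ^ m := by rw [← mul_pow, ← hi]
        rw [hp] at hr
        field_simp
        linear_combination (r * r) * hi - hr
      set s := i * r / i ^ m
      have h1 := hab ((-a + s) / 2) 1 (by field_simp; linear_combination -hs)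
      exact one_ne_zero h1.2
    exact core_bot_involution H (big_qMinus (F := F) hm hab).2 hodd hD (coe_qMinus m F a b).symm x hord _
      (by rw [inndiagMinus_eq hodd hm hab]; exact cast_heq _ _) hx A hinn
  · obtain ⟨hcl, hcrit⟩ := balance_minus_field hm hab (r := r) hp x hord hx A hinn
    rw [and_iff_right hcl]
    exact hcrit

end CfsgLib.Known.AutPOmega
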