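import Cfsg.Agent.Lib.Known.AutPOmega.Counts
import Cfsg.Agent.Lib.Known.QuadClassify

/-!
Similar forms give isomorphic groups `PΩ`; all minus type forms of given rank are similar.
-/

set_option autoImplicit false
set_option linter.unusedSectionVars false

namespace CfsgLib.Known.AutPOmega

open QuadraticMap (polar polarBilin)
open CfsgLib.Classical.Quad

/-- Isomorphic groups have isomorphic central quotients of their derived groups. -/
theorem derived_quot_congr {G H : Type*} [Group G] [Group H] (e : G ≃* H) :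
    Nonempty ((commutator G ⧸ Subgroup.center (commutator G)) ≃*
      (commutator H ⧸ Subgroup.center (commutator H))) := by
  let e' : commutator G ≃* commutator H := (e.subgroupMap (commutator G)).trans
    (MulEquiv.subgroupCongr (by
      show (commutator G).map e.toMonoidHom = _
      rw [commutator_def, commutator_def, Subgroup.map_commutator,
        Subgroup.map_top_of_surjective _ e.surjective]))
  exact ⟨QuotientGroup.congr _ _ e' (map_center_eq e')⟩

/-- Isomorphic groups have isomorphic outer automorphism groups. -/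
theorem out_congr {G H : Type*} [Group G] [Group H] (e : G ≃* H) :
    Nonempty (Cfsg.Out G ≃* Cfsg.Out H) := by
  refine ⟨QuotientGroup.congr _ _ (MulAut.congr e) ?_⟩
  ext β
  constructor
  · rintro ⟨α, ⟨x, rfl⟩, rfl⟩
    exact ⟨e x, MulEquiv.ext fun y => by simp [MulAut.congr, MulAut.conj_apply]⟩
  · rintro ⟨x, rfl⟩
    exact ⟨MulAut.conj (e.symm x), ⟨_, rfl⟩,
      MulEquiv.ext fun y => by simp [MulAut.congr, MulAut.conj_apply]⟩

variable {F : Type*} [Field F] {ι κ : Type} [Fintype ι] [DecidableEq ι] [Fintype κ] [DecidableEq κ]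
  {Q : QuadraticForm F (ι → F)} {Q' : QuadraticForm F (κ → F)}

theorem pOmega_congr (e : (ι → F) ≃ₗ[F] (κ → F)) (c : F) (hc : c ≠ 0)
    (he : ∀ v, Q' (e v) = c * Q v) :
    Nonempty (Cfsg.POmega F (⇑Q) ≃* Cfsg.POmega F (⇑Q')) := by
  have h1 : ∀ g : (ι → F) ≃ₗ[F] (ι → F), g ∈ OQ Q → (e.symm.trans g).trans e ∈ OQ Q' :=
    fun g hg => mem_OQ.2 fun v => by
      show Q' (e (g (e.symm v))) = Q' v
      rw [he, mem_OQ.1 hg, ← he, LinearEquiv.apply_symm_apply]
  have h2 : ∀ g : (κ → F) ≃ₗ[F] (κ → F), g ∈ OQ Q' → (e.trans g).trans e.symm ∈ OQ Q :=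
    fun g hg => mem_OQ.2 fun v => by
      show Q (e.symm (g (e v))) = Q v
      refine mul_left_cancel₀ hc ?_
      rw [← he, ← he, LinearEquiv.apply_symm_apply, mem_OQ.1 hg]
  let E : OQ Q ≃* OQ Q' :=
    { toFun := fun g => ⟨_, h1 g.1 g.2⟩
      invFun := fun g => ⟨_, h2 g.1 g.2⟩
      left_inv := fun g => Subtype.ext (LinearEquiv.ext fun v => by simp)
      right_inv := fun g => Subtype.ext (LinearEquiv.ext fun v => by simp)
      map_mul' := fun g h => Subtype.ext (LinearEquiv.ext fun v => by simp) }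
  obtain ⟨φ⟩ := derived_quot_congr E
  exact ⟨((pOmegaEquiv Q).trans φ).trans (pOmegaEquiv Q').symm⟩

/-- Changing the two coefficients of the binary part of a minus type form. -/
theorem qMinus_change (k : ℕ) (a b s t : F) (hs : s ≠ 0) :
    ∃ e : ((Fin k ⊕ Fin k) ⊕ Fin 2 → F) ≃ₗ[F] ((Fin k ⊕ Fin k) ⊕ Fin 2 → F),
      ∀ v, qMinus k F a b (e v) =
        s ^ 2 * qMinus k F ((a + 2 * t) / s) ((b + a * t + t ^ 2) / s ^ 2) v := by
  refine ⟨{ toFun := fun v => Sum.elim (Sum.elim (fun i => s ^ 2 * v (.inl (.inl i))) fun i => v (.inl (.inr i)))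
              ![s * v (.inr 0) + t * v (.inr 1), v (.inr 1)]
            map_add' := fun u v => by
              funext x; rcases x with (x | x) | x
              · simp [mul_add]
              · simp
              · fin_cases x <;> simp <;> ring
            map_smul' := fun c v => by
              funext x; rcases x with (x | x) | x
              · simp [mul_left_comm]
              · simp
              · fin_cases x <;> simp <;> ring
            invFun := fun v => Sum.elim (Sum.elim (fun i => (s ^ 2)⁻¹ * v (.inl (.inl i))) fun i => v (.inl (.inr i)))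
              ![s⁻¹ * (v (.inr 0) - t * v (.inr 1)), v (.inr 1)]
            left_inv := fun v => by
              funext x; rcases x with (x | x) | x
              · simp [hs]
              · simp
              · fin_cases x <;> simp [hs]
            right_inv := fun v => by
              funext x; rcases x with (x | x) | x
              · simp [hs]
              · simp
              · fin_cases x <;> simp [hs] }, fun v => ?_⟩
  simp only [coe_qMinus, Cfsg.quadFormMinus, LinearEquiv.coe_mk, LinearMap.coe_mk, AddHom.coe_mk,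
    Sum.elim_inl, Sum.elim_inr, Matrix.cons_val_zero, Matrix.cons_val_one, mul_assoc,
    ← Finset.mul_sum]
  field_simp
  ring

theorem qMinus_normalize [Finite F] (k : ℕ) (a b : F)
    (hab : ∀ z₁ z₂ : F, z₁ ^ 2 + a * z₁ * z₂ + b * z₂ ^ 2 = 0 → z₁ = 0 ∧ z₂ = 0) :
    ∃ (ζ : F) (c : F) (e : ((Fin k ⊕ Fin k) ⊕ Fin 2 → F) ≃ₗ[F] ((Fin k ⊕ Fin k) ⊕ Fin 2 → F)),
      c ≠ 0 ∧ (∀ t : F, t ^ 2 + t + ζ ≠ 0) ∧ ∀ v, qMinus k F a b (e v) = c * qMinus k F 1 ζ v := by
  obtain ⟨t, ht⟩ : ∃ t : F, a + 2 * t ≠ 0 := by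
    by_cases ha : a = 0
    · refine ⟨1, ?_⟩
      rw [ha, zero_add, mul_one]
      intro h2
      obtain ⟨w, hw⟩ := isSquare_all_char_two (F := F) h2 b
      exact one_ne_zero (hab w 1 (by rw [ha, hw]; linear_combination w * w * h2)).2
    · exact ⟨0, by rwa [mul_zero, add_zero]⟩
  obtain ⟨e, he⟩ := qMinus_change k a b (a + 2 * t) t ht
  rw [div_self ht] at he
  refine ⟨_, _, e, pow_ne_zero 2 ht, fun x hx => ?_, he⟩
  refine one_ne_zero (hab ((a + 2 * t) * x + t) 1 ?_).2
  have h1 : (b + a * t + t ^ 2) / (a + 2 * t) ^ 2 = -(x ^ 2 + x) := by linear_combination hx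
  rw [div_eq_iff (pow_ne_zero 2 ht)] at h1
  linear_combination h1

theorem pOmega_minus_congr [Finite F] (k : ℕ) (a b a' b' : F)
    (hab : ∀ z₁ z₂ : F, z₁ ^ 2 + a * z₁ * z₂ + b * z₂ ^ 2 = 0 → z₁ = 0 ∧ z₂ = 0)
    (hab' : ∀ z₁ z₂ : F, z₁ ^ 2 + a' * z₁ * z₂ + b' * z₂ ^ 2 = 0 → z₁ = 0 ∧ z₂ = 0) :
    Nonempty (Cfsg.POmega F (⇑(qMinus k F a b)) ≃* Cfsg.POmega F (⇑(qMinus k F a' b'))) := by
  obtain ⟨ζ, c, e, hc, hζ, he⟩ := qMinus_normalize k a b hab
  obtain ⟨η, c', e', hc', hη, he'⟩ := qMinus_normalize k a' b' hab'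
  obtain ⟨g, hg⟩ := QuadClassify.minus_equiv k hη hζ
  obtain ⟨φ₁⟩ := pOmega_congr e c hc he
  obtain ⟨φ₂⟩ := pOmega_congr e' c' hc' he'
  obtain ⟨φ₃⟩ := pOmega_congr (Q := qMinus k F 1 ζ) (Q' := qMinus k F 1 η) g 1 one_ne_zero fun v => by
    rw [one_mul, coe_qMinus, coe_qMinus, hg]
  exact ⟨(φ₁.symm.trans φ₃).trans φ₂⟩

end CfsgLib.Known.AutPOmega
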