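import Cfsg.Agent.Lib.Known.AutPOmega.FieldCoset
import Cfsg.Agent.Lib.Known.AutPOmega.Extend
import Cfsg.Agent.Lib.Known.AutPOmega.Transport
import Cfsg.Agent.Lib.Known.OrthFieldCent.Transport
import Cfsg.Agent.Lib.Known.OrthFieldCent.Minus

/-!
Elements of prime order in the coset of a field automorphism of minus type.
-/

set_option autoImplicit false
set_option linter.unusedSectionVars false

namespace CfsgLib.Known.AutPOmega

open QuadraticMap (polar polarBilin)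
open CfsgLib.Classical.Quad
open CfsgLib.Known.OrthFieldCent (FormMap Invariant)
open scoped Matrix

variable {F : Type*} [Field F] {m : ℕ} {a b : F}

/-- The anisotropic vector of the standard reflection. -/
def unitVec (F : Type*) [Field F] (m : ℕ) : (Fin m ⊕ Fin m) ⊕ Fin 2 → F := Pi.single (Sum.inr 0) 1

theorem unitVec_val : qMinus m F a b (unitVec F m) = 1 := by
  simp [unitVec, coe_qMinus, Cfsg.quadFormMinus]

theorem unitVec_ne : qMinus m F a b (unitVec F m) ≠ 0 := by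
  rw [unitVec_val]; exact one_ne_zero

/-- The standard reflection as a similarity. -/
noncomputable def unitSim (F : Type*) [Field F] (m : ℕ) (a b : F) : simGrp (qMinus m F a b) :=
  Subgroup.inclusion (isometry_le_sim _) (rO (unitVec_ne (F := F) (m := m) (a := a) (b := b)))

theorem unitSim_fixed (σ : F ≃+* F) (ha : σ a = a) (hb : σ b = b) :
    semiMap σ (unitSim F m a b : GL ((Fin m ⊕ Fin m) ⊕ Fin 2) F) = unitSim F m a b := by
  refine Units.ext (Matrix.ext_of_mulVec_single fun l => ?_)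
  have hl : (fun i => σ ((Pi.single l (1 : F) : _ → F) i)) = Pi.single l 1 := funext fun i => by
    by_cases h : i = l <;> simp [h]
  have h1 := semiMap_mulVec σ (unitSim F m a b : GL ((Fin m ⊕ Fin m) ⊕ Fin 2) F) (Pi.single l 1)
  rw [hl] at h1
  rw [h1]
  show (fun i => σ ((((rO (unitVec_ne (F := F) (m := m) (a := a) (b := b)) :
    GL ((Fin m ⊕ Fin m) ⊕ Fin 2) F) : Matrix ((Fin m ⊕ Fin m) ⊕ Fin 2) ((Fin m ⊕ Fin m) ⊕ Fin 2) F) *ᵥ
      Pi.single l 1) i)) = ((rO (unitVec_ne (F := F) (m := m) (a := a) (b := b)) :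
    GL ((Fin m ⊕ Fin m) ⊕ Fin 2) F) : Matrix ((Fin m ⊕ Fin m) ⊕ Fin 2) ((Fin m ⊕ Fin m) ⊕ Fin 2) F) *ᵥ
      Pi.single l 1
  rw [rO_mulVec, reflMap_apply, unitVec_val, inv_one, one_mul]
  have hu : (fun i => σ (unitVec F m i)) = unitVec F m := funext fun i => by
    by_cases h : i = Sum.inr 0 <;> simp [unitVec, h]
  have hI := OrthFieldCent.invariant_qMinus σ m ha hb
  have hp : σ (polar (qMinus m F a b) (Pi.single l 1) (unitVec F m)) =
      polar (qMinus m F a b) (Pi.single l 1) (unitVec F m) := by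
    rw [QuadraticMap.polar, map_sub, map_sub, ← hI, ← hI, ← hI, hl, hu]
    congr 3
    funext i
    rw [Pi.add_apply, map_add, congrFun hl i, congrFun hu i]
  funext i
  rw [Pi.sub_apply, Pi.smul_apply, smul_eq_mul, map_sub, map_mul, hp, congrFun hl i, congrFun hu i]

variable [Fintype F]

theorem class_minus (hab : ∀ z₁ z₂ : F, z₁ ^ 2 + a * z₁ * z₂ + b * z₂ ^ 2 = 0 → z₁ = 0 ∧ z₂ = 0)
    (D : Big (qMinus m F a b)) (σ : F ≃+* F) (ha : σ a = a) (hb : σ b = b)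
    (ψ : MulAut (Cfsg.POmega F (⇑(qMinus m F a b)))) (hψ : Ind (qMinus m F a b) 1 σ ψ)
    (g : simGrp (qMinus m F a b)) (H : GL ((Fin m ⊕ Fin m) ⊕ Fin 2) F) (t : Fˣ)
    (hH : simMat g * (H : Matrix ((Fin m ⊕ Fin m) ⊕ Fin 2) ((Fin m ⊕ Fin m) ⊕ Fin 2) F).map σ =
      (t : F) • (H : Matrix ((Fin m ⊕ Fin m) ⊕ Fin 2) ((Fin m ⊕ Fin m) ⊕ Fin 2) F))
    (Q₁ : QuadraticForm (fixField σ) ((Fin m ⊕ Fin m) ⊕ Fin 2 → fixField σ)) (s : F) (hs : s ≠ 0)
    (hnd : (polarBilin Q₁).Nondegenerate)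
    (hQ₁ : ∀ u : (Fin m ⊕ Fin m) ⊕ Fin 2 → fixField σ, qMinus m F a b
      ((H : Matrix ((Fin m ⊕ Fin m) ⊕ Fin 2) ((Fin m ⊕ Fin m) ⊕ Fin 2) F) *ᵥ
        fun i => ((u i : fixField σ) : F)) = s * (Q₁ u : F)) :
    ∃ k : simGrp (qMinus m F a b),
      conjAut _ g * ψ = conjAut _ k * ψ * (conjAut _ k)⁻¹ := by
  classical
  rcases QuadClassify.classify_even (m := m + 1) (by rw [Module.finrank_pi]; simp; omega) Q₁ hnd with
    ⟨e, he⟩ | ⟨-, ζ, e, hζ, he⟩
  · exfalso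
    obtain ⟨G, l, hl, hG⟩ := extend_base (S := qPlus (m + 1) (fixField σ)) (SF := qPlus (m + 1) F)
      hs hQ₁ (by simp; omega) (qPlus_nondeg _) (fun v => by simp [coe_qPlus, Cfsg.quadFormPlus])
      (e : _ →ₗ[fixField σ] _) one_ne_zero (fun v => by rw [one_mul, coe_qPlus]; exact he v)
    obtain ⟨Dl, hDl⟩ := plus_scaled (m + 1) l⁻¹ (inv_ne_zero hl)
    refine QuadClassify.not_isometric (m := m + 1) (by omega) a b hab
      (Dl.toEquiv.trans G.toEquiv) fun v => ?_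
    rw [← coe_qPlus]
    show Cfsg.quadFormMinus m F a b (G (Dl v)) = _
    rw [← coe_qMinus, hG, hDl, mul_inv_cancel_left₀ hl]
  · let a' : fixField σ := ⟨a, ha⟩
    let b' : fixField σ := ⟨b, hb⟩
    have hab' : ∀ z₁ z₂ : fixField σ, z₁ ^ 2 + a' * z₁ * z₂ + b' * z₂ ^ 2 = 0 → z₁ = 0 ∧ z₂ = 0 := by
      intro z₁ z₂ h
      obtain ⟨h1, h2⟩ := hab z₁ z₂ (congrArg (fun x : fixField σ => (x : F)) h)
      exact ⟨Subtype.ext h1, Subtype.ext h2⟩
    obtain ⟨η, c, e', hc, hη, he'⟩ := qMinus_normalize m a' b' hab'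
    obtain ⟨g', hg'⟩ := QuadClassify.minus_equiv m hζ hη
    let d : FormMap (qMinus m (fixField σ) a' b') (qMinus m F a b) :=
      { j := (fixField σ).subtype, e := Equiv.refl _, A := 1, μ := 1
        spec := fun v => by simp [coe_qMinus, Cfsg.quadFormMinus, a', b'] }
    obtain ⟨k, hk⟩ := exists_conj D hψ g hH hs hQ₁ ((e'.symm.trans g').trans e) (inv_ne_zero hc)
      (fun v => by
        show Q₁ (e (g' (e'.symm v))) = _
        rw [he]
        show Cfsg.quadFormMinus m (fixField σ) 1 ζ (g' (e'.symm v)) = _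
        rw [hg', ← coe_qMinus]
        have h1 := he' (e'.symm v)
        rw [e'.apply_symm_apply] at h1
        rw [h1, inv_mul_cancel_left₀ hc]) d rfl 1
      (by show _ * semiMap σ (1 : GL _ F) = 1; rw [map_one, mul_one]; rfl)
    exact ⟨k, by rw [hk, map_one, one_mul]⟩

theorem coset_minus_std (hm : 3 ≤ m)
    (hab : ∀ z₁ z₂ : F, z₁ ^ 2 + a * z₁ * z₂ + b * z₂ ^ 2 = 0 → z₁ = 0 ∧ z₂ = 0)
    {σ : F ≃+* F} (hσ1 : σ ≠ RingEquiv.refl F) (ha : σ a = a) (hb : σ b = b)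
    (x δ : MulAut (Cfsg.POmega F (Cfsg.quadFormMinus m F a b)))
    (hx : Cfsg.IsFieldAutPOmegaOf (Cfsg.quadFormMinus m F a b) σ x)
    {r : ℕ} (hr : r.Prime) (hxr : orderOf x = r) (hδ : δ ∈ Cfsg.inndiagPOmegaMinus m F a b) :
    orderOf (δ * x) = r ↔ Cfsg.IsConjUnder (Cfsg.inndiagPOmegaMinus m F a b) x (δ * x) := by
  classical
  obtain ⟨D, hT⟩ := big_qMinus (F := F) hm hab
  have hcard := seven_le_card D
  haveI := OrthFieldCent.inndiagMinus_normal (F := F) hm hab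
  have hz : (1 : MulAut (Cfsg.POmega F (Cfsg.quadFormMinus m F a b))) * x *
      (1 : MulAut (Cfsg.POmega F (Cfsg.quadFormMinus m F a b)))⁻¹ = 1 * x := by group
  by_cases h2 : (2 : F) = 0
  · obtain ⟨hcases, hnot⟩ := innS_cases_two h2 (qMinus_nondeg hab m) hcard
      (unitVec_ne (F := F) (m := m) (a := a) (b := b))
    exact coset_iff (Q := qMinus m F a b) D hT (coe_qMinus m F a b).symm (innS _)
      (by rw [innS_eq]; exact le_sup_right) (unitSim F m a b) hcases (fun h => absurd h hnot)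
      (OrthFieldCent.invariant_qMinus σ m ha hb) hσ1 (unitSim_fixed σ ha hb) _
      (by rw [OrthFieldCent.inndiagMinus_two h2 hm hab, OrthFieldCent.map_innS]; exact cast_heq _ _)
      hx hr (fun ψ hψ _ g H t hH Q₁ s hs hnd hQ₁ => by
        obtain ⟨k, hk⟩ := class_minus hab D σ ha hb ψ hψ g H t hH Q₁ s hs hnd hQ₁
        exact ⟨k, Or.inl hk⟩)
      (x := x) (α := 1) (n₀ := 1) (one_mem _) hz hxr hδ
  · have hodd : Odd (Fintype.card F) := Nat.odd_iff.2 (FiniteField.odd_card_of_char_ne_two fun hc => h2 (by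
      have := ringChar.eq_iff.1 hc; exact CharTwo.two_eq_zero))
    set H := evenForm_qMinus (F := F) hodd hm hab
    obtain ⟨hcases, hnot⟩ := sgn_cases H (unitVec_ne (F := F) (m := m) (a := a) (b := b))
    exact coset_iff (Q := qMinus m F a b) D hT (coe_qMinus m F a b).symm (sgnHom H).ker
      (OrthFieldCent.ker_le_sgn_ker H) (unitSim F m a b) hcases (fun h => absurd h hnot)
      (OrthFieldCent.invariant_qMinus σ m ha hb) hσ1 (unitSim_fixed σ ha hb) _
      (by rw [inndiagMinus_eq hodd hm hab]; exact cast_heq _ _)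
      hx hr (fun ψ hψ _ g H t hH Q₁ s hs hnd hQ₁ => by
        obtain ⟨k, hk⟩ := class_minus hab D σ ha hb ψ hψ g H t hH Q₁ s hs hnd hQ₁
        exact ⟨k, Or.inl hk⟩)
      (x := x) (α := 1) (n₀ := 1) (one_mem _) hz hxr hδ

theorem isConjUnder_map {X Y : Type*} [Group X] [Group Y] (Θ : X ≃* Y) (L : Subgroup X) (u v : X) :
    Cfsg.IsConjUnder (L.map Θ.toMonoidHom) (Θ u) (Θ v) ↔ Cfsg.IsConjUnder L u v := by
  constructor
  · rintro ⟨_, ⟨k, hk, rfl⟩, e⟩
    refine ⟨k, hk, Θ.injective ?_⟩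
    rw [e]
    simp
  · rintro ⟨k, hk, rfl⟩
    exact ⟨Θ k, ⟨k, hk, rfl⟩, by simp⟩

theorem coset_minus (hm : 3 ≤ m)
    (hab : ∀ z₁ z₂ : F, z₁ ^ 2 + a * z₁ * z₂ + b * z₂ ^ 2 = 0 → z₁ = 0 ∧ z₂ = 0)
    (x δ : MulAut (Cfsg.POmega F (Cfsg.quadFormMinus m F a b)))
    (hx : Cfsg.IsFieldAutClassPOmegaMinus m x)
    {r : ℕ} (hr : r.Prime) (hxr : orderOf x = r) (hδ : δ ∈ Cfsg.inndiagPOmegaMinus m F a b) :
    orderOf (δ * x) = r ↔ Cfsg.IsConjUnder (Cfsg.inndiagPOmegaMinus m F a b) x (δ * x) := by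
  obtain ⟨a', b', ψ, σ, hab', hσ1, ha, hb, hφ⟩ := hx
  set Θ := MulAut.congr ψ
  have hmap := OrthFieldCent.map_inndiagMinus hm hab hab' ψ
  have hΘx : Cfsg.IsFieldAutPOmegaOf (Cfsg.quadFormMinus m F a' b') σ (Θ x) := hφ
  have h := coset_minus_std hm hab' hσ1 ha hb (Θ x) (Θ δ) hΘx hr ((Θ.orderOf_eq x).trans hxr)
    (hmap ▸ Subgroup.mem_map_of_mem _ hδ)
  rw [← hmap, ← map_mul, Θ.orderOf_eq, isConjUnder_map] at h
  exact h

end CfsgLib.Known.AutPOmega
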