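import Cfsg.Agent.Lib.Known.AutPOmega.OutStructure
import Cfsg.Agent.Lib.Known.AutPSL.Structure

/-!
The automorphism group and the outer automorphism group in odd dimension.
-/

set_option autoImplicit false
set_option linter.unusedSectionVars false

namespace CfsgLib.Known.AutPOmega

open QuadraticMap (polar polarBilin)
open CfsgLib.Classical.Quad
open scoped Matrix

variable {F : Type*} [Field F] [Fintype F]

/-- The Frobenius. -/
theorem exists_frob {p f : ℕ} [Fact p.Prime] (hf : 1 ≤ f) (hF : Fintype.card F = p ^ f) :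
    ∃ σ : F ≃+* F, (∀ (j : ℕ) (x : F), (σ ^ j) x = x ^ p ^ j) ∧ orderOf σ = f ∧
      Nat.card (F ≃+* F) = f ∧ ∀ τ : F ≃+* F, τ ∈ Subgroup.zpowers σ := by
  obtain ⟨hcard, -⟩ := AutPSL.card_ringAut (F := F) hF hf
  haveI : CharP F p := by
    obtain ⟨q, hq⟩ := CharP.exists F
    have hq' := Fact.mk (CharP.char_is_prime F q)
    obtain ⟨n, -, hn⟩ := FiniteField.card F q
    have hdvd : q ∣ p ^ f := by rw [← hF, hn]; exact dvd_pow_self q n.ne_zero
    rwa [← (Nat.prime_dvd_prime_iff_eq hq'.out (Fact.out : p.Prime)).1 (hq'.out.dvd_of_dvd_pow hdvd)]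
  set σ := frobeniusEquiv F p
  have happ : ∀ (j : ℕ) (x : F), (σ ^ j) x = x ^ p ^ j := by
    intro j
    induction j with
    | zero => intro x; rw [pow_zero, pow_zero, pow_one]; rfl
    | succ j ih =>
      intro x
      rw [pow_succ', pow_succ]
      show σ ((σ ^ j) x) = _
      rw [ih, frobeniusEquiv_def, pow_mul]
  have hone : σ ^ f = 1 := RingEquiv.ext fun x => by rw [happ, ← hF, FiniteField.pow_card]; rfl
  have hord : orderOf σ = f := by
    refine le_antisymm (orderOf_le_of_pow_eq_one (by omega) hone) ?_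
    set j := orderOf σ
    have hj : 0 < j := orderOf_pos_iff.2 (isOfFinOrder_iff_pow_eq_one.2 ⟨f, by omega, hone⟩)
    by_contra hlt
    push Not at hlt
    obtain ⟨u, hu⟩ := IsCyclic.exists_generator (α := Fˣ)
    have h1 : (u : F) ^ p ^ j = u := by rw [← happ, pow_orderOf_eq_one]; rfl
    have h2 : u ^ (p ^ j - 1) = 1 := by
      have hp1 : 1 ≤ p ^ j := Nat.one_le_pow _ _ (Fact.out : p.Prime).pos
      apply Units.ext
      rw [Units.val_pow_eq_pow_val, Units.val_one]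
      apply mul_right_cancel₀ u.ne_zero
      rw [one_mul, ← pow_succ, Nat.sub_add_cancel hp1, h1]
    have h3 := Nat.le_of_dvd (by
      have : 2 ≤ p ^ j := le_trans (Fact.out : p.Prime).two_le (Nat.le_self_pow (by omega) p)
      omega) (orderOf_dvd_of_pow_eq_one h2)
    rw [orderOf_eq_card_of_forall_mem_zpowers hu, Nat.card_units, Nat.card_eq_fintype_card,
      hF] at h3
    have h4 : p ^ j < p ^ f := Nat.pow_lt_pow_right (Fact.out : p.Prime).one_lt hlt
    have : 1 ≤ p ^ j := Nat.one_le_pow _ _ (Fact.out : p.Prime).pos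
    omega
  refine ⟨σ, happ, hord, hcard, fun τ => ?_⟩
  haveI : Finite (F ≃+* F) :=
    Finite.of_injective (fun e : F ≃+* F => (e : F → F)) DFunLike.coe_injective
  rw [Subgroup.eq_top_of_card_eq (Subgroup.zpowers σ) (by rw [Nat.card_zpowers, hord, hcard])]
  exact Subgroup.mem_top τ

theorem qOdd_semilinear (m : ℕ) (σ : F ≃+* F) :
    Cfsg.IsSemisimilarityPair (⇑(qOdd m F)) 1 σ := ⟨1, fun v => by
  simp [coe_qOdd, Cfsg.quadFormOdd, Cfsg.quadFormPlus, map_add, map_pow, map_sum, map_mul]⟩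

theorem odd_data (h2 : (2 : F) ≠ 0) {m : ℕ} (hm : 3 ≤ m) :
    ∃ (Φ : MulAut (Cfsg.POmega F (⇑(qOdd m F))) →* (F ≃+* F))
      (s : (F ≃+* F) →* MulAut (Cfsg.POmega F (⇑(qOdd m F)))),
      Φ.ker = Cfsg.pgoAut F (⇑(qOdd m F)) ∧ (∀ σ, Φ (s σ) = σ) ∧
      Nat.card ↥(Cfsg.pgoAut F (⇑(qOdd m F))) =
        2 * Nat.card (Cfsg.POmega F (⇑(qOdd m F))) := by
  obtain ⟨D, hT⟩ := big_qOdd (F := F) h2 hm
  obtain ⟨Φ, hΦ, hk⟩ := exists_field_hom D hT
  choose s hs using fun σ : F ≃+* F => Ind.exists (qOdd_semilinear m σ)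
  refine ⟨Φ, MonoidHom.mk' s fun σ τ => ?_, hk, fun σ => hΦ _ _ _ (hs σ), ?_⟩
  · have h := (hs σ).mul (hs τ)
    rw [map_one, mul_one] at h
    exact (hs (σ * τ)).unique h
  have hc : Fintype.card (Unit ⊕ (Fin m ⊕ Fin m)) = 2 * m + 1 := by simp; omega
  refine card_pgo_two D (isSquare_mult_odd D.nondeg hc) ?_
  rintro ⟨⟨g, hg, hval⟩, -⟩
  have hle := Omega_le_squares D.nondeg (hex_of_two_ne_zero h2) hg
  have hdet : g ∈ Cfsg.specialIsometryGroup F (⇑(qOdd m F)) :=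
    (Subgroup.closure_le _).2 (by rintro _ ⟨x, hx, rfl⟩; exact mul_mem hx hx) hle
  have h3 := congrArg (fun u : Fˣ => (u : F)) (show Matrix.GeneralLinearGroup.det
    (g : Matrix.GeneralLinearGroup (Unit ⊕ (Fin m ⊕ Fin m)) F) = 1 from hdet)
  simp only [Matrix.GeneralLinearGroup.val_det_apply, hval, Matrix.det_neg, Matrix.det_one,
    Units.val_one, hc, mul_one] at h3
  rw [Odd.neg_one_pow ⟨m, rfl⟩] at h3
  exact h2 (by linear_combination -h3)

theorem card_aut_odd {p f : ℕ} [Fact p.Prime] (hf : 1 ≤ f) (hF : Fintype.card F = p ^ f)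
    (hodd : Odd p) {m : ℕ} (hm : 3 ≤ m) :
    Nat.card (MulAut (Cfsg.POmega F (⇑(qOdd m F)))) =
      2 * f * Nat.card (Cfsg.POmega F (⇑(qOdd m F))) := by
  obtain ⟨Φ, s, hk, hs, hc⟩ := odd_data (two_ne_zero_of_odd hF hodd.pow) hm
  rw [card_aut (fun σ => ⟨s σ, hs σ⟩) hk, hc, (AutPSL.card_ringAut (F := F) hF hf).1]
  ring

theorem out_odd {p f : ℕ} [Fact p.Prime] (hf : 1 ≤ f) (hF : Fintype.card F = p ^ f)
    (hodd : Odd p) {m : ℕ} (hm : 3 ≤ m) :
    Nonempty (Cfsg.Out (Cfsg.POmega F (⇑(qOdd m F))) ≃* Multiplicative (ZMod 2 × ZMod f)) := by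
  obtain ⟨D, -⟩ := big_qOdd (F := F) (two_ne_zero_of_odd hF hodd.pow) hm
  obtain ⟨Φ, s, hk, hs, hc⟩ := odd_data (two_ne_zero_of_odd hF hodd.pow) hm
  obtain ⟨π, hπ, -, hcard, hN⟩ := exists_out_field D (fun σ => ⟨s σ, hs σ⟩) hk hc
  obtain ⟨hf', hcyc⟩ := AutPSL.card_ringAut (F := F) hF hf
  haveI : Finite (Cfsg.Out (Cfsg.POmega F (⇑(qOdd m F)))) :=
    Nat.finite_of_card_ne_zero (by rw [hcard, hf']; omega)
  haveI : Finite (F ≃+* F) := Nat.finite_of_card_ne_zero (by omega)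
  obtain ⟨e⟩ := iso_prod π π.ker rfl
    ((QuotientGroup.mk' (Cfsg.Inn (Cfsg.POmega F (⇑(qOdd m F))))).comp s) (fun c => (hπ _).trans (hs c))
    fun n hn c => by
      -- a normal subgroup of order two is central
      obtain ⟨z, -, huniq⟩ := (Nat.card_eq_two_iff' (1 : π.ker)).1 hN
      set y := (QuotientGroup.mk' (Cfsg.Inn (Cfsg.POmega F (⇑(qOdd m F))))) (s c)
      by_cases hn1 : n = 1
      · subst hn1; exact Commute.one_left _
      have hconj : y * n * y⁻¹ ∈ π.ker := (MonoidHom.normal_ker π).conj_mem n hn y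
      have h1 := huniq ⟨n, hn⟩ fun h => hn1 (congrArg Subtype.val h)
      have h2 := huniq ⟨_, hconj⟩ fun h => hn1 (by
        have := congrArg Subtype.val h
        simpa using this)
      have h3 : y * n * y⁻¹ = n := congrArg Subtype.val (h2.trans h1.symm)
      exact (mul_inv_eq_iff_eq_mul.1 h3).symm
  haveI : Fact (Nat.Prime 2) := ⟨Nat.prime_two⟩
  obtain ⟨e₁⟩ := iso_zmod (isCyclic_of_prime_card hN) hN
  obtain ⟨e₂⟩ := iso_zmod hcyc hf'
  exact ⟨e.trans ((e₁.prodCongr e₂).trans (MulEquiv.prodMultiplicative _ _).symm)⟩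

end CfsgLib.Known.AutPOmega
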