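import Cfsg.Agent.Lib.Known.AutPOmega.BalanceField
import Cfsg.Agent.Lib.Known.AutPOmega.FieldCosetMinus
import Cfsg.Agent.Lib.Known.AutPOmega.OutOdd
import Mathlib.NumberTheory.LegendreSymbol.QuadraticChar.Basic

/-!
Preparations for the local balance criterion for minus type orthogonal groups.
-/

set_option autoImplicit false
set_option linter.unusedSectionVars false

namespace CfsgLib.Known.AutPOmega

open QuadraticMap (polar polarBilin)
open CfsgLib.Classical.Quad
open CfsgLib.Known.OrthFieldCent (minusMap preserves_iff_two exists_root_quadratic exists_sing_qMinus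
  exists_quadratic_ext)
open scoped Matrix

universe u

/-! ### Membership in the inner-diagonal group -/

theorem exists_rep_of_mem {F : Type*} [Field F] {ι : Type} [Fintype ι] [DecidableEq ι]
    {Q : QuadraticForm F (ι → F)} {f : (ι → F) → F} (hf : f = ⇑Q)
    (P : Subgroup (simGrp Q)) (S : Subgroup (MulAut (Cfsg.POmega F f)))
    (hS : HEq S (P.map (conjAut Q))) {x : MulAut (Cfsg.POmega F f)} (hx : x ∈ S) :
    ∃ g : simGrp Q, g ∈ P ∧ (g : GL ι F) ∈ Cfsg.Geo.quadSimilarityGroup (F := F) f ∧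
      Cfsg.IsInducedBySemilinearPOmega f (g : GL ι F) (RingEquiv.refl F) x := by
  subst hf
  obtain rfl := eq_of_heq hS
  obtain ⟨g, hg, rfl⟩ := hx
  exact ⟨g, hg, g.2, (ind_conjAut g).induced⟩

variable {F : Type u} [Field F] [Fintype F] {m : ℕ} {a b : F}

theorem preservesMinus_of_innS (h2 : (2 : F) = 0) (hm : 3 ≤ m)
    (hab : ∀ z₁ z₂ : F, z₁ ^ 2 + a * z₁ * z₂ + b * z₂ ^ 2 = 0 → z₁ = 0 ∧ z₂ = 0)
    {g : simGrp (qMinus m F a b)} (hg : g ∈ innS (qMinus m F a b)) :
    Cfsg.PreservesSingularClassesMinus m a b (simMat g) := by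
  have hn : 7 ≤ Fintype.card ((Fin m ⊕ Fin m) ⊕ Fin 2) := by simp; omega
  obtain ⟨K, i1, i2, hK⟩ := exists_quadratic_ext hab
  refine ⟨K, i1, i2, hK, ?_⟩
  haveI : Module.Finite F K := Module.finite_of_finrank_pos (by omega)
  haveI : Finite K := Module.finite_of_finite F
  obtain ⟨r, hr⟩ := exists_root_quadratic hab K hK
  obtain ⟨T, hT⟩ := exists_sing_qMinus hr m
  have h2K : (2 : K) = 0 := by rw [← map_ofNat (algebraMap F K), h2, map_zero]
  have hnd : (polarBilin (qMinus m K (algebraMap F K a) (algebraMap F K b))).Nondegenerate :=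
    (LinearMap.BilinForm.nondegenerate_iff_det_ne_zero _).2 (by
      rw [det_gram_qMinus]
      refine mul_ne_zero (pow_ne_zero _ (by simp)) fun h => discr_ne_zero hab
        ((algebraMap F K).injective ?_)
      rw [map_zero, map_sub, map_mul, map_pow, map_ofNat]
      exact h)
  have := preserves_iff_two h2 (qMinus_nondeg hab m) hn h2K hnd (k := m + 1) (by simp; omega) hT
    (minusMap m (algebraMap F K) a b) g
  rw [coe_qMinus] at this
  have h := this.2 hg
  have e : simMat ((minusMap m (algebraMap F K) a b).psi g) = (simMat g).map (algebraMap F K) := by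
    unfold simMat
    rw [OrthFieldCent.FormMap.coe_psi, OrthFieldCent.FormMap.coe_base,
      show (minusMap m (algebraMap F K) a b).A = 1 from rfl, one_mul, inv_one, mul_one]
    rfl
  rwa [e] at h

theorem isInnerDiagonal_of_mem (hm : 3 ≤ m)
    (hab : ∀ z₁ z₂ : F, z₁ ^ 2 + a * z₁ * z₂ + b * z₂ ^ 2 = 0 → z₁ = 0 ∧ z₂ = 0)
    {x : MulAut (Cfsg.POmega F (Cfsg.quadFormMinus m F a b))}
    (hx : x ∈ Cfsg.inndiagPOmegaMinus m F a b) : Cfsg.IsInnerDiagonalAutPOmegaMinus m a b x := by
  by_cases h2 : (2 : F) = 0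
  · obtain ⟨g, hg, hg1, hg2⟩ := exists_rep_of_mem (coe_qMinus m F a b).symm (innS _) _
      (by rw [OrthFieldCent.inndiagMinus_two h2 hm hab, OrthFieldCent.map_innS]; exact cast_heq _ _) hx
    exact ⟨g, hg1, preservesMinus_of_innS h2 hm hab hg, hg2⟩
  · have hodd : Odd (Fintype.card F) := Nat.odd_iff.2 (FiniteField.odd_card_of_char_ne_two fun hc => h2 (by
      have := ringChar.eq_iff.1 hc; exact CharTwo.two_eq_zero))
    obtain ⟨g, hg, hg1, hg2⟩ := exists_rep_of_mem (coe_qMinus m F a b).symm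
      (sgnHom (evenForm_qMinus hodd hm hab)).ker _
      (by rw [inndiagMinus_eq hodd hm hab]; exact cast_heq _ _) hx
    obtain ⟨K, i1, i2, hK⟩ := exists_quadratic_field hodd hm hab
    exact ⟨g, hg1, ⟨K, i1, i2, hK, (preserves_minus_iff hodd hm hab K hK g).2 hg⟩, hg2⟩

/-! ### Forms fixed by the automorphisms of odd order -/

omit [Fintype F] in
theorem exists_odd_generator [Finite F] :
    ∃ ρ : F ≃+* F, Odd (orderOf ρ) ∧ ∀ τ : F ≃+* F, Odd (orderOf τ) → τ ∈ Subgroup.zpowers ρ := by
  haveI : Fintype F := Fintype.ofFinite F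
  haveI : Finite (F ≃+* F) := Finite.of_injective (fun e => (e : F → F)) DFunLike.coe_injective
  obtain ⟨n, hp, hn⟩ := FiniteField.card F (ringChar F)
  haveI := Fact.mk hp
  obtain ⟨σ, -, -, -, hgen⟩ := exists_frob (F := F) n.pos hn
  obtain ⟨v, o, ho, hvo⟩ := Nat.exists_eq_two_pow_mul_odd (orderOf_pos σ).ne'
  refine ⟨σ ^ (2 ^ v), ?_, fun τ hτ => ?_⟩
  · exact ho.of_dvd_nat (orderOf_dvd_of_pow_eq_one (by rw [← pow_mul, ← hvo, pow_orderOf_eq_one]))
  · obtain ⟨u, hu⟩ := exists_pow_eq_self_of_coprime (x := τ)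
      (Nat.Coprime.pow_left v (Nat.coprime_two_left.2 hτ))
    obtain ⟨i, hi⟩ := Subgroup.mem_zpowers_iff.1 (hgen (τ ^ u))
    refine Subgroup.mem_zpowers_iff.2 ⟨i, ?_⟩
    calc (σ ^ (2 ^ v)) ^ i = (σ ^ i) ^ (2 ^ v) := by
          rw [← zpow_natCast σ, ← zpow_natCast (σ ^ i), ← zpow_mul, ← zpow_mul, mul_comm]
      _ = τ := by rw [hi, ← pow_mul, mul_comm, pow_mul]; exact hu

omit [Fintype F] in
theorem fixed_of_mem_zpowers {ρ τ : F ≃+* F} {z : F} (hz : ρ z = z) (hτ : τ ∈ Subgroup.zpowers ρ) :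
    τ z = z := by
  let S : Subgroup (F ≃+* F) :=
    { carrier := {e | e z = z}
      one_mem' := rfl
      mul_mem' := fun {x y} hx hy => by
        show x (y z) = z
        rw [show y z = z from hy, show x z = z from hx]
      inv_mem' := fun {x} hx => by
        show x.symm z = z
        rw [RingEquiv.symm_apply_eq]; exact (show x z = z from hx).symm }
  exact (Subgroup.zpowers_le.2 (show ρ ∈ S from hz)) hτ

omit [Fintype F] in
theorem pow_succ_apply (ρ : F ≃+* F) (i : ℕ) (z : F) : ρ ((ρ ^ i) z) = (ρ ^ (i + 1)) z := by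
  rw [pow_succ']; rfl

theorem exists_fixed_form :
    ∃ a' b' : F, (∀ z₁ z₂ : F, z₁ ^ 2 + a' * z₁ * z₂ + b' * z₂ ^ 2 = 0 → z₁ = 0 ∧ z₂ = 0) ∧
      ∀ τ : F ≃+* F, Odd (orderOf τ) → τ a' = a' ∧ τ b' = b' := by
  classical
  obtain ⟨ρ, hρ, hgen⟩ := exists_odd_generator (F := F)
  set d := orderOf ρ
  by_cases h2 : (2 : F) = 0
  · let g : F →+ F :=
      { toFun := fun t => t ^ 2 + t
        map_zero' := by ring
        map_add' := fun s t => by linear_combination (s * t) * h2 }
    have hker : Nat.card g.ker = 2 := by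
      have e : (g.ker : Set F) = {0, -1} := by
        ext t
        simp only [SetLike.mem_coe, AddMonoidHom.mem_ker, Set.mem_insert_iff, Set.mem_singleton_iff]
        show t ^ 2 + t = 0 ↔ _
        rw [show t ^ 2 + t = t * (t + 1) by ring, mul_eq_zero, add_eq_zero_iff_eq_neg]
      show Nat.card ↥(g.ker : Set F) = 2
      rw [e, Nat.card_coe_set_eq, Set.ncard_pair (neg_ne_zero.2 one_ne_zero).symm]
    have hidx : g.range.index = 2 := by
      have h1 := g.range.index_mul_card
      have h3 := g.ker.card_mul_index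
      rw [AddSubgroup.index_ker, hker] at h3
      rw [← h3] at h1
      exact Nat.eq_of_mul_eq_mul_right Nat.card_pos h1
    obtain ⟨c, hc⟩ : ∃ c, c ∉ g.range := by
      by_contra h
      simp only [not_exists, not_not] at h
      rw [show g.range = ⊤ from eq_top_iff.2 fun z _ => h z, AddSubgroup.index_top] at hidx
      omega
    have hτ : ∀ (τ : F ≃+* F), τ c ∉ g.range := fun τ ⟨t, ht⟩ => hc ⟨τ.symm t, by
      show τ.symm t ^ 2 + τ.symm t = c
      apply τ.injective
      rw [map_add, map_pow, RingEquiv.apply_symm_apply]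
      exact ht⟩
    have hsum : ∀ j, (∑ i ∈ Finset.range j, (ρ ^ i) c) ∈ g.range ↔ Even j := by
      intro j
      induction j with
      | zero => simp [zero_mem]
      | succ j ih =>
        rw [Finset.sum_range_succ, AddSubgroup.add_mem_iff_of_index_two hidx, ih, Nat.even_add_one]
        exact ⟨fun h he => hτ _ (h.1 he), fun hne => ⟨fun he => absurd he hne, fun h => absurd h (hτ _)⟩⟩
    set b' := ∑ i ∈ Finset.range d, (ρ ^ i) c with hb'
    have hfix : ρ b' = b' := by
      have e := Finset.sum_range_succ' (fun i => (ρ ^ i) c) d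
      rw [Finset.sum_range_succ, pow_orderOf_eq_one] at e
      rw [hb', map_sum]
      simp only [pow_succ_apply]
      exact (add_right_cancel (b := c) (by simpa using e)).symm
    refine ⟨1, b', fun z₁ z₂ h => ?_, fun τ hτo => ⟨map_one τ, fixed_of_mem_zpowers hfix (hgen τ hτo)⟩⟩
    by_cases hz : z₂ = 0
    · subst hz
      exact ⟨by simpa using h, rfl⟩
    · refine absurd ⟨z₁ / z₂, ?_⟩ (mt (hsum d).1 (Nat.not_even_iff_odd.2 hρ))
      show (z₁ / z₂) ^ 2 + z₁ / z₂ = b'
      field_simp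
      linear_combination h - (b' * z₂ ^ 2) * h2
  · obtain ⟨c, hc⟩ := FiniteField.exists_nonsquare (F := F) (fun h => h2 (by
      have := ringChar.eq_iff.1 h; exact CharTwo.two_eq_zero))
    have hχ : ∀ τ : F ≃+* F, quadraticChar F (τ c) = -1 := fun τ => by
      rw [quadraticChar_neg_one_iff_not_isSquare]
      rintro ⟨t, ht⟩
      exact hc ⟨τ.symm t, τ.injective (by rw [ht, map_mul, RingEquiv.apply_symm_apply])⟩
    set ν := ∏ i ∈ Finset.range d, (ρ ^ i) c with hν
    have hχν : quadraticChar F ν = -1 := by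
      rw [hν, map_prod]
      simp only [hχ, Finset.prod_const, Finset.card_range]
      exact hρ.neg_one_pow
    have hfix : ρ ν = ν := by
      have e := Finset.prod_range_succ' (fun i => (ρ ^ i) c) d
      rw [Finset.prod_range_succ, pow_orderOf_eq_one] at e
      rw [hν, map_prod]
      simp only [pow_succ_apply]
      refine (mul_right_cancel₀ (b := c) ?_ (by simpa using e)).symm
      rintro rfl
      exact hc IsSquare.zero
    refine ⟨0, -ν, fun z₁ z₂ h => ?_, fun τ hτo => ⟨map_zero τ, by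
      rw [map_neg, fixed_of_mem_zpowers hfix (hgen τ hτo)]⟩⟩
    by_cases hz : z₂ = 0
    · subst hz
      exact ⟨by simpa using h, rfl⟩
    · refine absurd ⟨z₁ / z₂, ?_⟩ ((quadraticChar_neg_one_iff_not_isSquare).1 hχν)
      field_simp
      linear_combination -h

/-! ### Invariance of the criterion -/

section Congr

variable {X Y : Type*} [Group X] [Group Y]

theorem core_bot_congr {p : ℕ} (Θ : MulAut X ≃* MulAut Y) (A : Subgroup (MulAut X)) (x : MulAut X) :
    Cfsg.pPrimeCore p ↥(A ⊓ Subgroup.centralizer {x}) = ⊥ ↔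
      Cfsg.pPrimeCore p ↥(A.map Θ.toMonoidHom ⊓ Subgroup.centralizer {Θ x}) = ⊥ := by
  obtain ⟨e⟩ := OrthFieldCent.nonempty_centralizer_map Θ A x
  rw [← CfsgLib.Components.pPrimeCore_map_equiv p e,
    Subgroup.map_eq_bot_iff_of_injective _ e.injective]

theorem card_eqLocus_congr (ψ : X ≃* Y) (x : MulAut X) :
    Nat.card ↥(MonoidHom.eqLocus x.toMonoidHom (MonoidHom.id X)) =
      Nat.card ↥(MonoidHom.eqLocus (MulAut.congr ψ x).toMonoidHom (MonoidHom.id Y)) :=
  Nat.card_congr (Equiv.subtypeEquiv ψ.toEquiv fun k => by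
    show x k = k ↔ ψ (x (ψ.symm (ψ k))) = ψ k
    rw [ψ.symm_apply_apply, ψ.injective.eq_iff])

end Congr

end CfsgLib.Known.AutPOmega
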