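import Cfsg.Agent.Lib.Known.AutPOmega.BalanceMinusBasic

/-!
The field automorphism case of the local balance criterion for minus type orthogonal groups.
-/

set_option autoImplicit false
set_option linter.unusedSectionVars false

namespace CfsgLib.Known.AutPOmega

open QuadraticMap (polar polarBilin)
open CfsgLib.Classical.Quad
open CfsgLib.Known.OrthFieldCent (Invariant)
open scoped Matrix

/-- An element of odd order in a coset of index two. -/
theorem mem_of_odd_coset {G : Type*} [Group G] (S L : Subgroup G) [S.Normal] [L.Normal] (ρ : G)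
    (hρ : ρ * ρ ∈ S) (hcases : ∀ β ∈ L, β ∈ S ∨ β * ρ⁻¹ ∈ S) {x φ : G} {p : ℕ} (hp : Odd p)
    (hx : x ^ p = 1) (hφ : φ ^ p = 1) (hd : x * φ⁻¹ ∈ L) : x * φ⁻¹ ∈ S := by
  set π := QuotientGroup.mk' S
  have hπ : ∀ β ∈ L, π β = 1 ∨ π β = π ρ := fun β hβ => by
    rcases hcases β hβ with h | h
    · exact Or.inl ((QuotientGroup.eq_one_iff β).2 h)
    · refine Or.inr ?_
      have h1 : π (β * ρ⁻¹) = 1 := (QuotientGroup.eq_one_iff _).2 h
      rwa [map_mul, map_inv, mul_inv_eq_one] at h1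
  refine (QuotientGroup.eq_one_iff _).1 (show π (x * φ⁻¹) = 1 from ?_)
  rcases hπ _ hd with h | h
  · exact h
  set δ := x * φ⁻¹ with hδ
  by_contra hne
  have hc : π φ * π δ = π δ * π φ := by
    rcases hπ _ (‹L.Normal›.conj_mem δ hd φ) with h' | h'
    · rw [map_mul, map_mul, map_inv, mul_inv_eq_one, mul_eq_left] at h'
      exact absurd h' hne
    · rw [map_mul, map_mul, map_inv, mul_inv_eq_iff_eq_mul] at h'
      rw [h', h]
  have h2 : π δ * π δ = 1 := by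
    rw [h, ← map_mul]
    exact (QuotientGroup.eq_one_iff _).2 hρ
  have h3 : (π δ) ^ p = 1 := by
    have h4 : π x = π δ * π φ := by rw [← map_mul, hδ, inv_mul_cancel_right]
    have h5 := congrArg π hx
    rw [map_pow, h4, (show Commute (π δ) (π φ) from hc.symm).mul_pow, ← map_pow π φ, hφ, map_one,
      mul_one] at h5
    exact h5
  obtain ⟨t, rfl⟩ := hp
  rw [pow_succ, pow_mul, sq, h2, one_pow, one_mul] at h3
  exact hne h3

variable {F : Type*} [Field F] [Fintype F] {ι : Type} [Fintype ι] [DecidableEq ι]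
  {Q : QuadraticForm F (ι → F)}

/-- The standard field automorphism in the coset of an automorphism with non-trivial field part. -/
theorem exists_field_part (D : Big Q) (hT : NoTriality Q) {f : (ι → F) → F} (hf : f = ⇑Q) {p : ℕ}
    [Fact p.Prime] (hI : ∀ σ : F ≃+* F, orderOf σ = p → Invariant Q σ)
    (x : MulAut (Cfsg.POmega F f)) (hord : orderOf x = p) (hx : x ∉ Cfsg.pgoAut F f) :
    ∃ (σ : F ≃+* F) (φ : MulAut (Cfsg.POmega F f)), orderOf σ = p ∧ orderOf φ = p ∧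
      Cfsg.IsFieldAutPOmegaOf f σ φ ∧ x * φ⁻¹ ∈ Cfsg.pgoAut F f := by
  subst hf
  obtain ⟨Φ, hΦ, hker⟩ := exists_field_hom D hT
  have hσ1 : Φ x ≠ 1 := fun h => hx (hker ▸ MonoidHom.mem_ker.2 h)
  have hσ : orderOf (Φ x) = p :=
    orderOf_eq_prime (by rw [← hord, ← map_pow, pow_orderOf_eq_one, map_one]) hσ1
  obtain ⟨φ, hφi⟩ := Ind.exists (hI _ hσ).pair
  have hφ := (OrthFieldCent.induced_one_iff φ).1 hφi.induced
  refine ⟨Φ x, φ, hσ, (OrthFieldCent.orderOf_isField D.nondeg (seven_le_card D) (hI _ hσ) hφ).trans hσ,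
    hφ, ?_⟩
  rw [← hker, MonoidHom.mem_ker, map_mul, map_inv, hΦ _ _ _ hφi, mul_inv_cancel]

theorem pgoAut_normal (D : Big Q) (hT : NoTriality Q) {f : (ι → F) → F} (hf : f = ⇑Q) :
    (Cfsg.pgoAut F f).Normal := by
  subst hf
  obtain ⟨Φ, -, hker⟩ := exists_field_hom D hT
  rw [← hker]
  infer_instance

theorem pgo_cases {f : (ι → F) → F} (hf : f = ⇑Q) (P : Subgroup (simGrp Q)) {v : ι → F} (hv : Q v ≠ 0)
    (hcases : ∀ g : simGrp Q, g ∈ P ∨
      g * (Subgroup.inclusion (isometry_le_sim Q) (rO hv))⁻¹ ∈ P)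
    (S : Subgroup (MulAut (Cfsg.POmega F f))) (hS : HEq S (P.map (conjAut Q))) :
    ∃ ρ, ρ * ρ = 1 ∧ ∀ β ∈ Cfsg.pgoAut F f, β ∈ S ∨ β * ρ⁻¹ ∈ S := by
  subst hf
  obtain rfl := eq_of_heq hS
  refine ⟨conjAut Q (Subgroup.inclusion (isometry_le_sim Q) (rO hv)),
    by rw [← map_mul, ← map_mul, rO_mul_self, map_one, map_one], fun β hβ => ?_⟩
  rw [pgoAut_eq] at hβ
  obtain ⟨g, rfl⟩ := hβ
  rcases hcases g with h | h
  · exact Or.inl (Subgroup.mem_map_of_mem _ h)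
  · exact Or.inr (by rw [← map_inv, ← map_mul]; exact Subgroup.mem_map_of_mem _ h)

theorem criterion_field (D : Big Q) (hT : NoTriality Q) {f : (ι → F) → F} (hf : f = ⇑Q) {p : ℕ}
    [Fact p.Prime] (hp : p ≠ 2) {r n : ℕ} [Fact r.Prime] (hF : Fintype.card F = r ^ n) (hn : 1 ≤ n)
    {σ : F ≃+* F} (hI : Invariant Q σ) (hσ : orderOf σ = p)
    {Q₀ : QuadraticForm (fixField σ) (ι → fixField σ)} (D₀ : Big Q₀)
    (hQ₀ : ∀ v : ι → fixField σ, Q (fun i => ((v i : fixField σ) : F)) = ((Q₀ v : fixField σ) : F))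
    {φ x c : MulAut (Cfsg.POmega F f)} (hφ : Cfsg.IsFieldAutPOmegaOf f σ φ) (hc : c * φ * c⁻¹ = x)
    (hord : orderOf x = p) (A : Subgroup (MulAut (Cfsg.POmega F f)))
    (hinn : ∀ k : Cfsg.POmega F f, MulAut.conj k ∈ A) :
    Cfsg.pPrimeCore p ↥(A ⊓ Subgroup.centralizer {x}) ≠ ⊥ ↔
      Nat.Coprime p (Nat.card ↥(MonoidHom.eqLocus x.toMonoidHom (MonoidHom.id (Cfsg.POmega F f)))) := by
  subst hf
  exact Balance.criterion_of_conj (center_POmega_eq_bot D) hc hord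
    (balance_data D D₀ hQ₀ hI hF hn hσ hT (fun h => absurd h hp) hφ) A hinn

variable {m : ℕ} {a b : F}

theorem minus_cases (hm : 3 ≤ m)
    (hab : ∀ z₁ z₂ : F, z₁ ^ 2 + a * z₁ * z₂ + b * z₂ ^ 2 = 0 → z₁ = 0 ∧ z₂ = 0) :
    ∃ ρ, ρ * ρ = 1 ∧ ∀ β ∈ Cfsg.pgoAut F (Cfsg.quadFormMinus m F a b),
      β ∈ Cfsg.inndiagPOmegaMinus m F a b ∨ β * ρ⁻¹ ∈ Cfsg.inndiagPOmegaMinus m F a b := by
  by_cases h2 : (2 : F) = 0
  · exact pgo_cases (coe_qMinus m F a b).symm (innS _) unitVec_ne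
      (innS_cases_two h2 (qMinus_nondeg hab m) (by simp; omega) unitVec_ne).1 _
      (by rw [OrthFieldCent.inndiagMinus_two h2 hm hab, OrthFieldCent.map_innS]; exact cast_heq _ _)
  · have hodd : Odd (Fintype.card F) := Nat.odd_iff.2 (FiniteField.odd_card_of_char_ne_two fun hc => h2 (by
      have := ringChar.eq_iff.1 hc; exact CharTwo.two_eq_zero))
    exact pgo_cases (coe_qMinus m F a b).symm (sgnHom (evenForm_qMinus hodd hm hab)).ker unitVec_ne
      (sgn_cases _ unitVec_ne).1 _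
      (by rw [inndiagMinus_eq hodd hm hab]; exact cast_heq _ _)

set_option maxHeartbeats 1000000 in
/-- The criterion for coefficients fixed by all field automorphisms of odd order. -/
theorem balance_minus_field_std (hm : 3 ≤ m)
    (hab : ∀ z₁ z₂ : F, z₁ ^ 2 + a * z₁ * z₂ + b * z₂ ^ 2 = 0 → z₁ = 0 ∧ z₂ = 0)
    (hfix : ∀ τ : F ≃+* F, Odd (orderOf τ) → τ a = a ∧ τ b = b) {r : ℕ} [Fact r.Prime] [CharP F r]
    {p : ℕ} [Fact p.Prime] (hp : Odd p) (x : MulAut (Cfsg.POmega F (Cfsg.quadFormMinus m F a b)))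
    (hord : orderOf x = p) (hx : x ∉ Cfsg.inndiagPOmegaMinus m F a b)
    (A : Subgroup (MulAut (Cfsg.POmega F (Cfsg.quadFormMinus m F a b))))
    (hinn : ∀ k : Cfsg.POmega F (Cfsg.quadFormMinus m F a b), MulAut.conj k ∈ A) :
    Cfsg.IsFieldAutClassPOmegaMinus m x ∧
      (Cfsg.pPrimeCore p ↥(A ⊓ Subgroup.centralizer {x}) ≠ ⊥ ↔
        Nat.Coprime p (Nat.card ↥(MonoidHom.eqLocus x.toMonoidHom
          (MonoidHom.id (Cfsg.POmega F (Cfsg.quadFormMinus m F a b)))))) := by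
  classical
  obtain ⟨n, -, hn⟩ := FiniteField.card F r
  obtain ⟨D, hT⟩ := big_qMinus (F := F) hm hab
  haveI := OrthFieldCent.inndiagMinus_normal (F := F) hm hab
  haveI := pgoAut_normal D hT (coe_qMinus m F a b).symm
  obtain ⟨ρ, hρ, hcases⟩ := minus_cases hm hab
  have hρS : ρ * ρ ∈ Cfsg.inndiagPOmegaMinus m F a b := by rw [hρ]; exact one_mem _
  have hxp : x ^ p = 1 := by rw [← hord, pow_orderOf_eq_one]
  have hpgo : x ∉ Cfsg.pgoAut F (Cfsg.quadFormMinus m F a b) := fun h => hx (by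
    simpa using mem_of_odd_coset _ _ ρ hρS hcases (φ := 1) hp hxp (one_pow p) (by simpa using h))
  have hfixp : ∀ σ : F ≃+* F, orderOf σ = p → σ a = a ∧ σ b = b := fun σ h => hfix σ (h.symm ▸ hp)
  obtain ⟨σ, φ, hσ, hφo, hφ, hd⟩ := exists_field_part D hT (coe_qMinus m F a b).symm
    (fun τ h => OrthFieldCent.invariant_qMinus τ m (hfixp τ h).1 (hfixp τ h).2) x hord hpgo
  obtain ⟨hσa, hσb⟩ := hfixp σ hσ
  have hσ1 : σ ≠ RingEquiv.refl F := by
    intro h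
    rw [show RingEquiv.refl F = (1 : F ≃+* F) from rfl] at h
    rw [h, orderOf_one] at hσ
    exact (Fact.out : p.Prime).one_lt.ne hσ
  have hδ := mem_of_odd_coset _ _ ρ hρS hcases hp hxp (by rw [← hφo, pow_orderOf_eq_one]) hd
  obtain ⟨k, -, hk⟩ := (coset_minus_std hm hab hσ1 hσa hσb φ (x * φ⁻¹) hφ (Fact.out : p.Prime) hφo hδ).1
    (by rw [inv_mul_cancel_right]; exact hord)
  rw [inv_mul_cancel_right] at hk
  replace hk : k * φ * k⁻¹ = x := hk.symm
  refine ⟨⟨a, b, k⁻¹, σ, hab, hσ1, hσa, hσb, ?_⟩, ?_⟩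
  · rw [show (MulEquiv.trans (MulEquiv.trans (MulEquiv.symm k⁻¹) x) k⁻¹) = φ from ?_]
    · exact hφ
    · show k⁻¹ * x * k⁻¹⁻¹ = φ
      rw [← hk]
      group
  · haveI : Fintype (fixField σ) := Fintype.ofFinite _
    let a₀ : fixField σ := ⟨a, hσa⟩
    let b₀ : fixField σ := ⟨b, hσb⟩
    have hab₀ : ∀ z₁ z₂ : fixField σ, z₁ ^ 2 + a₀ * z₁ * z₂ + b₀ * z₂ ^ 2 = 0 → z₁ = 0 ∧ z₂ = 0 := by
      intro z₁ z₂ h
      obtain ⟨h1, h2⟩ := hab z₁ z₂ (congrArg (fun z : fixField σ => (z : F)) h)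
      exact ⟨Subtype.ext h1, Subtype.ext h2⟩
    obtain ⟨D₀, -⟩ := big_qMinus (F := fixField σ) hm hab₀
    refine criterion_field D hT (coe_qMinus m F a b).symm (fun h => ?_) hn n.pos
      (OrthFieldCent.invariant_qMinus σ m hσa hσb) hσ D₀ (fun v => ?_) hφ hk hord A hinn
    · subst h
      exact absurd hp (by decide)
    · simp [coe_qMinus, Cfsg.quadFormMinus, a₀, b₀]

set_option maxHeartbeats 1000000 in
/-- The criterion for elements of odd order. -/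
theorem balance_minus_field (hm : 3 ≤ m)
    (hab : ∀ z₁ z₂ : F, z₁ ^ 2 + a * z₁ * z₂ + b * z₂ ^ 2 = 0 → z₁ = 0 ∧ z₂ = 0)
    {r : ℕ} [Fact r.Prime] [CharP F r]
    {p : ℕ} [Fact p.Prime] (hp : Odd p) (x : MulAut (Cfsg.POmega F (Cfsg.quadFormMinus m F a b)))
    (hord : orderOf x = p) (hx : x ∉ Cfsg.inndiagPOmegaMinus m F a b)
    (A : Subgroup (MulAut (Cfsg.POmega F (Cfsg.quadFormMinus m F a b))))
    (hinn : ∀ k : Cfsg.POmega F (Cfsg.quadFormMinus m F a b), MulAut.conj k ∈ A) :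
    Cfsg.IsFieldAutClassPOmegaMinus m x ∧
      (Cfsg.pPrimeCore p ↥(A ⊓ Subgroup.centralizer {x}) ≠ ⊥ ↔
        Nat.Coprime p (Nat.card ↥(MonoidHom.eqLocus x.toMonoidHom
          (MonoidHom.id (Cfsg.POmega F (Cfsg.quadFormMinus m F a b)))))) := by
  obtain ⟨a', b', hab', hfix⟩ := exists_fixed_form (F := F)
  obtain ⟨ψ⟩ : Nonempty (Cfsg.POmega F (Cfsg.quadFormMinus m F a b) ≃*
      Cfsg.POmega F (Cfsg.quadFormMinus m F a' b')) := by
    obtain ⟨M, hM⟩ := OrthFieldCent.exists_minus_isometry hab hab' (m := m)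
    obtain ⟨ψ, -⟩ := OrthFieldCent.exists_transport M hM
    rw [← coe_qMinus, ← coe_qMinus]
    exact ⟨ψ⟩
  have hmap := OrthFieldCent.map_inndiagMinus hm hab hab' ψ
  have hx' : MulAut.congr ψ x ∉ Cfsg.inndiagPOmegaMinus m F a' b' := fun h => hx (by
    rw [← hmap] at h
    obtain ⟨y, hy, e⟩ := h
    rwa [← (MulAut.congr ψ).injective e])
  obtain ⟨hcl, hcrit⟩ := balance_minus_field_std hm hab' hfix (r := r) hp (MulAut.congr ψ x)
    (((MulAut.congr ψ).orderOf_eq x).trans hord) hx' (A.map (MulAut.congr ψ).toMonoidHom)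
    (fun k => ⟨MulAut.conj (ψ.symm k), hinn _, MulEquiv.ext fun z => by simp [MulAut.congr]⟩)
  refine ⟨?_, ?_⟩
  · obtain ⟨a₂, b₂, χ, σ, hab₂, hσ1, hσa, hσb, hφ⟩ := hcl
    exact ⟨a₂, b₂, ψ.trans χ, σ, hab₂, hσ1, hσa, hσb, hφ⟩
  · rw [Ne, core_bot_congr (MulAut.congr ψ) A x, card_eqLocus_congr ψ x]
    exact hcrit

end CfsgLib.Known.AutPOmega
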