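import Cfsg.Agent.Lib.Known.AutPOmega.FieldCoset
import Cfsg.Agent.Lib.Known.QuadClassify

/-!
Elements of prime order in the coset of a field automorphism of an odd dimensional `PΩ`.
-/

set_option autoImplicit false
set_option linter.unusedSectionVars false

namespace CfsgLib.Known.AutPOmega

open QuadraticMap (polar polarBilin)
open CfsgLib.Classical.Quad
open CfsgLib.Known.OrthFieldCent (FormMap Invariant)
open scoped Matrix

variable {F : Type*} [Field F]

theorem odd_scaled {L : Type*} [Field L] (m : ℕ) (c : L) (hc : c ≠ 0) :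
    ∃ D : (Unit ⊕ (Fin m ⊕ Fin m) → L) ≃ₗ[L] (Unit ⊕ (Fin m ⊕ Fin m) → L), ∀ v,
      c * (D v (.inl ())) ^ 2 + Cfsg.quadFormPlus m L ((D v) ∘ Sum.inr) = c * qOdd m L v := by
  refine ⟨{ toFun := fun v => Sum.elim (fun _ => v (.inl ()))
              (Sum.elim (fun i => c * v (.inr (.inl i))) fun i => v (.inr (.inr i)))
            map_add' := fun u v => by funext x; rcases x with x | x | x <;> simp [mul_add]
            map_smul' := fun s v => by funext x; rcases x with x | x | x <;> simp [mul_left_comm]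
            invFun := fun v => Sum.elim (fun _ => v (.inl ()))
              (Sum.elim (fun i => c⁻¹ * v (.inr (.inl i))) fun i => v (.inr (.inr i)))
            left_inv := fun v => by funext x; rcases x with x | x | x <;> simp [hc]
            right_inv := fun v => by funext x; rcases x with x | x | x <;> simp [hc] }, fun v => ?_⟩
  simp [coe_qOdd, Cfsg.quadFormOdd, Cfsg.quadFormPlus, Finset.mul_sum, mul_add, mul_assoc]

variable [Fintype F]

theorem coset_odd (hodd : Odd (Fintype.card F)) {m : ℕ} (hm : 3 ≤ m)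
    (x δ : MulAut (Cfsg.POmega F (Cfsg.quadFormOdd m F)))
    (hx : Cfsg.IsFieldAutClassPOmega (Cfsg.quadFormOdd m F) x) {r : ℕ} (hr : r.Prime)
    (hxr : orderOf x = r) (hδ : δ ∈ Cfsg.inndiagPOmegaOdd m F) :
    orderOf (δ * x) = r ↔ Cfsg.IsConjUnder (Cfsg.inndiagPOmegaOdd m F) x (δ * x) := by
  classical
  obtain ⟨D, hT⟩ := big_qOdd (F := F) (two_ne_zero_of_odd rfl hodd) hm
  obtain ⟨α, φ, σ, hσ1, hφ, hz⟩ := hx
  haveI := OrthFieldCent.inndiagOdd_normal (F := F) hodd hm
  refine coset_iff (Q := qOdd m F) D hT (coe_qOdd m F).symm ⊤ le_top 1 (fun g => Or.inl trivial)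
    (fun _ => rfl) (OrthFieldCent.invariant_qOdd σ m) hσ1 (map_one _) _
    (OrthFieldCent.inndiagOdd_eq m) hφ hr ?_ (x := x) (α := α) (n₀ := 1) (one_mem _) (by rw [one_mul]; exact hz) hxr hδ
  intro ψ hψ _ g H t hH Q₁ a ha hnd hQ₁
  obtain ⟨c, e, hc, he⟩ := QuadClassify.classify_odd (m := m)
    (by rw [Module.finrank_pi]; simp; omega) Q₁ hnd
  obtain ⟨Dl, hDl⟩ := odd_scaled m c hc
  let d : FormMap (qOdd m (fixField σ)) (qOdd m F) :=
    { j := (fixField σ).subtype, e := Equiv.refl _, A := 1, μ := 1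
      spec := fun v => by simp [coe_qOdd, Cfsg.quadFormOdd] }
  obtain ⟨k, hk⟩ := exists_conj D hψ g hH ha hQ₁ (Dl.trans e) hc
    (fun v => by rw [LinearEquiv.trans_apply, he]; exact hDl v) d rfl 1
    (by show _ * semiMap σ (1 : GL _ F) = 1; rw [map_one, mul_one]; rfl)
  exact ⟨k, Or.inr hk⟩

end CfsgLib.Known.AutPOmega
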