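import Cfsg.Agent.Lib.Known.AutPOmega.BalanceField
import Cfsg.Agent.Lib.Known.AutPOmega.FieldCosetOdd

/-!
The local balance criterion for odd dimensional orthogonal groups.
-/

set_option autoImplicit false
set_option linter.unusedSectionVars false

namespace CfsgLib.Known.AutPOmega

open QuadraticMap (polar polarBilin)
open CfsgLib.Classical.Quad
open scoped Matrix

variable {F : Type*} [Field F] [Fintype F]

theorem balance_odd (hodd : Odd (Fintype.card F)) {m : ℕ} (hm : 3 ≤ m) {r : ℕ} [Fact r.Prime]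
    [CharP F r] {f : (Unit ⊕ (Fin m ⊕ Fin m) → F) → F} (hf : f = ⇑(qOdd m F))
    (A : Subgroup (MulAut (Cfsg.POmega F f))) (hinn : ∀ k : Cfsg.POmega F f, MulAut.conj k ∈ A)
    {p : ℕ} [Fact p.Prime] (x : MulAut (Cfsg.POmega F f)) (hord : orderOf x = p)
    (hnot : ¬ Cfsg.IsSimilarityInducedAutPOmega f x) :
    Cfsg.pPrimeCore p ↥(A ⊓ Subgroup.centralizer {x}) ≠ ⊥ ↔ (Cfsg.IsFieldAutClassPOmega f x ∧
      Nat.Coprime p (Nat.card ↥(MonoidHom.eqLocus x.toMonoidHom (MonoidHom.id (Cfsg.POmega F f))))) := by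
  subst hf
  classical
  obtain ⟨k, -, hk⟩ := FiniteField.card F r
  have h2 := two_ne_zero_of_odd rfl hodd
  obtain ⟨D, hT⟩ := big_qOdd (F := F) h2 hm
  have hn := seven_le_card D
  obtain ⟨Φ, hΦ, hker⟩ := exists_field_hom D hT
  set σ := Φ x
  have hnk : x ∉ Φ.ker := by
    rw [hker, pgoAut_eq]
    rintro ⟨g, rfl⟩
    exact hnot ⟨g, g.2, (ind_conjAut g).induced⟩
  have hσ1 : σ ≠ 1 := fun h => hnk (MonoidHom.mem_ker.2 h)
  have hσ : orderOf σ = p :=
    orderOf_eq_prime (by rw [← hord, ← map_pow, pow_orderOf_eq_one, map_one]) hσ1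
  have hI := OrthFieldCent.invariant_qOdd σ m
  obtain ⟨φ, hφi⟩ := Ind.exists hI.pair
  have hφ : Cfsg.IsFieldAutPOmegaOf (⇑(qOdd m F)) σ φ := (OrthFieldCent.induced_one_iff φ).1 hφi.induced
  have hφord : orderOf φ = p := (OrthFieldCent.orderOf_isField D.nondeg hn hI hφ).trans hσ
  have hδ : x * φ⁻¹ ∈ Φ.ker := by
    rw [MonoidHom.mem_ker, map_mul, map_inv, hΦ _ _ _ hφi, mul_inv_cancel]
  obtain ⟨a, ha⟩ : ∃ a, a * φ * a⁻¹ = x := by
    have key : ∀ {f : (Unit ⊕ (Fin m ⊕ Fin m) → F) → F} (_ : f = Cfsg.quadFormOdd m F)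
        (x φ : MulAut (Cfsg.POmega F f)), orderOf x = p → orderOf φ = p →
        Cfsg.IsFieldAutPOmegaOf f σ φ → x * φ⁻¹ ∈ Cfsg.pgoAut F f → ∃ a, a * φ * a⁻¹ = x := by
      intro f hf x φ hx hφo hφ hmem
      subst hf
      have h := (coset_odd hodd hm φ (x * φ⁻¹) ⟨1, φ, σ, hσ1, hφ, by group⟩ (Fact.out : p.Prime) hφo
        hmem).1 (by rw [inv_mul_cancel_right]; exact hx)
      obtain ⟨a, -, ha⟩ := h
      exact ⟨a, by rw [← ha, inv_mul_cancel_right]⟩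
    exact key (coe_qOdd m F) x φ hord hφord hφ (hker ▸ hδ)
  have hfield : Cfsg.IsFieldAutClassPOmega (⇑(qOdd m F)) x :=
    ⟨a⁻¹, φ, σ, hσ1, hφ, by rw [← ha]; group⟩
  rw [and_iff_right hfield]
  haveI : Fintype (fixField σ) := Fintype.ofFinite _
  have h20 : (2 : fixField σ) ≠ 0 := fun h => h2 (congrArg (fun z : fixField σ => (z : F)) h)
  obtain ⟨D₀, -⟩ := big_qOdd (F := fixField σ) h20 hm
  refine Balance.criterion_of_conj (center_POmega_eq_bot D) ha hord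
    (balance_data (Q₀ := qOdd m (fixField σ)) D D₀
      (fun v => by simp [coe_qOdd, Cfsg.quadFormOdd]) hI hk k.pos hσ hT (fun _ => ?_) hφ) A hinn
  have hq : Odd (Fintype.card (fixField σ)) := Nat.odd_iff.2 (FiniteField.odd_card_of_char_ne_two fun hc => h20 (by
    have := ringChar.eq_iff.1 hc; exact CharTwo.two_eq_zero))
  have h := card_POmega_odd rfl hq m hm
  rw [← coe_qOdd] at h
  obtain ⟨w, rfl⟩ : ∃ w, m = w + 1 := ⟨m - 1, by omega⟩
  rw [Finset.prod_range_succ'] at h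
  set q := Fintype.card (fixField σ)
  obtain ⟨t, ht⟩ := hq
  have h4 : 4 ∣ q ^ (2 * (0 + 1)) - 1 := ⟨t * t + t, by
    rw [ht, show (2 * t + 1) ^ (2 * (0 + 1)) = 4 * (t * t + t) + 1 by ring, Nat.add_sub_cancel]⟩
  have h5 : 4 ∣ 2 * Nat.card (Cfsg.POmega (fixField σ) (⇑(qOdd (w + 1) (fixField σ)))) :=
    h ▸ Dvd.dvd.mul_left (Dvd.dvd.mul_left h4 _) _
  omega

end CfsgLib.Known.AutPOmega
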