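import Cfsg.Agent.Lib.Classical.Quad.OmegaStructure

/-!
Eichler elements in the projective group `PΩ` of a non-degenerate form of dimension at least seven:
the tools for determining its automorphisms.
-/

set_option autoImplicit false
set_option linter.unusedSectionVars false

namespace CfsgLib.Known.AutPOmega

open QuadraticMap (polar polarBilin)
open CfsgLib.Classical.Quad

variable {F : Type*} [Field F] {V : Type*} [AddCommGroup V] [Module F V]

/-- The running hypotheses. -/
structure Big (Q : QuadraticForm F V) : Prop where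
  nondeg : (polarBilin Q).Nondegenerate
  seven : 7 ≤ Module.finrank F V

/-- `Ω` as a group of linear maps. -/
abbrev Om (Q : QuadraticForm F V) : Type _ := ↥(commutator (OQ Q))

/-- `PΩ`. -/
abbrev POm (Q : QuadraticForm F V) : Type _ := Om Q ⧸ Subgroup.center (Om Q)

variable {Q : QuadraticForm F V}

/-- The action on vectors. -/
def ac (g : Om Q) (x : V) : V := ((g : OQ Q) : V ≃ₗ[F] V) x

theorem ac_mul (g h : Om Q) (x : V) : ac (g * h) x = ac g (ac h x) := rfl

theorem ac_one (x : V) : ac (1 : Om Q) x = x := rfl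

theorem ac_inv_ac (g : Om Q) (x : V) : ac g⁻¹ (ac g x) = x := by
  rw [← ac_mul, inv_mul_cancel, ac_one]

theorem ac_ac_inv (g : Om Q) (x : V) : ac g (ac g⁻¹ x) = x := by
  rw [← ac_mul, mul_inv_cancel, ac_one]

theorem ac_add (g : Om Q) (x y : V) : ac g (x + y) = ac g x + ac g y := map_add _ _ _

theorem ac_sub (g : Om Q) (x y : V) : ac g (x - y) = ac g x - ac g y := map_sub _ _ _

theorem ac_smul (g : Om Q) (c : F) (x : V) : ac g (c • x) = c • ac g x := map_smul _ _ _

theorem ac_zero (g : Om Q) : ac g (0 : V) = 0 := map_zero _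

theorem ac_injective (g : Om Q) : Function.Injective (ac g) := LinearEquiv.injective _

theorem ac_ne_zero (g : Om Q) {x : V} (hx : x ≠ 0) : ac g x ≠ 0 := fun h =>
  hx (ac_injective g (h.trans (ac_zero g).symm))

theorem Q_ac (g : Om Q) (x : V) : Q (ac g x) = Q x := OQ.map_apply _ _

theorem polar_ac (g : Om Q) (x y : V) : polar Q (ac g x) (ac g y) = polar Q x y := OQ.map_polar _ _ _

theorem ext_ac {g h : Om Q} (hgh : ∀ x, ac g x = ac h x) : g = h :=
  Subtype.ext (Subtype.ext (LinearEquiv.ext hgh))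

/-- The projection to `PΩ`. -/
def pr (Q : QuadraticForm F V) : Om Q →* POm Q := QuotientGroup.mk' _

theorem pr_surjective : Function.Surjective (pr Q) := QuotientGroup.mk_surjective

variable [FiniteDimensional F V] [Finite F]

theorem Big.five (D : Big Q) : 5 ≤ Module.finrank F V := by have := D.seven; omega

open scoped _root_.Classical in
/-- The Eichler element of `u` singular and `a ⊥ u`; the identity for other arguments. -/
noncomputable def eps (D : Big Q) (u a : V) : Om Q :=
  if h : Q u = 0 ∧ polar Q u a = 0 then eichΩ D.nondeg D.five h.1 h.2 else 1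

variable (D : Big Q)
include D

theorem ac_eps {u a : V} (hu : Q u = 0) (ha : polar Q u a = 0) (z : V) :
    ac (eps D u a) z = z + (polar Q z a - Q a * polar Q z u) • u + (-polar Q z u) • a := by
  classical
  rw [ac, eps, dif_pos ⟨hu, ha⟩]
  exact eich_apply D.nondeg hu ha z

theorem eps_fix {u a z : V} (hu : Q u = 0) (ha : polar Q u a = 0) (hzu : polar Q z u = 0)
    (hza : polar Q z a = 0) : ac (eps D u a) z = z := by
  rw [ac_eps D hu ha, hzu, hza]
  simp

theorem eps_mul {u a b : V} (hu : Q u = 0) (ha : polar Q u a = 0) (hb : polar Q u b = 0) :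
    eps D u a * eps D u b = eps D u (a + b) := by
  classical
  have hab : polar Q u (a + b) = 0 := by rw [polar_add_right', ha, hb, add_zero]
  rw [eps, eps, eps, dif_pos ⟨hu, ha⟩, dif_pos ⟨hu, hb⟩, dif_pos ⟨hu, hab⟩]
  exact Subtype.ext (eich_mul D.nondeg hu ha hb)

theorem eps_zero (u : V) : eps D u 0 = 1 := by
  classical
  by_cases hu : Q u = 0
  · refine ext_ac fun z => ?_
    rw [ac_eps D hu (QuadraticMap.polar_zero_right _ _), QuadraticMap.polar_zero_right,
      QuadraticMap.map_zero, ac_one]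
    simp
  · rw [eps, dif_neg fun h => hu h.1]

theorem eps_inv {u a : V} (hu : Q u = 0) (ha : polar Q u a = 0) : (eps D u a)⁻¹ = eps D u (-a) := by
  refine inv_eq_of_mul_eq_one_right ?_
  rw [eps_mul D hu ha (by rw [QuadraticMap.polar_neg_right, ha, neg_zero]), add_neg_cancel, eps_zero]

theorem eps_conj (g : Om Q) {u a : V} (hu : Q u = 0) (ha : polar Q u a = 0) :
    g * eps D u a * g⁻¹ = eps D (ac g u) (ac g a) := by
  refine ext_ac fun z => ?_
  obtain ⟨y, rfl⟩ : ∃ y, ac g y = z := ⟨ac g⁻¹ z, ac_ac_inv g z⟩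
  rw [ac_mul, ac_mul, ac_inv_ac, ac_eps D hu ha, ac_eps D (by rw [Q_ac, hu]) (by rw [polar_ac, ha]),
    ac_add, ac_add, ac_smul, ac_smul, polar_ac, polar_ac, Q_ac]

/-- The image of an Eichler element in `PΩ`. -/
noncomputable def El (u a : V) : POm Q := pr Q (eps D u a)

theorem El_mul {u a b : V} (hu : Q u = 0) (ha : polar Q u a = 0) (hb : polar Q u b = 0) :
    El D u a * El D u b = El D u (a + b) := by
  rw [El, El, El, ← map_mul, eps_mul D hu ha hb]

theorem El_zero (u : V) : El D u 0 = 1 := by rw [El, eps_zero, map_one]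

theorem El_inv {u a : V} (hu : Q u = 0) (ha : polar Q u a = 0) : (El D u a)⁻¹ = El D u (-a) := by
  rw [El, El, ← map_inv, eps_inv D hu ha]

theorem conj_El (g : Om Q) {u a : V} (hu : Q u = 0) (ha : polar Q u a = 0) :
    pr Q g * El D u a * (pr Q g)⁻¹ = El D (ac g u) (ac g a) := by
  rw [El, El, ← map_mul, ← map_inv, ← map_mul, eps_conj D g hu ha]

theorem exists_scalar {g h : Om Q} (e : pr Q g = pr Q h) :
    ∃ c : F, c * c = 1 ∧ ∀ x, ac h x = c • ac g x := by
  have hc : g⁻¹ * h ∈ Subgroup.center (Om Q) := QuotientGroup.eq.1 e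
  obtain ⟨c, h1, h2⟩ := (center_Omega_iff D.nondeg D.five).1 hc
  refine ⟨c, h1, fun x => ?_⟩
  have h3 : ac (g⁻¹ * h) x = c • x := h2 x
  rw [ac_mul] at h3
  rw [← ac_smul, ← h3, ac_ac_inv]

theorem eq_of_pr {g h : Om Q} (e : pr Q g = pr Q h) {x : V} (hx : x ≠ 0) (hgh : ac g x = ac h x) :
    g = h := by
  obtain ⟨c, -, hc⟩ := exists_scalar D e
  have h1 : (c - 1) • ac g x = 0 := by rw [sub_smul, one_smul, ← hc, hgh, sub_self]
  have h2 : c = 1 := sub_eq_zero.1 ((smul_eq_zero.1 h1).resolve_right (ac_ne_zero g hx))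
  exact ext_ac fun y => by rw [hc y, h2, one_smul]

theorem exists_perp_ne {k : ℕ} (hk : k < Module.finrank F V) (v : Fin k → V) :
    ∃ x : V, x ≠ 0 ∧ ∀ i, polar Q x (v i) = 0 := by
  set P := Submodule.span F (Set.range v)
  have hP : Module.finrank F P ≤ k := (finrank_range_le_card _).trans (Fintype.card_fin k).le
  have hd := LinearMap.BilinForm.finrank_orthogonal D.nondeg P
  have hne : LinearMap.BilinForm.orthogonal (polarBilin Q) P ≠ ⊥ := fun h => by
    rw [h, finrank_bot] at hd
    omega
  obtain ⟨x, hx, hx0⟩ := Submodule.exists_mem_ne_zero_of_ne_bot hne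
  refine ⟨x, hx0, fun i => ?_⟩
  rw [QuadraticMap.polar_comm]
  exact hx (v i) (Submodule.subset_span ⟨i, rfl⟩)

/-- A value of the polar form prescribed on one vector. -/
theorem exists_polar_eq_one {u : V} (hu : u ≠ 0) : ∃ f, polar Q u f = 1 := by
  obtain ⟨f, hf, -⟩ := exists_sep_polar D.nondeg (U := ⊥) (x := u) (by simpa using hu)
  exact ⟨f, hf⟩

theorem eq_zero_of_perp {x : V} (h : ∀ y, polar Q x y = 0) : x = 0 := eq_zero_of_polar D.nondeg h

/-- The elements of the radical of `u` are the Eichler elements. -/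
theorem exists_eps_of_rad {u : V} (hu : Q u = 0) (hu0 : u ≠ 0) {g : Om Q} (hgu : ac g u = u)
    (hg : ∀ a, polar Q u a = 0 → ∃ r : F, ac g a = a + r • u) :
    ∃ b, polar Q u b = 0 ∧ g = eps D u b := by
  obtain ⟨f, hf, huf⟩ := exists_partner_of_singular D.nondeg hu hu0
  have huf' : polar Q u (ac g f) = 1 := by conv_lhs => rw [← hgu, polar_ac, huf]
  have hgf : Q (ac g f) = 0 := by rw [Q_ac, hf]
  have hb : polar Q u (f - ac g f) = 0 := by rw [QuadraticMap.polar_sub_right, huf, huf', sub_self]
  refine ⟨f - ac g f, hb, ext_ac fun z => ?_⟩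
  have hQb : Q (f - ac g f) = -polar Q f (ac g f) := by
    rw [sub_eq_add_neg, apply_add, QuadraticMap.map_neg, QuadraticMap.polar_neg_right, hf, hgf]
    ring
  set x := z - polar Q u z • f with hxdef
  have hux : polar Q u x = 0 := by
    rw [hxdef, QuadraticMap.polar_sub_right, polar_smul_right', huf]; ring
  obtain ⟨r, hr⟩ := hg x hux
  have hz : z = polar Q u z • f + x := by rw [hxdef]; abel
  have hrv : r = polar Q x (f - ac g f) := by
    have h1 := polar_ac g x f
    rw [hr, polar_add_left', polar_smul_left', huf'] at h1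
    rw [QuadraticMap.polar_sub_right]
    linear_combination h1
  have hf' : ac (eps D u (f - ac g f)) f = ac g f := by
    rw [ac_eps D hu hb, QuadraticMap.polar_sub_right, polar_self', hf, hQb,
      QuadraticMap.polar_comm (⇑Q) f u, huf]
    module
  have hx' : ac (eps D u (f - ac g f)) x = ac g x := by
    rw [ac_eps D hu hb, QuadraticMap.polar_comm (⇑Q) x u, hux, hr, ← hrv]
    module
  rw [hz, ac_add, ac_add, ac_smul, ac_smul, hf', hx']

end CfsgLib.Known.AutPOmega
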