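import Cfsg.Agent.Lib.Known.AutPOmega.Perp
import Cfsg.Agent.Lib.Classical.Quad.SimilarityAction

/-!
The automorphisms of `PΩ` induced by semisimilarities.
-/

set_option autoImplicit false
set_option linter.unusedSectionVars false

namespace CfsgLib.Known.AutPOmega

open QuadraticMap (polar polarBilin)
open CfsgLib.Classical.Quad

variable {F : Type*} [Field F] {V : Type*} [AddCommGroup V] [Module F V]

/-- A semisimilarity. -/
structure Semi (Q : QuadraticForm F V) where
  G : V ≃+ V
  θ : F ≃+* F
  c : F
  c_ne : c ≠ 0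
  semilin : ∀ (t : F) (x : V), G (t • x) = θ t • G x
  quad : ∀ x : V, Q (G x) = c * θ (Q x)

namespace Semi

variable {Q : QuadraticForm F V} (S : Semi Q)

theorem polar_G (x y : V) : polar Q (S.G x) (S.G y) = S.c * S.θ (polar Q x y) := by
  have h := S.quad (x + y)
  rw [map_add S.G, apply_add, apply_add, map_add S.θ, map_add S.θ, S.quad, S.quad] at h
  linear_combination h

theorem symm_smul (t : F) (x : V) : S.G.symm (t • x) = S.θ.symm t • S.G.symm x := by
  apply S.G.injective
  rw [S.semilin, AddEquiv.apply_symm_apply, AddEquiv.apply_symm_apply, RingEquiv.apply_symm_apply]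

/-- The conjugate linear map. -/
def conjL (g : V ≃ₗ[F] V) : V ≃ₗ[F] V :=
  { toFun := fun x => S.G (g (S.G.symm x))
    map_add' := fun x y => by simp
    map_smul' := fun t x => by simp [S.symm_smul, S.semilin]
    invFun := fun x => S.G (g.symm (S.G.symm x))
    left_inv := fun x => by simp
    right_inv := fun x => by simp }

theorem conjL_apply (g : V ≃ₗ[F] V) (x : V) : S.conjL g x = S.G (g (S.G.symm x)) := rfl

theorem conjL_mem (g : OQ Q) : S.conjL (g : V ≃ₗ[F] V) ∈ OQ Q := by
  rw [mem_OQ]
  intro v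
  rw [conjL_apply, S.quad, OQ.map_apply, ← S.quad, AddEquiv.apply_symm_apply]

/-- Conjugation of isometries. -/
def conjO : MulAut (OQ Q) where
  toFun g := ⟨_, S.conjL_mem g⟩
  invFun g :=
    ⟨{ toFun := fun x => S.G.symm ((g : V ≃ₗ[F] V) (S.G x))
       map_add' := fun x y => by simp
       map_smul' := fun t x => by simp [S.symm_smul, S.semilin]
       invFun := fun x => S.G.symm ((g : V ≃ₗ[F] V).symm (S.G x))
       left_inv := fun x => by simp
       right_inv := fun x => by simp },
     mem_OQ.2 fun v => by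
      have h := S.quad (S.G.symm ((g : V ≃ₗ[F] V) (S.G v)))
      rw [AddEquiv.apply_symm_apply, OQ.map_apply, S.quad] at h
      exact S.θ.injective (mul_left_cancel₀ S.c_ne h.symm)⟩
  left_inv g := Subtype.ext (LinearEquiv.ext fun x => by simp [conjL_apply])
  right_inv g := Subtype.ext (LinearEquiv.ext fun x => by simp [conjL_apply])
  map_mul' g h := Subtype.ext (LinearEquiv.ext fun x => by simp [conjL_apply])

/-- The induced automorphism of `PΩ`. -/
def aut : MulAut (POm Q) := centerQuotAut _ (commRestrict _ S.conjO)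

theorem aut_pr (g : Om Q) : S.aut (pr Q g) = pr Q (commRestrict _ S.conjO g) := rfl

theorem ac_aut (g : Om Q) (x : V) :
    ac (commRestrict _ S.conjO g) x = S.G (ac g (S.G.symm x)) := rfl

variable [FiniteDimensional F V] [Finite F] (D : Big Q)
include D

theorem aut_El {u a : V} (hu : Q u = 0) (ha : polar Q u a = 0) :
    S.aut (El D u a) = El D (S.c⁻¹ • S.G u) (S.G a) := by
  rw [El, El, aut_pr]
  congr 1
  have hu' : Q (S.c⁻¹ • S.G u) = 0 := by rw [apply_smul, S.quad, hu]; simp
  have ha' : polar Q (S.c⁻¹ • S.G u) (S.G a) = 0 := by rw [polar_smul_left', S.polar_G, ha]; simp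
  refine ext_ac fun x => ?_
  obtain ⟨y, rfl⟩ := S.G.surjective x
  rw [ac_aut, AddEquiv.symm_apply_apply, ac_eps D hu ha, ac_eps D hu' ha', map_add, map_add,
    S.semilin, S.semilin, polar_smul_right', S.polar_G, S.polar_G, S.quad, map_sub, map_mul, map_neg,
    smul_smul]
  have := S.c_ne
  match_scalars <;> field_simp

end Semi

variable {Q : QuadraticForm F V} [FiniteDimensional F V]

/-- Linear isometries are semisimilarities. -/
def Semi.ofIso (h : OQ Q) : Semi Q where
  G := (h : V ≃ₗ[F] V).toAddEquiv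
  θ := RingEquiv.refl F
  c := 1
  c_ne := one_ne_zero
  semilin := fun t x => map_smul (h : V ≃ₗ[F] V) t x
  quad := fun x => by rw [one_mul]; exact OQ.map_apply h x

/-- Composition. -/
def Semi.comp (S T : Semi Q) : Semi Q where
  G := T.G.trans S.G
  θ := T.θ.trans S.θ
  c := S.c * S.θ T.c
  c_ne := mul_ne_zero S.c_ne ((map_ne_zero _).2 T.c_ne)
  semilin := fun t x => by simp [T.semilin, S.semilin]
  quad := fun x => by simp [T.quad, S.quad, mul_assoc]

theorem Semi.aut_comp (S T : Semi Q) : (S.comp T).aut = S.aut * T.aut := by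
  refine MulEquiv.ext fun x => ?_
  obtain ⟨g, rfl⟩ := pr_surjective x
  show (S.comp T).aut (pr Q g) = S.aut (T.aut (pr Q g))
  rw [Semi.aut_pr, Semi.aut_pr, Semi.aut_pr]
  exact congrArg (pr Q) (ext_ac fun y => rfl)

end CfsgLib.Known.AutPOmega
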