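import Cfsg.Agent.Lib.Known.AutPOmega.Points
import Cfsg.Agent.Lib.Known.AutPOmega.Semi

/-!
An automorphism fixing the pencil of a singular point acts on its radical through a semisimilarity
of the complement.
-/

set_option autoImplicit false
set_option linter.unusedSectionVars false

namespace CfsgLib.Known.AutPOmega

open QuadraticMap (polar polarBilin)
open CfsgLib.Classical.Quad

variable {F : Type*} [Field F] {V : Type*} [AddCommGroup V] [Module F V] {Q : QuadraticForm F V}
  [FiniteDimensional F V] [Finite F] (D : Big Q) {e f : V}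
include D

theorem El_mul_smul {u a : V} (hu : Q u = 0) (ha : polar Q u a = 0) (r : F) :
    El D u (a + r • u) = El D u a := by
  have hu0 : polar Q u (r • u) = 0 := by rw [polar_smul_right', polar_self', hu]; ring
  rw [← El_mul D hu ha hu0, El, El, show eps D u (r • u) = 1 from ext_ac fun z => by
    rw [ac_eps D hu hu0, ac_one, apply_smul, hu, polar_smul_right']
    module, map_one, mul_one]

theorem El_prW (h : Hyp Q e f) {z : V} (hz : polar Q e z = 0) :
    El D e z = El D e (prW Q e f z) := by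
  rw [← El_mul_smul D h.ee (prW_inW h z).left (polar Q f z)]
  congr 1
  conv_lhs => rw [prW_decomp (Q := Q) (e := e) (f := f) z, hz]
  module

theorem El_W_inj (h : Hyp Q e f) {a b : V} (ha : InW Q e f a) (hb : InW Q e f b)
    (hab : El D e a = El D e b) : a = b := by
  obtain ⟨z, hz0, hz⟩ := exists_perp_ne D (k := 3) (by have := D.seven; omega) ![e, a, b]
  have hz1 : polar Q z e = 0 := hz 0
  have hz2 : polar Q z a = 0 := hz 1
  have hz3 : polar Q z b = 0 := hz 2
  have he : eps D e a = eps D e b := eq_of_pr D hab hz0 (by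
    rw [eps_fix D h.ee ha.left hz1 hz2, eps_fix D h.ee hb.left hz1 hz3])
  have h1 := congrArg (fun g : Om Q => ac g f) he
  simp only [ac_eps D h.ee ha.left, ac_eps D h.ee hb.left, h.fe, ha.right, hb.right, mul_one,
    zero_sub] at h1
  have h2 := congrArg (polar Q f) h1
  simp only [polar_add_right', polar_smul_right', h.fe, ha.right, hb.right, mul_one, mul_zero,
    add_zero] at h2
  have hq : Q a = Q b := by linear_combination -h2
  rw [hq, add_right_inj, neg_one_smul, neg_one_smul, neg_inj] at h1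
  exact h1

theorem mem_star_W (h : Hyp Q e f) {A : Set (POm Q)} (hA : A ∈ Star D e) :
    ∃ v, InW Q e f v ∧ Q v = 0 ∧ v ≠ 0 ∧ Pair Q e v ∧ A = X D e v := by
  obtain ⟨v, hv, rfl⟩ := hA
  have hm : prW Q e f v ∈ line F e v := by
    refine mem_line.2 ⟨-polar Q f v, 1, ?_⟩
    rw [prW, hv.uv]
    module
  have hli : LinearIndependent F ![e, prW Q e f v] := by
    refine li_of_spans hv.li (left_mem_line _ _) (mem_line.2 ⟨polar Q f v, 1, ?_⟩)
    rw [prW, hv.uv]
    module
  have hp := hv.change (left_mem_line e v) hm hli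
  exact ⟨_, prW_inW h v, hp.qv, hp.ne_zero_right, hp,
    (X_change D hv (left_mem_line e v) hm hli).symm⟩

/-- The data of `β` on the radical of `e`. -/
structure Side (β : MulAut (POm Q)) (e f : V) (A : V → V) : Prop where
  hyp : Hyp Q e f
  mem : ∀ a, InW Q e f a → InW Q e f (A a)
  eq : ∀ a, InW Q e f a → β (El D e a) = El D e (A a)
  star : img β '' Star D e = Star D e

theorem exists_side (h : Hyp Q e f) {β : MulAut (POm Q)} (hβ : img β '' Star D e = Star D e) :
    ∃ A, Side D β e f A := by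
  classical
  have key : ∀ a, InW Q e f a → ∃ a', InW Q e f a' ∧ β (El D e a) = El D e a' := by
    intro a ha
    have hspan := span_W D h ha
    suffices InW Q e f a ∧ ∃ a', InW Q e f a' ∧ β (El D e a) = El D e a' from this.2
    refine Submodule.closure_induction (p := fun x _ => InW Q e f x ∧ ∃ a', InW Q e f a' ∧
      β (El D e x) = El D e a') ?_ ?_ ?_ hspan
    · exact ⟨InW.zero, 0, InW.zero, by rw [El_zero, map_one]⟩
    · rintro x y - - ⟨hx, x', hx', ex⟩ ⟨hy, y', hy', ey⟩
      exact ⟨hx.add hy, x' + y', hx'.add hy', by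
        rw [← El_mul D h.ee hx.left hy.left, map_mul, ex, ey, El_mul D h.ee hx'.left hy'.left]⟩
    · rintro r x ⟨hqx, hx⟩
      refine ⟨hx.smul r, ?_⟩
      by_cases hx0 : x = 0
      · exact ⟨0, InW.zero, by rw [hx0, smul_zero, El_zero, map_one]⟩
      have hp := Pair.of_W h hx hqx hx0
      obtain ⟨v, hv, -, -, hpv, e'⟩ := mem_star_W D h (hβ ▸ ⟨_, ⟨x, hp, rfl⟩, rfl⟩ :
        img β (X D e x) ∈ Star D e)
      obtain ⟨t, ht⟩ : β (El D e (r • x)) ∈ X D e v := e' ▸ ⟨_, ⟨r, rfl⟩, rfl⟩
      exact ⟨t • v, hv.smul t, ht.symm⟩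
  choose! A hA using key
  exact ⟨A, h, fun a ha => (hA a ha).1, fun a ha => (hA a ha).2, hβ⟩

variable {β : MulAut (POm Q)} {A : V → V}

theorem Side.add (S : Side D β e f A) {x y : V} (hx : InW Q e f x) (hy : InW Q e f y) :
    A (x + y) = A x + A y :=
  El_W_inj D S.hyp (S.mem _ (hx.add hy)) ((S.mem x hx).add (S.mem y hy)) (by
    rw [← S.eq _ (hx.add hy), ← El_mul D S.hyp.ee hx.left hy.left, map_mul, S.eq x hx, S.eq y hy,
      El_mul D S.hyp.ee (S.mem x hx).left (S.mem y hy).left])

theorem Side.zero (S : Side D β e f A) : A 0 = 0 :=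
  El_W_inj D S.hyp (S.mem _ InW.zero) InW.zero (by rw [← S.eq _ InW.zero, El_zero, map_one])

theorem Side.inj (S : Side D β e f A) {x y : V} (hx : InW Q e f x) (hy : InW Q e f y)
    (h : A x = A y) : x = y :=
  El_W_inj D S.hyp hx hy (β.injective (by rw [S.eq x hx, S.eq y hy, h]))

theorem Side.ne_zero (S : Side D β e f A) {x : V} (hx : InW Q e f x) (hx0 : x ≠ 0) : A x ≠ 0 :=
  fun h => hx0 (S.inj D hx InW.zero (h.trans (S.zero D).symm))

theorem Side.sing (S : Side D β e f A) {a : V} (ha : InW Q e f a) (hqa : Q a = 0) :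
    Q (A a) = 0 ∧ ∀ t : F, ∃ s : F, A (t • a) = s • A a := by
  by_cases ha0 : a = 0
  · subst ha0
    rw [S.zero D]
    exact ⟨QuadraticMap.map_zero _, fun t => ⟨0, by rw [smul_zero, S.zero D, zero_smul]⟩⟩
  obtain ⟨v, hv, hqv, -, -, e'⟩ := mem_star_W D S.hyp
    (S.star ▸ ⟨_, ⟨a, Pair.of_W S.hyp ha hqa ha0, rfl⟩, rfl⟩ : img β (X D e a) ∈ Star D e)
  have hs : ∀ t : F, ∃ s : F, A (t • a) = s • v := fun t => by
    obtain ⟨s, hs⟩ : β (El D e (t • a)) ∈ X D e v := e' ▸ ⟨_, ⟨t, rfl⟩, rfl⟩
    exact ⟨s, El_W_inj D S.hyp (S.mem _ (ha.smul t)) (hv.smul s) ((S.eq _ (ha.smul t)).symm.trans hs.symm)⟩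
  obtain ⟨s₁, h1⟩ := hs 1
  rw [one_smul] at h1
  have hs1 : s₁ ≠ 0 := fun h => S.ne_zero D ha ha0 (by rw [h1, h, zero_smul])
  refine ⟨by rw [h1, apply_smul, hqv, mul_zero], fun t => ?_⟩
  obtain ⟨s, h2⟩ := hs t
  exact ⟨s / s₁, by rw [h2, h1, smul_smul, div_mul_cancel₀ _ hs1]⟩

theorem Side.sing_conv (S : Side D β e f A) {a : V} (ha : InW Q e f a) (hA : Q (A a) = 0) :
    Q a = 0 := by
  by_cases ha0 : a = 0
  · rw [ha0, QuadraticMap.map_zero]
  have hp := Pair.of_W S.hyp (S.mem a ha) hA (S.ne_zero D ha ha0)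
  obtain ⟨B, hB, hB'⟩ : X D e (A a) ∈ img β '' Star D e := by rw [S.star]; exact ⟨_, hp, rfl⟩
  obtain ⟨v, hv, hqv, -, -, rfl⟩ := mem_star_W D S.hyp hB
  have hm : β (El D e a) ∈ img β (X D e v) := by
    rw [hB', S.eq a ha]; exact ⟨1, by simp only [one_smul]⟩
  obtain ⟨x, ⟨t, rfl⟩, hx⟩ := hm
  rw [El_W_inj D S.hyp ha (hv.smul t) (β.injective hx).symm, apply_smul, hqv, mul_zero]

theorem Side.perp (S : Side D β e f A) {a b : V} (ha : InW Q e f a) (hb : InW Q e f b)
    (hqa : Q a = 0) (hqb : Q b = 0) (hab : polar Q a b = 0) : polar Q (A a) (A b) = 0 := by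
  have h := (S.sing D (ha.add hb) (by rw [apply_add, hqa, hqb, hab]; ring)).1
  rw [S.add D ha hb, apply_add, (S.sing D ha hqa).1, (S.sing D hb hqb).1] at h
  linear_combination h

/-- `A` is semilinear and multiplies the form by a constant. -/
theorem Side.exists_semilinear (S : Side D β e f A) :
    ∃ (θ : F ≃+* F) (c : F), c ≠ 0 ∧ (∀ (t : F) x, InW Q e f x → A (t • x) = θ t • A x) ∧
      ∀ x, InW Q e f x → Q (A x) = c * θ (Q x) := by
  have scal : ∀ a, InW Q e f a → Q a = 0 → ∀ t : F, ∃ s : F, A (t • a) = s • A a :=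
    fun a ha hqa => (S.sing D ha hqa).2
  choose σ hσ using scal
  have same : ∀ a b (ha : InW Q e f a) (hb : InW Q e f b) (hqa : Q a = 0) (hqb : Q b = 0),
      a ≠ 0 → b ≠ 0 → polar Q a b = 0 → b ∉ Submodule.span F {a} → ∀ t,
      σ a ha hqa t = σ b hb hqb t := by
    intro a b ha hb hqa hqb ha0 hb0 hab hm t
    have hAa := S.ne_zero D ha ha0
    have hli : LinearIndependent F ![A a, A b] := by
      rw [LinearIndependent.pair_iff' hAa]
      intro r hr
      have hinj : Function.Injective (σ a ha hqa) := fun t t' htt => by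
        have h1 : A (t • a) = A (t' • a) := by rw [hσ a ha hqa t, hσ a ha hqa t', htt]
        exact smul_left_injective F ha0 (S.inj D (ha.smul t) (ha.smul t') h1)
      obtain ⟨t, ht⟩ := Finite.injective_iff_surjective.1 hinj r
      exact hm (Submodule.mem_span_singleton.2 ⟨t, S.inj D (ha.smul t) hb (by
        rw [hσ a ha hqa t, ht, hr])⟩)
    have hq : Q (a + b) = 0 := by rw [apply_add, hqa, hqb, hab]; ring
    have h1 : σ a ha hqa t • A a + σ b hb hqb t • A b =
        σ (a + b) (ha.add hb) hq t • A a + σ (a + b) (ha.add hb) hq t • A b := by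
      rw [← smul_add, ← S.add D ha hb, ← hσ, ← hσ, ← hσ, ← S.add D (ha.smul t) (hb.smul t), smul_add]
    obtain ⟨h2, h3⟩ := LinearIndependent.pair_iff.1 hli
      (σ a ha hqa t - σ (a + b) (ha.add hb) hq t) (σ b hb hqb t - σ (a + b) (ha.add hb) hq t)
      (by linear_combination (norm := module) h1)
    exact (sub_eq_zero.1 h2).trans (sub_eq_zero.1 h3).symm
  obtain ⟨a₀, ha₀, hqa₀, haW₀⟩ := exists_sing_W D S.hyp
  have glob : ∀ b (hb : InW Q e f b) (hqb : Q b = 0), b ≠ 0 → ∀ t,
      σ b hb hqb t = σ a₀ haW₀ hqa₀ t := by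
    intro b hb hqb hb0 t
    rcases exists_bridge D S.hyp hb haW₀ hqb hqa₀ hb0 ha₀ with ⟨h1, h2⟩ | ⟨c, hc, hqc, hc0, h1, h2, h3, h4⟩
    · exact same b a₀ hb haW₀ hqb hqa₀ hb0 ha₀ h1 h2 t
    · exact (same b c hb hc hqb hqc hb0 hc0 h1 h3 t).trans
        (same a₀ c haW₀ hc hqa₀ hqc ha₀ hc0 h2 h4 t).symm
  set θf : F → F := σ a₀ haW₀ hqa₀
  have lin : ∀ (t : F) x, InW Q e f x → A (t • x) = θf t • A x := by
    intro t x hx
    suffices InW Q e f x ∧ ∀ t, A (t • x) = θf t • A x from this.2 t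
    refine Submodule.closure_induction (p := fun x _ => InW Q e f x ∧ ∀ t, A (t • x) = θf t • A x)
      ?_ ?_ ?_ (span_W D S.hyp hx)
    · exact ⟨InW.zero, fun t => by rw [smul_zero, S.zero D, smul_zero]⟩
    · rintro x y - - ⟨hx, ex⟩ ⟨hy, ey⟩
      exact ⟨hx.add hy, fun t => by
        rw [smul_add, S.add D (hx.smul t) (hy.smul t), ex, ey, S.add D hx hy, smul_add]⟩
    · rintro r x ⟨hqx, hx⟩
      refine ⟨hx.smul r, fun t => ?_⟩
      by_cases h0 : r • x = 0
      · rw [h0, smul_zero, S.zero D, smul_zero]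
      rw [hσ _ (hx.smul r) (by rw [apply_smul, hqx, mul_zero]) t, glob _ _ _ h0]
  have hA0 := S.ne_zero D haW₀ ha₀
  have cancel : ∀ {r s : F}, r • A a₀ = s • A a₀ → r = s := fun h => smul_left_injective F hA0 h
  let θh : F →+* F :=
    { toFun := θf
      map_one' := cancel (by rw [← lin 1 a₀ haW₀, one_smul, one_smul])
      map_mul' := fun t r => cancel (by
        rw [← lin _ a₀ haW₀, mul_smul, lin t _ (haW₀.smul r), lin r a₀ haW₀, smul_smul])
      map_zero' := cancel (by rw [← lin 0 a₀ haW₀, zero_smul, zero_smul, S.zero D])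
      map_add' := fun t r => cancel (by
        rw [← lin _ a₀ haW₀, add_smul, S.add D (haW₀.smul t) (haW₀.smul r), lin t a₀ haW₀,
          lin r a₀ haW₀, add_smul]) }
  let θ : F ≃+* F := RingEquiv.ofBijective θh
    ⟨θh.injective, Finite.injective_iff_surjective.1 θh.injective⟩
  have linθ : ∀ (t : F) x, InW Q e f x → A (t • x) = θ t • A x := lin
  obtain ⟨v, hvW, H⟩ := exists_partner_W D S.hyp haW₀ hqa₀ ha₀
  set u := a₀
  set c := polar Q (A u) (A v)
  have hu' := (S.sing D haW₀ hqa₀).1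
  have hv' := (S.sing D hvW H.ff).1
  -- orthogonality
  have orth : ∀ w, InW Q e f w → polar Q u w = 0 → polar Q v w = 0 →
      polar Q (A u) (A w) = 0 ∧ polar Q (A v) (A w) = 0 := by
    intro w hw h1 h2
    suffices InW Q e f w ∧ polar Q (A u) (A w) = 0 ∧ polar Q (A v) (A w) = 0 from this.2
    refine Submodule.closure_induction (p := fun w _ => InW Q e f w ∧
      polar Q (A u) (A w) = 0 ∧ polar Q (A v) (A w) = 0) ?_ ?_ ?_
      (span_W2 D S.hyp haW₀ hvW H hw h1 h2)
    · exact ⟨InW.zero, by rw [S.zero D]; simp [QuadraticMap.polar_zero_right]⟩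
    · rintro x y - - ⟨hx, ex, ex'⟩ ⟨hy, ey, ey'⟩
      exact ⟨hx.add hy, by rw [S.add D hx hy, polar_add_right', ex, ey, add_zero],
        by rw [S.add D hx hy, polar_add_right', ex', ey', add_zero]⟩
    · rintro r x ⟨hqx, hx, hux, hvx⟩
      have hq : Q (r • x) = 0 := by rw [apply_smul, hqx, mul_zero]
      exact ⟨hx.smul r, S.perp D haW₀ (hx.smul r) hqa₀ hq (by rw [polar_smul_right', hux, mul_zero]),
        S.perp D hvW (hx.smul r) H.ff hq (by rw [polar_smul_right', hvx, mul_zero])⟩
  have quad : ∀ x, InW Q e f x → Q (A x) = c * θ (Q x) := by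
    intro x hx
    set r := polar Q v x
    set s := polar Q u x
    set w := x - r • u - s • v with hwdef
    have hwW : InW Q e f w := (hx.sub (haW₀.smul r)).sub (hvW.smul s)
    have hw1 : polar Q u w = 0 := by
      simp only [hwdef, QuadraticMap.polar_sub_right, polar_smul_right', polar_self', H.ee, H.ef, s]
      ring
    have hw2 : polar Q v w = 0 := by
      simp only [hwdef, QuadraticMap.polar_sub_right, polar_smul_right', polar_self', H.ff, H.fe, r]
      ring
    obtain ⟨o1, o2⟩ := orth w hwW hw1 hw2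
    have gen : ∀ r s : F, Q (A (r • u + s • v + w)) = θ r * θ s * c + Q (A w) := fun r s => by
      rw [S.add D ((haW₀.smul r).add (hvW.smul s)) hwW, S.add D (haW₀.smul r) (hvW.smul s),
        linθ r u haW₀, linθ s v hvW]
      simp only [apply_add, apply_smul, polar_add_left', polar_smul_left', polar_smul_right', hu',
        hv', o1, o2, c]
      ring
    have hQw : Q (A w) = c * θ (Q w) := by
      have hz : InW Q e f ((1 : F) • u + (-Q w) • v + w) :=
        ((haW₀.smul _).add (hvW.smul _)).add hwW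
      have := (S.sing D hz (by
        simp only [apply_add, apply_smul, polar_add_left', polar_smul_left', polar_smul_right',
          H.ee, H.ff, H.ef, hw1, hw2]
        ring)).1
      rw [gen, map_one, map_neg] at this
      linear_combination this
    have hxe : x = r • u + s • v + w := by rw [hwdef]; abel
    rw [hxe, gen, hQw]
    simp only [apply_add, apply_smul, polar_add_left', polar_smul_left', polar_smul_right',
      H.ee, H.ff, H.ef, hw1, hw2, mul_zero, add_zero, zero_add, mul_one, map_add, map_mul]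
    ring
  refine ⟨θ, c, fun hc => ?_, linθ, quad⟩
  have h1 : Q (u + v) = 1 := by rw [apply_add, H.ee, H.ff, H.ef]; ring
  have h2 := S.sing_conv D (haW₀.add hvW) (by rw [quad _ (haW₀.add hvW), hc, zero_mul])
  rw [h1] at h2
  exact one_ne_zero h2

end CfsgLib.Known.AutPOmega
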