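import Cfsg.Agent.Lib.Known.ClassSplit

/-!
Conjugacy of the elements of prime order in a coset, reduced to standard representatives.
-/

set_option autoImplicit false

namespace CfsgLib.Known.AutPOmega

variable {X : Type*} [Group X] (G N : Subgroup X) [G.Normal] (φ γ : X)

theorem exists_std (hγφ : Commute γ φ) (hN : ∀ n ∈ N, n ∈ G ∨ n * γ⁻¹ ∈ G) {r : ℕ}
    (hd : ∀ n ∈ N, (n * φ) ^ r = 1 →
      ∃ k ∈ N, n * φ = k * φ * k⁻¹ ∨ n * φ = k * (γ * φ) * k⁻¹)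
    {n : X} (hn : n ∈ N) (h : (n * φ) ^ r = 1) :
    ∃ g ∈ G, ∃ s, (s = φ ∨ s = γ * φ) ∧ n * φ = g * s * g⁻¹ := by
  obtain ⟨k, hk, he⟩ := hd n hn h
  have main : ∀ s, (s = φ ∨ s = γ * φ) → n * φ = k * s * k⁻¹ →
      ∃ g ∈ G, ∃ s, (s = φ ∨ s = γ * φ) ∧ n * φ = g * s * g⁻¹ := by
    intro s hs e
    rcases hN k hk with hg | hg
    · exact ⟨k, hg, s, hs, e⟩
    · refine ⟨k * γ⁻¹, hg, s, hs, ?_⟩
      have hc : Commute γ s := by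
        rcases hs with rfl | rfl
        · exact hγφ
        · exact (Commute.refl γ).mul_right hγφ
      calc n * φ = k * s * k⁻¹ := e
        _ = k * γ⁻¹ * (γ * s) * k⁻¹ := by group
        _ = k * γ⁻¹ * (s * γ) * k⁻¹ := by rw [hc.eq]
        _ = _ := by group
  rcases he with e | e
  · exact main φ (Or.inl rfl) e
  · exact main _ (Or.inr rfl) e

/-- The elements of prime order in a coset of `G` form one `G`-class. -/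
theorem coset_conj (hGN : G ≤ N) (hγφ : Commute γ φ) (hN : ∀ n ∈ N, n ∈ G ∨ n * γ⁻¹ ∈ G)
    (hγ : γ ∈ G → γ = 1) {r : ℕ}
    (hd : ∀ n ∈ N, (n * φ) ^ r = 1 →
      ∃ k ∈ N, n * φ = k * φ * k⁻¹ ∨ n * φ = k * (γ * φ) * k⁻¹)
    {x δ α n₀ : X} (hδ : δ ∈ G) (hn₀ : n₀ ∈ N) (hx : α * x * α⁻¹ = n₀ * φ) (hxr : orderOf x = r) :
    orderOf (δ * x) = r ↔ Cfsg.IsConjUnder G x (δ * x) := by
  constructor
  · intro ho
    have hpow : ∀ y, orderOf y = r → (α * y * α⁻¹) ^ r = 1 := fun y hy => by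
      rw [show α * y * α⁻¹ = MulAut.conj α y from rfl, ← map_pow, ← hy, pow_orderOf_eq_one, map_one]
    have hδ' : α * δ * α⁻¹ ∈ G := ‹G.Normal›.conj_mem δ hδ α
    have hy : α * (δ * x) * α⁻¹ = α * δ * α⁻¹ * n₀ * φ := by
      rw [mul_assoc (α * δ * α⁻¹) n₀ φ, ← hx]; group
    obtain ⟨g₁, hg₁, s₁, hs₁, e₁⟩ := exists_std G N φ γ hγφ hN hd hn₀ (hx ▸ hpow x hxr)
    obtain ⟨g₂, hg₂, s₂, hs₂, e₂⟩ := exists_std G N φ γ hγφ hN hd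
      (N.mul_mem (hGN hδ') hn₀) (hy ▸ hpow _ ho)
    have hss : s₂ * s₁⁻¹ ∈ G := by
      have h1 : g₂ * s₂ * g₂⁻¹ * (g₁ * s₁ * g₁⁻¹)⁻¹ ∈ G := by
        rw [← e₁, ← e₂, show α * δ * α⁻¹ * n₀ * φ * (n₀ * φ)⁻¹ = α * δ * α⁻¹ by group]
        exact hδ'
      have h2 : s₂ * g₂⁻¹ * s₂⁻¹ ∈ G := ‹G.Normal›.conj_mem _ (G.inv_mem hg₂) s₂
      have h3 : s₁ * g₁⁻¹ * s₁⁻¹ ∈ G := ‹G.Normal›.conj_mem _ (G.inv_mem hg₁) s₁
      have e : s₂ * s₁⁻¹ = (g₂ * (s₂ * g₂⁻¹ * s₂⁻¹))⁻¹ * (g₂ * s₂ * g₂⁻¹ * (g₁ * s₁ * g₁⁻¹)⁻¹) *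
          ((s₂ * s₁⁻¹) * (s₂ * s₁⁻¹)⁻¹) * (g₁ * (s₁ * g₁⁻¹ * s₁⁻¹)) := by group
      rw [e, mul_inv_cancel, mul_one]
      exact G.mul_mem (G.mul_mem (G.inv_mem (G.mul_mem hg₂ h2)) h1) (G.mul_mem hg₁ h3)
    have hs : s₂ = s₁ := by
      rcases hs₁ with rfl | rfl <;> rcases hs₂ with rfl | rfl
      · rfl
      · rw [hγ (by simpa [mul_assoc] using hss), one_mul]
      · have : γ ∈ G := by simpa [mul_assoc] using G.inv_mem hss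
        rw [hγ this, one_mul]
      · rfl
    rw [← ClassSplit.isConjUnder_conj_iff G α, hx, hy, e₁, e₂, hs]
    exact ⟨g₂ * g₁⁻¹, G.mul_mem hg₂ (G.inv_mem hg₁), by group⟩
  · rintro ⟨k, -, hk⟩
    rw [hk, ← hxr]
    exact (MulAut.conj k).orderOf_eq x

end CfsgLib.Known.AutPOmega
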