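import Cfsg.Agent.Lib.Known.AutPOmega.Induced
import Cfsg.Agent.Lib.Classical.Quad.SimilarityForms

/-!
Orders of the automorphism groups of `PΩ` and of the image of the similarities.
-/

set_option autoImplicit false
set_option linter.unusedSectionVars false

namespace CfsgLib.Known.AutPOmega

open QuadraticMap (polar polarBilin)
open CfsgLib.Classical.Quad
open scoped Matrix

variable {F : Type*} [Field F] [Finite F] {ι : Type} [Fintype ι] [DecidableEq ι]
  {Q : QuadraticForm F (ι → F)}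

theorem inn_le_pgo : Cfsg.Inn (Cfsg.POmega F (⇑Q)) ≤ Cfsg.pgoAut F (⇑Q) := by
  rw [pgoAut_eq, inn_eq]
  exact Subgroup.map_le_range _ _

theorem finite_pOmega : Finite (Cfsg.POmega F (⇑Q)) := Quotient.finite _

theorem card_pgo_of_hom (D : Big Q) {A : Type*} [Group A] (φ : ↥(Cfsg.pgoAut F (⇑Q)) →* A)
    (hs : Function.Surjective φ)
    (hk : φ.ker = (Cfsg.Inn (Cfsg.POmega F (⇑Q))).subgroupOf (Cfsg.pgoAut F (⇑Q))) :
    Nat.card ↥(Cfsg.pgoAut F (⇑Q)) = Nat.card A * Nat.card (Cfsg.POmega F (⇑Q)) := by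
  rw [Subgroup.card_eq_card_quotient_mul_card_subgroup φ.ker,
    Nat.card_congr (QuotientGroup.quotientKerEquivOfSurjective φ hs).toEquiv, hk,
    Nat.card_congr (Subgroup.subgroupOfEquivOfLe inn_le_pgo).toEquiv, card_Inn D]

/-- The order of the automorphism group, given that all field automorphisms occur. -/
theorem card_aut {Φ : MulAut (Cfsg.POmega F (⇑Q)) →* (F ≃+* F)} (hs : Function.Surjective Φ)
    (hk : Φ.ker = Cfsg.pgoAut F (⇑Q)) :
    Nat.card (MulAut (Cfsg.POmega F (⇑Q))) =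
      Nat.card (F ≃+* F) * Nat.card ↥(Cfsg.pgoAut F (⇑Q)) := by
  rw [Subgroup.card_eq_card_quotient_mul_card_subgroup Φ.ker,
    Nat.card_congr (QuotientGroup.quotientKerEquivOfSurjective Φ hs).toEquiv, hk]

/-- The scalar matrices among the units. -/
def scalU (ι : Type) [Fintype ι] [DecidableEq ι] {F : Type*} [Field F] : Fˣ →* GL ι F :=
  Units.map (Matrix.scalar ι : F →+* Matrix ι ι F).toMonoidHom

theorem coe_scalU (c : Fˣ) : ((scalU ι c : GL ι F) : Matrix ι ι F) = (c : F) • 1 := by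
  simp [scalU, Matrix.smul_one_eq_diagonal]

/-- The action of the isometries. -/
def isoAut (Q : QuadraticForm F (ι → F)) :
    ↥(Cfsg.isometryGroup F (⇑Q)) →* MulAut (Cfsg.POmega F (⇑Q)) :=
  (conjAut Q).comp (Subgroup.inclusion (isometry_le_sim Q))

theorem range_isoAut (D : Big Q) (hsq : ∀ g : simGrp Q, IsSquare ((simMult g : Fˣ) : F)) :
    (isoAut Q).range = Cfsg.pgoAut F (⇑Q) := by
  rw [pgoAut_eq]
  refine le_antisymm (by rintro _ ⟨h, rfl⟩; exact ⟨_, rfl⟩) ?_
  rintro _ ⟨g, rfl⟩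
  obtain ⟨s, hs⟩ := hsq g
  have hs0 : s ≠ 0 := fun h => (simMult g).ne_zero (by rw [hs, h, mul_zero])
  set z := scalU ι (Units.mk0 s hs0)
  have hmem : z⁻¹ * (g : GL ι F) ∈ Cfsg.isometryGroup F (⇑Q) := by
    intro u v
    show Q (((z⁻¹ * (g : GL ι F) : GL ι F) : Matrix ι ι F) *ᵥ u) = Q u
    rw [Units.val_mul, ← map_inv, coe_scalU, ← Matrix.mulVec_mulVec, Matrix.smul_mulVec,
      Matrix.one_mulVec, apply_smul, simMult_spec, hs, Units.val_inv_eq_inv_val, Units.val_mk0]
    field_simp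
  refine ⟨⟨_, hmem⟩, ?_⟩
  have hker : g⁻¹ * Subgroup.inclusion (isometry_le_sim Q) ⟨_, hmem⟩ ∈ (conjAut Q).ker := by
    rw [ker_conjAut D.nondeg (seven_le_card D)]
    show (g : GL ι F)⁻¹ * (z⁻¹ * (g : GL ι F)) ∈ Cfsg.Geo.scalars ι F
    refine (Cfsg.Geo.mem_scalars_iff _).2 ⟨(Units.mk0 s hs0)⁻¹, ?_⟩
    rw [Units.val_mul, Units.val_mul, ← map_inv, coe_scalU]
    simp
  have he := MonoidHom.mem_ker.1 hker
  rw [map_mul, map_inv, inv_mul_eq_one] at he
  exact he.symm

theorem mem_ker_isoAut (D : Big Q) (h : ↥(Cfsg.isometryGroup F (⇑Q))) :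
    h ∈ (isoAut Q).ker ↔ ∃ c : F, c * c = 1 ∧ ((h : GL ι F) : Matrix ι ι F) = c • 1 := by
  rw [isoAut, MonoidHom.mem_ker, MonoidHom.comp_apply, ← MonoidHom.mem_ker,
    ker_conjAut D.nondeg (seven_le_card D)]
  show (h : GL ι F) ∈ Cfsg.Geo.scalars ι F ↔ _
  rw [Cfsg.Geo.mem_scalars_iff]
  constructor
  · rintro ⟨c, hc⟩
    have : Nontrivial (ι → F) := Module.nontrivial_of_finrank_pos (R := F)
      (by have := D.seven; omega)
    obtain ⟨v, hv⟩ := exists_apply_ne_zero D.nondeg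
    refine ⟨c, ?_, hc⟩
    have h1 : Q (((h : GL ι F) : Matrix ι ι F) *ᵥ v) = Q v := h.2 v v
    rw [hc, Matrix.smul_mulVec, Matrix.one_mulVec, apply_smul] at h1
    exact mul_right_cancel₀ hv (by rw [h1, one_mul])
  · rintro ⟨c, hc, he⟩
    exact ⟨Units.mk0 c (fun h0 => by rw [h0, mul_zero] at hc; exact zero_ne_one hc), he⟩

/-- The scalars `±1`. -/
theorem card_ker_isoAut (D : Big Q) :
    Nat.card (isoAut Q).ker = Nat.card {c : F // c * c = 1} := by
  have hι : Nonempty ι := Fintype.card_pos_iff.1 (by have := seven_le_card D; omega)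
  obtain ⟨i⟩ := hι
  refine Nat.card_eq_of_bijective (fun h => ⟨(((h.1 : GL ι F) : Matrix ι ι F) i i), ?_⟩) ⟨?_, ?_⟩
  · obtain ⟨c, hc, e⟩ := (mem_ker_isoAut D h.1).1 h.2
    rw [e]; simpa using hc
  · intro x y hxy
    obtain ⟨c, -, e⟩ := (mem_ker_isoAut D x.1).1 x.2
    obtain ⟨c', -, e'⟩ := (mem_ker_isoAut D y.1).1 y.2
    have h1 := congrArg Subtype.val hxy
    simp only [e, e', Matrix.smul_apply, Matrix.one_apply_eq, smul_eq_mul, mul_one] at h1
    exact Subtype.ext (Subtype.ext (Units.ext (by rw [e, e', h1])))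
  · rintro ⟨c, hc⟩
    have hc0 : c ≠ 0 := fun h0 => by rw [h0, mul_zero] at hc; exact zero_ne_one hc
    have hmem : scalU ι (Units.mk0 c hc0) ∈ Cfsg.isometryGroup F (⇑Q) := by
      intro u v
      show Q ((((scalU ι (Units.mk0 c hc0)) : GL ι F) : Matrix ι ι F) *ᵥ u) = Q u
      rw [coe_scalU, Matrix.smul_mulVec, Matrix.one_mulVec, apply_smul, Units.val_mk0, hc, one_mul]
    refine ⟨⟨⟨_, hmem⟩, (mem_ker_isoAut D _).2 ⟨c, hc, coe_scalU _⟩⟩, Subtype.ext ?_⟩
    show ((scalU ι (Units.mk0 c hc0) : GL ι F) : Matrix ι ι F) i i = c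
    rw [coe_scalU]; simp

theorem card_sq_one : Nat.card {c : F // c * c = 1} = Nat.card (SqClass F) := by
  by_cases h2 : (2 : F) = 0
  · rw [card_sqClass_of_two_eq_zero h2, Nat.card_eq_one_iff_unique]
    refine ⟨⟨fun a b => Subtype.ext ?_⟩, ⟨⟨1, one_mul 1⟩⟩⟩
    have key : ∀ c : F, c * c = 1 → c = 1 := fun c hc => by
      rcases mul_self_eq_one_iff.1 hc with h | h
      · exact h
      · rw [h]; linear_combination -h2
    rw [key _ a.2, key _ b.2]
  · rw [card_sqClass_of_odd h2]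
    have hne : (1 : F) ≠ -1 := fun h => h2 (by linear_combination h)
    refine Nat.card_eq_two_iff.2 ⟨⟨1, one_mul 1⟩, ⟨-1, by ring⟩, fun h => hne (congrArg Subtype.val h), ?_⟩
    ext ⟨c, hc⟩
    simp only [Set.mem_insert_iff, Set.mem_singleton_iff, Set.mem_univ, iff_true]
    rcases mul_self_eq_one_iff.1 hc with h | h
    · exact Or.inl (Subtype.ext h)
    · exact Or.inr (Subtype.ext h)

/-- When all multipliers are squares, the image of the similarities has twice the order of `PΩ`,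
as long as `-1` does not lie in `Ω`. -/
theorem card_pgo_two (D : Big Q) (hsq : ∀ g : simGrp Q, IsSquare ((simMult g : Fˣ) : F))
    (hneg : ¬ ((∃ g : ↥(Cfsg.isometryGroup F (⇑Q)), g ∈ Cfsg.Omega F (⇑Q) ∧
      ((g : GL ι F) : Matrix ι ι F) = -1) ∧ (2 : F) ≠ 0)) :
    Nat.card ↥(Cfsg.pgoAut F (⇑Q)) = 2 * Nat.card (Cfsg.POmega F (⇑Q)) := by
  classical
  have h1 := two_card_POmega D.nondeg (seven_le_card D) False ⟨False.elim, fun h => hneg h⟩
  rw [if_neg not_false, mul_one, ← Nat.card_congr (oEquiv Q).toEquiv,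
    Subgroup.card_eq_card_quotient_mul_card_subgroup (isoAut Q).ker,
    Nat.card_congr (QuotientGroup.quotientKerEquivRange (isoAut Q)).toEquiv, card_ker_isoAut D,
    card_sq_one, range_isoAut D hsq] at h1
  have hpos : 0 < Nat.card (SqClass F) := by
    by_cases h2 : (2 : F) = 0
    · rw [card_sqClass_of_two_eq_zero h2]; exact one_pos
    · rw [card_sqClass_of_odd h2]; exact two_pos
  refine Nat.eq_of_mul_eq_mul_right hpos ?_
  rw [← h1]; ring

theorem isSquare_mult_odd (hQ : (polarBilin Q).Nondegenerate) {m : ℕ}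
    (hcard : Fintype.card ι = 2 * m + 1) (g : simGrp Q) : IsSquare ((simMult g : Fˣ) : F) := by
  set b := Pi.basisFun F ι
  set M := simMat g
  have h : (simMult g : F) • polarBilin Q =
      LinearMap.BilinForm.comp (polarBilin Q) (Matrix.toLin' M) (Matrix.toLin' M) :=
    LinearMap.ext fun u => LinearMap.ext fun v => (polar_sim g u v).symm
  have h2 := congrArg (fun B => (LinearMap.BilinForm.toMatrix b B).det) h
  rw [LinearMap.BilinForm.toMatrix_comp b, map_smul, Matrix.det_smul, Matrix.det_mul,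
    Matrix.det_mul, Matrix.det_transpose] at h2
  have h3 : (LinearMap.toMatrix b b (Matrix.toLin' M)).det = M.det := by
    rw [LinearMap.det_toMatrix, LinearMap.det_toLin']
  rw [h3, hcard] at h2
  have h0 := (LinearMap.BilinForm.nondegenerate_iff_det_ne_zero b).1 hQ
  have hc : ((simMult g : Fˣ) : F) ≠ 0 := (simMult g).ne_zero
  have h4 : (simMult g : F) ^ (2 * m + 1) = M.det * M.det :=
    mul_right_cancel₀ h0 (by linear_combination h2)
  refine ⟨M.det / (simMult g : F) ^ m, ?_⟩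
  rw [div_mul_div_comm, eq_div_iff (mul_ne_zero (pow_ne_zero _ hc) (pow_ne_zero _ hc)), ← h4]
  ring

theorem isSquare_all_char_two (h2 : (2 : F) = 0) (x : F) : IsSquare x := by
  have := charP_two_of_eq_zero h2
  exact isSquare_of_charTwo' x

end CfsgLib.Known.AutPOmega
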