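import Cfsg.Agent.Lib.Known.AutPOmega.Induced
import Cfsg.Agent.Lib.Known.Descent
import Cfsg.Agent.Lib.Known.OrthFieldCent.Descent
import Cfsg.Agent.Lib.Known.OrthFieldCent.StdAut

/-!
An element of order `r` in the coset of a field automorphism of order `r` descends to a form over
the fixed field.
-/

set_option autoImplicit false
set_option linter.unusedSectionVars false

namespace CfsgLib.Known.AutPOmega

open QuadraticMap (polar polarBilin)
open CfsgLib.Classical.Quad
open CfsgLib.Known.OrthFieldCent (FormMap Invariant mem_ker_iff form_eq_zero_of_single)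
open scoped Matrix

variable {F : Type*} [Field F] {ι : Type} [Fintype ι] [DecidableEq ι]
  {Q : QuadraticForm F (ι → F)}

/-- The fixed field. -/
abbrev fixField (σ : F ≃+* F) : Subfield F := σ.toRingHom.eqLocusField (RingHom.id F)

theorem fix_apply (σ : F ≃+* F) (x : fixField σ) : σ (x : F) = x := x.2

/-- A standard field automorphism is induced by the identity matrix. -/
theorem ind_field {σ : F ≃+* F} (hσ : Invariant Q σ) {φ : MulAut (Cfsg.POmega F (⇑Q))}
    (hφ : Cfsg.IsFieldAutPOmegaOf (⇑Q) σ φ) : Ind Q 1 σ φ :=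
  ⟨hσ.pair, (OrthFieldCent.induced_one_iff φ).2 hφ⟩

theorem ind_coset {σ : F ≃+* F} {φ : MulAut (Cfsg.POmega F (⇑Q))} (hφ : Ind Q 1 σ φ)
    (g : simGrp Q) : Ind Q (g : GL ι F) σ (conjAut Q g * φ) := by
  have h := (ind_conjAut g).mul hφ
  rw [map_one, mul_one, show σ.trans (RingEquiv.refl F) = σ from RingEquiv.ext fun _ => rfl] at h
  exact h

/-- Conjugating a standard field automorphism by the automorphism of a similarity. -/
theorem conj_field {σ : F ≃+* F} {φ : MulAut (Cfsg.POmega F (⇑Q))} (hφ : Ind Q 1 σ φ) (k : simGrp Q) :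
    ∃ k' : simGrp Q, (k' : GL ι F) = semiMap σ (k : GL ι F) ∧
      φ * conjAut Q k = conjAut Q k' * φ := by
  obtain ⟨c, hc⟩ := hφ.pair
  refine ⟨(FormMap.ofPair hφ.pair).psi k, ?_, OrthFieldCent.conj_formula hφ.pair hφ.induced k⟩
  rw [FormMap.coe_psi, FormMap.ofPair_base, inv_one, one_mul, mul_one]

theorem ind_pow_sigma {σ : F ≃+* F} {g : GL ι F} {z : MulAut (Cfsg.POmega F (⇑Q))} (hz : Ind Q g σ z)
    (k : ℕ) : ∃ N : GL ι F, (N : Matrix ι ι F) = Descent.normMat (g : Matrix ι ι F) σ k ∧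
      Ind Q N (σ ^ k) (z ^ k) := by
  induction k with
  | zero => exact ⟨1, rfl, by rw [pow_zero, pow_zero]; exact ind_one⟩
  | succ k ih =>
    obtain ⟨N, hN, hi⟩ := ih
    refine ⟨g * semiMap σ N, ?_, ?_⟩
    · rw [Units.val_mul, coe_semiMap, hN]; rfl
    · rw [pow_succ', pow_succ']; exact hz.mul hi

variable [Finite F] (D : Big Q)
include D

/-- The matrix of an element of order `r` in the coset is a twisted conjugate of a scalar. -/
theorem exists_twist {σ : F ≃+* F} {r : ℕ} (hr : 0 < r) (hσ : orderOf σ = r)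
    {φ : MulAut (Cfsg.POmega F (⇑Q))} (hφ : Ind Q 1 σ φ) (g : simGrp Q)
    (h : (conjAut Q g * φ) ^ r = 1) :
    ∃ (H : GL ι F) (t : Fˣ), simMat g * (H : Matrix ι ι F).map σ = (t : F) • (H : Matrix ι ι F) := by
  have hn := seven_le_card D
  haveI : Nonempty ι := Fintype.card_pos_iff.1 (by omega)
  obtain ⟨N, hN, hi⟩ := ind_pow_sigma (ind_coset hφ g) r
  rw [h, show σ ^ r = RingEquiv.refl F by rw [← hσ, pow_orderOf_eq_one]; rfl] at hi
  obtain ⟨hs, he⟩ := (ind_refl_iff _ _).1 hi
  obtain ⟨c, hc⟩ := (mem_ker_iff D.nondeg hn _).1 (MonoidHom.mem_ker.2 he.symm)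
  exact Descent.exists_conj_of_norm_scalar σ hσ hr (g : GL ι F) (hN.symm.trans hc)

/-- The descended form. -/
theorem exists_form {σ : F ≃+* F} (hσ : Invariant Q σ) (g : simGrp Q) {H : GL ι F} {t : Fˣ}
    (hH : simMat g * (H : Matrix ι ι F).map σ = (t : F) • (H : Matrix ι ι F)) :
    ∃ (Q₁ : QuadraticForm (fixField σ) (ι → fixField σ)) (a : F), a ≠ 0 ∧
      (polarBilin Q₁).Nondegenerate ∧
      ∀ u : ι → fixField σ,
        Q ((H : Matrix ι ι F) *ᵥ fun i => ((u i : fixField σ) : F)) = a * (Q₁ u : F) := by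
  classical
  set emb : (ι → (fixField σ)) → (ι → F) := fun u i => ((u i : (fixField σ)) : F) with hemb
  set A : (ι → (fixField σ)) → F := fun u => Q ((H : Matrix ι ι F) *ᵥ emb u) with hA
  have key : ∀ u, (simMult g : F) * σ (A u) = (t : F) ^ 2 * A u := fun u => by
    have e1 : (fun i => σ (((H : Matrix ι ι F) *ᵥ emb u) i)) = (H : Matrix ι ι F).map σ *ᵥ emb u := by
      funext i
      rw [show σ (((H : Matrix ι ι F) *ᵥ emb u) i) =
        ((H : Matrix ι ι F).map σ *ᵥ fun j => σ (emb u j)) i from RingHom.map_mulVec σ.toRingHom _ _ i]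
      exact congrFun (congrArg _ (funext fun j => (u j).2)) i
    rw [hA, ← hσ, ← simMult_spec g, e1, Matrix.mulVec_mulVec, hH, Matrix.smul_mulVec, apply_smul]
    ring
  have eadd : ∀ u v, emb (u + v) = emb u + emb v := fun u v => rfl
  have esmul : ∀ (c : (fixField σ)) u, emb (c • u) = (c : F) • emb u := fun c u => rfl
  obtain ⟨w, hw⟩ : ∃ w, A w ≠ 0 := by
    by_contra hcon
    simp only [not_exists, not_not] at hcon
    haveI : Nontrivial (ι → F) := Module.nontrivial_of_finrank_pos (R := F) (by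
      rw [Module.finrank_pi]; exact Fintype.card_pos_iff.2 (Fintype.card_pos_iff.1 (by
        have := seven_le_card D; omega)))
    obtain ⟨v, hv⟩ := exists_apply_ne_zero D.nondeg
    have hs : ∀ i, emb (Pi.single i 1) = Pi.single i 1 := fun i => funext fun j => by
      by_cases hj : j = i <;> simp [hemb, hj]
    have hz := form_eq_zero_of_single (Q.comp (Matrix.toLin' (H : Matrix ι ι F)))
      (fun i => by
        rw [QuadraticMap.comp_apply, Matrix.toLin'_apply, ← hs]; exact hcon _)
      (fun i l => by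
        rw [QuadraticMap.polar]
        simp only [QuadraticMap.comp_apply, Matrix.toLin'_apply, ← hs, ← eadd]
        rw [show Q ((H : Matrix ι ι F) *ᵥ emb (Pi.single i 1 + Pi.single l 1)) = 0 from hcon _,
          show Q ((H : Matrix ι ι F) *ᵥ emb (Pi.single i 1)) = 0 from hcon _,
          show Q ((H : Matrix ι ι F) *ᵥ emb (Pi.single l 1)) = 0 from hcon _, sub_zero, sub_zero])
      (((H⁻¹ : GL ι F) : Matrix ι ι F) *ᵥ v)
    rw [QuadraticMap.comp_apply, Matrix.toLin'_apply, Matrix.mulVec_mulVec, ← Units.val_mul,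
      mul_inv_cancel, Units.val_one, Matrix.one_mulVec] at hz
    exact hv hz
  set a := A w
  have hσa : σ a ≠ 0 := by simpa using hw
  have hfix : ∀ u, A u / a ∈ (fixField σ) := fun u => by
    show σ (A u / a) = A u / a
    rw [map_div₀, div_eq_div_iff hσa hw]
    refine mul_left_cancel₀ (simMult g).ne_zero ?_
    linear_combination a * key u - A u * key w
  have hsub : ∀ u v, polar Q ((H : Matrix ι ι F) *ᵥ emb u) ((H : Matrix ι ι F) *ᵥ emb v) =
      A (u + v) - A u - A v := fun u v => by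
    rw [QuadraticMap.polar, ← Matrix.mulVec_add, ← eadd]
  let B : (ι → (fixField σ)) → (fixField σ) := fun u => ⟨A u / a, hfix u⟩
  have hpol : ∀ u v, ((polar B u v : (fixField σ)) : F) =
      polar Q ((H : Matrix ι ι F) *ᵥ emb u) ((H : Matrix ι ι F) *ᵥ emb v) / a := fun u v => by
    rw [hsub, sub_div, sub_div]; rfl
  let Q₁ : QuadraticForm (fixField σ) (ι → (fixField σ)) := QuadraticMap.ofPolar B
    (fun c u => Subtype.ext (by
      show A (c • u) / a = ((c * c) * B u : (fixField σ))
      simp only [hA]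
      rw [show emb (c • u) = (c : F) • emb u from esmul c u, Matrix.mulVec_smul, apply_smul,
        mul_div_assoc]
      rfl))
    (fun u u' v => Subtype.ext (by
      rw [Subfield.coe_add, hpol, hpol, hpol, eadd, Matrix.mulVec_add,
        QuadraticMap.polar_add_left, add_div]))
    (fun c u v => Subtype.ext (by
      show _ = ((c * polar B u v : (fixField σ)) : F)
      rw [Subfield.coe_mul, hpol, hpol, esmul, Matrix.mulVec_smul, QuadraticMap.polar_smul_left,
        smul_eq_mul, mul_div_assoc]))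
  refine ⟨Q₁, a, hw, ?_, fun u => ?_⟩
  · have key2 : ∀ u, (∀ v, polar Q₁ u v = 0) → u = 0 := fun u hu => by
      have h0 : ∀ i, polarBilin Q ((H : Matrix ι ι F) *ᵥ emb u) ((H : Matrix ι ι F) *ᵥ Pi.single i 1) = 0 := by
        intro i
        have hs : emb (Pi.single i 1) = Pi.single i 1 := funext fun j => by
          by_cases hj : j = i <;> simp [hemb, hj]
        have h1 := congrArg (fun x : (fixField σ) => (x : F)) (hu (Pi.single i 1))
        rw [show polar Q₁ u (Pi.single i 1) = polar B u (Pi.single i 1) from rfl] at h1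
        rw [hpol, hs, ZeroMemClass.coe_zero, div_eq_zero_iff] at h1
        exact h1.resolve_right hw
      have h1 : (H : Matrix ι ι F) *ᵥ emb u = 0 := D.nondeg.1 _ fun v => by
        obtain ⟨v', rfl⟩ : ∃ v', (H : Matrix ι ι F) *ᵥ v' = v :=
          ⟨((H⁻¹ : GL ι F) : Matrix ι ι F) *ᵥ v, by
            rw [Matrix.mulVec_mulVec, ← Units.val_mul, mul_inv_cancel, Units.val_one, Matrix.one_mulVec]⟩
        have e : ((polarBilin Q ((H : Matrix ι ι F) *ᵥ emb u)).comp
            (Matrix.toLin' (H : Matrix ι ι F))) = 0 := (Pi.basisFun F ι).ext fun i => by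
          simpa using h0 i
        simpa using LinearMap.congr_fun e v'
      have h2 : emb u = 0 := by
        have := congrArg (((H⁻¹ : GL ι F) : Matrix ι ι F) *ᵥ ·) h1
        simpa [Matrix.mulVec_mulVec] using this
      exact funext fun i => Subtype.ext (congrFun h2 i)
    exact ⟨fun u hu => key2 u fun v => hu v, fun u hu => key2 u fun v => by
      rw [QuadraticMap.polar_comm]; exact hu v⟩
  · show _ = a * (A u / a)
    rw [mul_div_cancel₀ _ hw]

/-- A descended form similar to a form which embeds, fixed by `R`, gives a conjugate of `R φ`. -/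
theorem exists_conj {σ : F ≃+* F} {φ : MulAut (Cfsg.POmega F (⇑Q))} (hφ : Ind Q 1 σ φ)
    (g : simGrp Q) {H : GL ι F} {t : Fˣ}
    (hH : simMat g * (H : Matrix ι ι F).map σ = (t : F) • (H : Matrix ι ι F))
    {Q₁ : QuadraticForm (fixField σ) (ι → fixField σ)} {a : F} (ha : a ≠ 0)
    (hQ₁ : ∀ u : ι → fixField σ,
      Q ((H : Matrix ι ι F) *ᵥ fun i => ((u i : fixField σ) : F)) = a * (Q₁ u : F))
    {κ : Type} [Fintype κ] [DecidableEq κ] {S : QuadraticForm (fixField σ) (κ → fixField σ)}
    (E : (κ → fixField σ) ≃ₗ[fixField σ] (ι → fixField σ)) {c : fixField σ} (hc : c ≠ 0)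
    (hE : ∀ v, Q₁ (E v) = c * S v) (d : FormMap S Q) (hj : d.j = (fixField σ).subtype)
    (R : simGrp Q) (hA : (R : GL ι F) * semiMap σ d.A = d.A) :
    ∃ k : simGrp Q, conjAut Q g * φ = conjAut Q k * (conjAut Q R * φ) * (conjAut Q k)⁻¹ := by
  classical
  let e' : (ι → (fixField σ)) ≃ₗ[(fixField σ)] (ι → (fixField σ)) := (LinearEquiv.funCongrLeft (fixField σ) (fixField σ) d.e).trans E
  let E₀ : GL ι (fixField σ) := ⟨LinearMap.toMatrix' (e' : (ι → (fixField σ)) →ₗ[(fixField σ)] (ι → (fixField σ))),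
    LinearMap.toMatrix' (e'.symm : (ι → (fixField σ)) →ₗ[(fixField σ)] (ι → (fixField σ))),
    by rw [← LinearMap.toMatrix'_comp]; simp, by rw [← LinearMap.toMatrix'_comp]; simp⟩
  set EF : GL ι F := Matrix.GeneralLinearGroup.map (fixField σ).subtype E₀ with hEF
  set A₀ : GL ι F := H * EF * d.A⁻¹ with hA₀
  have hmap : ∀ v : κ → (fixField σ), (A₀ : Matrix ι ι F) *ᵥ d.map v =
      (H : Matrix ι ι F) *ᵥ fun i => ((E v i : (fixField σ)) : F) := fun v => by
    rw [hA₀, FormMap.map, hj, Units.val_mul, Units.val_mul, Matrix.mulVec_mulVec, mul_assoc,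
      Units.inv_mul, mul_one, ← Matrix.mulVec_mulVec]
    congr 1
    funext i
    rw [hEF, show ((Matrix.GeneralLinearGroup.map (fixField σ).subtype E₀ : GL ι F) : Matrix ι ι F) =
      (LinearMap.toMatrix' (e' : (ι → (fixField σ)) →ₗ[(fixField σ)] (ι → (fixField σ)))).map (fixField σ).subtype from rfl,
      show (fun i => (fixField σ).subtype (v (d.e.symm i))) =
        ((fixField σ).subtype : _ → F) ∘ fun i => v (d.e.symm i) from rfl,
      ← RingHom.map_mulVec (fixField σ).subtype (LinearMap.toMatrix' (e' : (ι → (fixField σ)) →ₗ[(fixField σ)] (ι → (fixField σ))))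
        (fun i => v (d.e.symm i)) i, LinearMap.toMatrix'_mulVec]
    show ((E (fun k => v (d.e.symm (d.e k))) i : (fixField σ)) : F) = _
    simp only [Equiv.symm_apply_apply]
  set lam : F := a * (c : F) / (d.μ : F) with hlam
  have hlam0 : lam ≠ 0 := div_ne_zero (mul_ne_zero ha (by simpa using hc)) d.μ.ne_zero
  have hval : ∀ v, Q ((A₀ : Matrix ι ι F) *ᵥ d.map v) = lam * Q (d.map v) := fun v => by
    rw [hmap, hQ₁, hE, d.apply_map, hj, hlam]
    have := d.μ.ne_zero
    field_simp
    rfl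
  have hsim : ∀ w, Q ((A₀ : Matrix ι ι F) *ᵥ w) = lam * Q w := by
    let Df : QuadraticForm F (ι → F) :=
      Q.comp (Matrix.toLin' ((A₀ : Matrix ι ι F) * (d.A : Matrix ι ι F))) -
        lam • Q.comp (Matrix.toLin' (d.A : Matrix ι ι F))
    have hDf : ∀ x, Df x = Q ((A₀ : Matrix ι ι F) *ᵥ ((d.A : Matrix ι ι F) *ᵥ x)) -
        lam * Q ((d.A : Matrix ι ι F) *ᵥ x) := fun x => by
      simp [Df, Matrix.mulVec_mulVec]
    have h0 : ∀ v : κ → (fixField σ), Df (fun i => d.j (v (d.e.symm i))) = 0 := fun v => by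
      rw [hDf, show (d.A : Matrix ι ι F) *ᵥ (fun i => d.j (v (d.e.symm i))) = d.map v from rfl,
        hval, sub_self]
    have hs : ∀ i, (fun k => d.j ((Pi.single (d.e.symm i) 1 : κ → (fixField σ)) (d.e.symm k))) =
        Pi.single i 1 := fun i => funext fun k => by
      by_cases hk : k = i <;> simp [hk]
    have hz := form_eq_zero_of_single Df (fun i => by rw [← hs i]; exact h0 _) (fun i l => by
      have e : (Pi.single i 1 : ι → F) + Pi.single l 1 = fun k => d.j
          ((((Pi.single (d.e.symm i) 1 : κ → (fixField σ)) + Pi.single (d.e.symm l) 1 :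
            κ → (fixField σ))) (d.e.symm k)) := by
        funext k
        rw [Pi.add_apply, Pi.add_apply, map_add, ← congrFun (hs i) k, ← congrFun (hs l) k]
      rw [QuadraticMap.polar, e, h0, ← hs i, ← hs l, h0, h0, sub_zero, sub_zero])
    intro w
    have h1 := hz (((d.A⁻¹ : GL ι F) : Matrix ι ι F) *ᵥ w)
    rw [hDf, Matrix.mulVec_mulVec _ (d.A : Matrix ι ι F), ← Units.val_mul, mul_inv_cancel,
      Units.val_one, Matrix.one_mulVec, sub_eq_zero] at h1
    exact h1
  let k : simGrp Q := ⟨A₀, Units.mk0 lam hlam0, hsim⟩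
  refine ⟨k, ?_⟩
  obtain ⟨k', hk', hφk⟩ := conj_field hφ k
  have hmat : (g : GL ι F) * semiMap σ A₀ =
      Matrix.GeneralLinearGroup.scalar ι t * A₀ * (R : GL ι F) := by
    have hEFσ : semiMap σ EF = EF := Units.ext (Matrix.ext fun i j => (E₀.1 i j).2)
    have h1 : (g : GL ι F) * semiMap σ H = Matrix.GeneralLinearGroup.scalar ι t * H := by
      refine Units.ext ?_
      rw [Units.val_mul, coe_semiMap, Units.val_mul]
      show simMat g * _ = Matrix.scalar ι (t : F) * _
      rw [hH, Matrix.scalar_apply, ← Matrix.smul_eq_diagonal_mul]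
    have h2 : semiMap σ d.A⁻¹ = d.A⁻¹ * (R : GL ι F) := by
      rw [map_inv, inv_eq_iff_eq_inv, _root_.mul_inv_rev, inv_inv]
      exact eq_inv_mul_iff_mul_eq.2 hA
    rw [hA₀, map_mul, map_mul, hEFσ, h2, ← mul_assoc, ← mul_assoc, ← mul_assoc, h1]
    simp only [mul_assoc]
  have hs : conjAut Q (g * k') = conjAut Q (k * R) := by
    have hmem : Matrix.GeneralLinearGroup.scalar ι t ∈ simGrp Q := ⟨t ^ 2, fun v => by
      rw [show ((Matrix.GeneralLinearGroup.scalar ι t : GL ι F) : Matrix ι ι F) = (t : F) • 1 from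
        (Matrix.smul_one_eq_diagonal (t : F)).symm, Matrix.smul_mulVec, Matrix.one_mulVec, apply_smul,
        Units.val_pow_eq_pow_val, sq]⟩
    have e : g * k' = ⟨_, hmem⟩ * (k * R) := Subtype.ext (by
      show (g : GL ι F) * (k' : GL ι F) = _
      rw [hk', show (k : GL ι F) = A₀ from rfl, hmat, mul_assoc]
      rfl)
    have hkz : (⟨_, hmem⟩ : simGrp Q) ∈ (conjAut Q).ker :=
      (mem_ker_iff D.nondeg (seven_le_card D) _).2 ⟨t, (Matrix.smul_one_eq_diagonal (t : F)).symm⟩
    rw [e, map_mul, MonoidHom.mem_ker.1 hkz, one_mul]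
  rw [eq_mul_inv_iff_mul_eq, mul_assoc, hφk, ← mul_assoc, ← map_mul, hs, map_mul, mul_assoc]

end CfsgLib.Known.AutPOmega
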