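import Cfsg.Agent.Lib.Known.AutPOmega.CosetGroup
import Cfsg.Agent.Lib.Known.AutPOmega.FieldDescent
import Cfsg.Agent.Lib.Known.OrthFieldCent.Normal

/-!
Elements of prime order in the coset of a field automorphism, general part.
-/

set_option autoImplicit false
set_option linter.unusedSectionVars false

namespace CfsgLib.Known.AutPOmega

open QuadraticMap (polar polarBilin)
open CfsgLib.Classical.Quad
open CfsgLib.Known.OrthFieldCent (FormMap Invariant)
open scoped Matrix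

variable {F : Type*} [Field F] [Finite F] {ι : Type} [Fintype ι] [DecidableEq ι]
  {Q : QuadraticForm F (ι → F)}

theorem innS_cases_two (h2 : (2 : F) = 0) (hQ : (polarBilin Q).Nondegenerate)
    (hn : 7 ≤ Fintype.card ι) {v : ι → F} (hv : Q v ≠ 0) :
    (∀ g : simGrp Q, g ∈ innS Q ∨
      g * (Subgroup.inclusion (isometry_le_sim Q) (rO hv))⁻¹ ∈ innS Q) ∧
      Subgroup.inclusion (isometry_le_sim Q) (rO hv) ∉ innS Q := by
  have hker : (conjAut Q).ker ≤ innS Q := by rw [innS_eq]; exact le_sup_right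
  refine ⟨fun g => ?_, fun h => ?_⟩
  · obtain ⟨z, x, hz, rfl⟩ := OrthFieldCent.sim_decomp h2 hQ hn g
    rcases zmod_two_mult_cases ((OrthFieldCent.invs hQ (by omega) x).1) with h | h
    · exact Or.inl (mul_mem (hker hz) ((OrthFieldCent.incl_mem_innS_two h2 hQ hn x).2 h))
    · refine Or.inr ?_
      rw [mul_assoc, ← map_inv, ← map_mul]
      refine mul_mem (hker hz) ((OrthFieldCent.incl_mem_innS_two h2 hQ hn _).2 ?_)
      rw [map_mul, map_inv, Prod.fst_mul, Prod.fst_inv, OrthFieldCent.invs_rO, h, mul_inv_cancel]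
  · have h1 := (OrthFieldCent.incl_mem_innS_two h2 hQ hn _).1 h
    rw [OrthFieldCent.invs_rO] at h1
    exact absurd h1 (show (Multiplicative.ofAdd (1 : ZMod 2)) ≠ 1 by decide)

theorem sgn_cases {k : ℕ} (H : EvenForm Q k) {v : ι → F} (hv : Q v ≠ 0) :
    (∀ g : simGrp Q, g ∈ (sgnHom H).ker ∨
      g * (Subgroup.inclusion (isometry_le_sim Q) (rO hv))⁻¹ ∈ (sgnHom H).ker) ∧
      Subgroup.inclusion (isometry_le_sim Q) (rO hv) ∉ (sgnHom H).ker := by
  have hr : sgnHom H (Subgroup.inclusion (isometry_le_sim Q) (rO hv)) = -1 := by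
    rw [sgn_incl H, det_rO]
  refine ⟨fun g => ?_, fun h => ?_⟩
  · rcases sgnHom_cases H g with h | h
    · exact Or.inl h
    · refine Or.inr ?_
      rw [MonoidHom.mem_ker, map_mul, map_inv, h, hr, mul_inv_cancel]
  · rw [MonoidHom.mem_ker, hr] at h
    have h1 : (-1 : F) = 1 := congrArg Units.val h
    exact H.two_ne (by linear_combination -h1)

/-- Elements of prime order in the coset of a field automorphism form one class. -/
theorem coset_iff (D : Big Q) (hT : NoTriality Q) {f : (ι → F) → F} (hf : f = ⇑Q)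
    (P : Subgroup (simGrp Q)) (hkP : (conjAut Q).ker ≤ P) (R : simGrp Q)
    (hR : ∀ g, g ∈ P ∨ g * R⁻¹ ∈ P) (hRP : R ∈ P → R = 1) {σ : F ≃+* F} (hσ : Invariant Q σ)
    (hσ1 : σ ≠ RingEquiv.refl F) (hRσ : semiMap σ (R : GL ι F) = (R : GL ι F))
    (S : Subgroup (MulAut (Cfsg.POmega F f))) [S.Normal] (hS : HEq S (P.map (conjAut Q)))
    {φ : MulAut (Cfsg.POmega F f)} (hφ : Cfsg.IsFieldAutPOmegaOf f σ φ) {r : ℕ} (hr : r.Prime)
    (hclass : ∀ (ψ : MulAut (Cfsg.POmega F (⇑Q))), Ind Q 1 σ ψ → orderOf σ = r →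
      ∀ (g : simGrp Q) (H : GL ι F) (t : Fˣ),
        simMat g * (H : Matrix ι ι F).map σ = (t : F) • (H : Matrix ι ι F) →
        ∀ (Q₁ : QuadraticForm (fixField σ) (ι → fixField σ)) (a : F), a ≠ 0 →
          (polarBilin Q₁).Nondegenerate →
          (∀ u : ι → fixField σ,
            Q ((H : Matrix ι ι F) *ᵥ fun i => ((u i : fixField σ) : F)) = a * (Q₁ u : F)) →
          ∃ k : simGrp Q, conjAut Q g * ψ = conjAut Q k * ψ * (conjAut Q k)⁻¹ ∨
            conjAut Q g * ψ = conjAut Q k * (conjAut Q R * ψ) * (conjAut Q k)⁻¹)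
    {x δ α n₀ : MulAut (Cfsg.POmega F f)} (hn₀ : n₀ ∈ Cfsg.pgoAut F f)
    (hx : α * x * α⁻¹ = n₀ * φ) (hxr : orderOf x = r) (hδ : δ ∈ S) :
    orderOf (δ * x) = r ↔ Cfsg.IsConjUnder S x (δ * x) := by
  subst hf
  obtain rfl := eq_of_heq hS
  have hφi := ind_field hσ hφ
  obtain ⟨Φ, hΦ, hker⟩ := exists_field_hom D hT
  have hnφ : (n₀ * φ) ^ r = 1 := by
    rw [← hx, show α * x * α⁻¹ = MulAut.conj α x from rfl, ← map_pow, ← hxr, pow_orderOf_eq_one,
      map_one]
  have hord : orderOf σ = r := by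
    have h1 : Φ (n₀ * φ) = σ := by
      rw [map_mul, hΦ _ _ _ hφi, MonoidHom.mem_ker.1 (hker.symm ▸ hn₀ : n₀ ∈ Φ.ker), one_mul]
    haveI : Fact r.Prime := ⟨hr⟩
    exact orderOf_eq_prime (by rw [← h1, ← map_pow, hnφ, map_one]) hσ1
  refine coset_conj (P.map (conjAut Q)) (conjAut Q).range φ (conjAut Q R) ?_ ?_ ?_ ?_ ?_ hδ
    (by rw [← pgoAut_eq]; exact hn₀) hx hxr
  · exact Subgroup.map_le_range _ _
  · obtain ⟨R', hR', e⟩ := conj_field hφi R
    have : R' = R := Subtype.ext (hR'.trans hRσ)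
    rw [this] at e
    exact e.symm
  · rintro _ ⟨g, rfl⟩
    rcases hR g with h | h
    · exact Or.inl (Subgroup.mem_map_of_mem _ h)
    · exact Or.inr (by rw [← map_inv, ← map_mul]; exact Subgroup.mem_map_of_mem _ h)
  · rintro ⟨p, hp, e⟩
    have h1 : p⁻¹ * R ∈ P := hkP (by rw [MonoidHom.mem_ker, map_mul, map_inv, e, inv_mul_cancel])
    have h2 : R ∈ P := by simpa using mul_mem hp h1
    rw [hRP h2, map_one]
  · rintro _ ⟨g, rfl⟩ hp
    obtain ⟨H, t, hH⟩ := exists_twist D hr.pos hord hφi g hp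
    obtain ⟨Q₁, a, ha, hnd, hQ₁⟩ := exists_form D hσ g hH
    obtain ⟨k, hk⟩ := hclass φ hφi hord g H t hH Q₁ a ha hnd hQ₁
    exact ⟨conjAut Q k, ⟨k, rfl⟩, hk⟩

end CfsgLib.Known.AutPOmega
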