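import Cfsg.Agent.Lib.Known.AutPOmega.Coord

/-!
The radicals of two non-collinear singular points generate `PΩ`; an automorphism fixing one of
them pointwise and the pencil of the other is trivial.
-/

set_option autoImplicit false
set_option linter.unusedSectionVars false

namespace CfsgLib.Known.AutPOmega

open QuadraticMap (polar polarBilin)
open CfsgLib.Classical.Quad

variable {F : Type*} [Field F] {V : Type*} [AddCommGroup V] [Module F V] {Q : QuadraticForm F V}
  [FiniteDimensional F V] [Finite F] (D : Big Q) {e f : V}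
include D

theorem El_scale {u a : V} (hu : Q u = 0) (ha : polar Q u a = 0) (c : F) :
    El D (c • u) a = El D u (c • a) := by
  rw [El, El]
  congr 1
  refine ext_ac fun z => ?_
  rw [ac_eps D (by rw [apply_smul, hu, mul_zero]) (by rw [polar_smul_left', ha, mul_zero]),
    ac_eps D hu (by rw [polar_smul_right', ha, mul_zero]), apply_smul, polar_smul_right',
    polar_smul_right']
  module

theorem closure_eq_top (h : Hyp Q e f) {N : Subgroup (POm Q)}
    (he : ∀ a, InW Q e f a → El D e a ∈ N) (hf : ∀ a, InW Q e f a → El D f a ∈ N) : N = ⊤ := by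
  -- the singular vectors whose radical lies in `N`
  let Tp : V → Prop := fun w => Q w = 0 → ∀ a, polar Q w a = 0 → El D w a ∈ N
  have he' : Tp e := fun _ a ha => by
    rw [El_prW D h ha]; exact he _ (prW_inW h a)
  have hf' : Tp f := fun _ a ha => by
    rw [El_prW D h.swap ha]
    exact hf _ (prW_inW h.swap a).swap
  have conj : ∀ {g : Om Q} {w : V}, pr Q g ∈ N → Q w = 0 → Tp w → Tp (ac g w) := by
    intro g w hg hqw hw hq a ha
    have e1 : a = ac g (ac g⁻¹ a) := (ac_ac_inv g a).symm
    have ha' : polar Q w (ac g⁻¹ a) = 0 := by rw [← polar_ac g, ac_ac_inv]; exact ha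
    rw [e1, ← conj_El D g hqw ha']
    exact mul_mem (mul_mem hg (hw hqw _ ha')) (inv_mem hg)
  have scale : ∀ {w : V} (c : F), Q w = 0 → Tp w → Tp (c • w) := by
    intro w c hqw hw hq a ha
    by_cases hc : c = 0
    · rw [hc, zero_smul, El, show eps D (0 : V) a = 1 from ext_ac fun z => by
        rw [ac_eps D (QuadraticMap.map_zero _) (QuadraticMap.polar_zero_left _ _)]
        simp [ac_one], map_one]
      exact one_mem N
    rw [polar_smul_left'] at ha
    have ha' := (mul_eq_zero.1 ha).resolve_left hc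
    rw [El_scale D hqw ha']
    exact hw hqw _ (by rw [polar_smul_right', ha', mul_zero])
  have notperp : ∀ {e f : V}, Hyp Q e f → Tp e → Tp f → ∀ w, Q w = 0 → polar Q f w ≠ 0 → Tp w := by
    intro e f h hTe hTf w hw hfw
    set r := polar Q f w
    set x := r⁻¹ • prW Q e f w with hxdef
    have hx : InW Q e f x := (prW_inW h w).smul _
    have hg : pr Q (eps D f (-x)) ∈ N :=
      hTf h.ff (-x) (by rw [QuadraticMap.polar_neg_right, hx.right, neg_zero])
    have key := scale r (by rw [Q_ac, h.ee]) (conj hg h.ee hTe)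
    have hqw : r * polar Q e w + Q (prW Q e f w) = 0 := by
      have h1 := hw
      rw [prW_decomp (Q := Q) (e := e) (f := f) w] at h1
      simp only [apply_add, apply_smul, polar_add_left', polar_smul_left', polar_smul_right',
        h.ee, h.ff, h.ef, (prW_inW h w).left, (prW_inW h w).right] at h1
      linear_combination h1
    have e2 : r • ac (eps D f (-x)) e = w := by
      rw [ac_eps D h.ff (by rw [QuadraticMap.polar_neg_right, hx.right, neg_zero]),
        QuadraticMap.polar_neg_right, hx.left, h.ef, QuadraticMap.map_neg, mul_one, hxdef, apply_smul]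
      conv_rhs => rw [prW_decomp (Q := Q) (e := e) (f := f) w]
      have hr : r ≠ 0 := hfw
      match_scalars <;> field_simp <;> first | ring1 | linear_combination hqw | linear_combination -hqw
    exact e2 ▸ key
  have all : ∀ w, Tp w := by
    intro w hw
    by_cases h1 : polar Q f w = 0
    swap
    · exact notperp h he' hf' w hw h1 hw
    by_cases h2 : polar Q e w = 0
    swap
    · exact notperp h.swap hf' he' w hw h2 hw
    by_cases hw0 : w = 0
    · rw [hw0] at hw ⊢
      have := scale 0 h.ee he'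
      rw [zero_smul] at this
      exact this hw
    obtain ⟨d, hd, hwd⟩ := exists_sep_W D h ⟨h2, h1⟩ hw0
    set w' := ac (eps D e d) w with hw'
    have hq' : Q w' = 0 := by rw [hw', Q_ac, hw]
    have hfw' : polar Q f w' ≠ 0 := by
      rw [hw', ac_eps D h.ee hd.left, QuadraticMap.polar_comm (⇑Q) w e, h2, hwd]
      simp [polar_add_right', polar_smul_right', h.fe, h1]
    have hg : pr Q (eps D e d)⁻¹ ∈ N := by rw [map_inv]; exact inv_mem (he d hd)
    have := conj hg hq' (notperp h he' hf' w' hq' hfw')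
    rw [hw', ac_inv_ac] at this
    exact this hw
  rw [eq_top_iff]
  rintro x -
  obtain ⟨g, rfl⟩ := pr_surjective x
  have hle : eichGroup D.nondeg ≤ (N.comap (pr Q)).map (commutator (OQ Q)).subtype := by
    refine (Subgroup.closure_le _).2 ?_
    rintro _ ⟨w, a, hw, ha, -, rfl⟩
    refine ⟨eps D w a, all w hw a ha, ?_⟩
    classical
    rw [eps, dif_pos ⟨hw, ha⟩]
    rfl
  obtain ⟨g', hg', e'⟩ := hle (show (g : OQ Q) ∈ eichGroup D.nondeg by
    rw [eichGroup_eq_commutator D.nondeg D.five]; exact g.2)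
  rwa [Subtype.ext e'] at hg'

theorem mem_span_of_comm {a b : V} (h : Hyp Q e f) (ha : InW Q e f a) (hb : InW Q e f b)
    (hqa : Q a = 0) (hqb : Q b = 0) (ha0 : a ≠ 0) (hb0 : b ≠ 0)
    (hc : CommS (X D e a) (X D f b)) : b ∈ Submodule.span F {a} := by
  have hp := Pair.of_W h ha hqa ha0
  have hp' := Pair.of_W h.swap hb.swap hqb hb0
  by_cases hap : Apart (F := F) e a f b
  · have := (perp_of_comm D hp hp' hap hc).1
    rw [h.fe] at this
    exact absurd this one_ne_zero
  · simp only [Apart, not_forall] at hap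
    obtain ⟨z, hz, hz', hz0⟩ := hap
    obtain ⟨r, s, rfl⟩ := mem_line.1 hz
    obtain ⟨r', s', e1⟩ := mem_line.1 hz'
    have h1 := congrArg (polar Q f) e1
    have h2 := congrArg (polar Q e) e1
    simp only [polar_add_right', polar_smul_right', h.fe, h.ef, ha.right, hb.right, ha.left, hb.left,
      polar_self', h.ee, h.ff, mul_one, mul_zero, add_zero] at h1 h2
    rw [h1, ← h2, zero_smul, zero_smul, zero_add, zero_add] at e1
    have hs' : s' ≠ 0 := fun hs => hz0 (by
      rw [hs, zero_smul] at e1
      rw [h1, zero_smul, zero_add, e1])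
    exact Submodule.mem_span_singleton.2 ⟨s'⁻¹ * s, by rw [mul_smul, e1, inv_smul_smul₀ hs']⟩

theorem comm_same {a : V} (h : Hyp Q e f) (ha : InW Q e f a) (hqa : Q a = 0) (ha0 : a ≠ 0) :
    CommS (X D e a) (X D f a) := by
  have hp := Pair.of_W h ha hqa ha0
  have hp' := Pair.of_W h.swap ha.swap hqa ha0
  rw [← X_swap D hp, ← X_swap D hp']
  exact comm_point D hp.swap hp'.swap

theorem eq_one_of_fix (h : Hyp Q e f) {β : MulAut (POm Q)}
    (hfix : ∀ a, InW Q e f a → β (El D e a) = El D e a) (hstar : img β '' Star D f = Star D f) :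
    β = 1 := by
  obtain ⟨A, S⟩ := exists_side D h.swap hstar
  have hX : ∀ {a}, InW Q e f a → img β (X D e a) = X D e a := fun {a} ha => by
    have : ∀ t : F, β (El D e (t • a)) = El D e (t • a) := fun t => hfix _ (ha.smul t)
    rw [img, X, ← Set.range_comp]
    exact congrArg Set.range (funext this)
  -- on singular vectors `A` is a scalar
  have eig : ∀ a, InW Q e f a → Q a = 0 → a ≠ 0 → ∃ l : F, A a = l • a := by
    intro a ha hqa ha0
    have hA : InW Q e f (A a) := (S.mem a ha.swap).swap
    have hAq := (S.sing D ha.swap hqa).1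
    have hA0 := S.ne_zero D ha.swap ha0
    have hc : CommS (X D e a) (X D f (A a)) := by
      have h1 := (comm_img β _ _).2 (comm_same D h ha hqa ha0)
      rw [hX ha] at h1
      intro x hx y hy
      obtain ⟨t, rfl⟩ := hy
      obtain ⟨v, hv, hqv, -, -, e'⟩ := mem_star_W D h.swap
        (hstar ▸ ⟨_, ⟨a, Pair.of_W h.swap ha.swap hqa ha0, rfl⟩, rfl⟩ : img β (X D f a) ∈ Star D f)
      obtain ⟨s, hs⟩ : β (El D f a) ∈ X D f v := e' ▸ ⟨_, ⟨1, by simp only [one_smul]⟩, rfl⟩
      have h2 : A a = s • v :=
        El_W_inj D h.swap (S.mem a ha.swap) (hv.smul s) ((S.eq a ha.swap).symm.trans hs.symm)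
      refine h1 x hx _ ?_
      rw [e', h2]
      exact ⟨t * s, by simp only [smul_smul]⟩
    obtain ⟨l, hl⟩ := Submodule.mem_span_singleton.1
      (mem_span_of_comm D h ha hA hqa hAq ha0 hA0 hc)
    exact ⟨l, hl.symm⟩
  choose l hl using eig
  have same : ∀ a b (ha : InW Q e f a) (hb : InW Q e f b) (hqa : Q a = 0) (hqb : Q b = 0)
      (ha0 : a ≠ 0) (hb0 : b ≠ 0), polar Q a b = 0 → b ∉ Submodule.span F {a} →
      l a ha hqa ha0 = l b hb hqb hb0 := by
    intro a b ha hb hqa hqb ha0 hb0 hab hm
    have hli : LinearIndependent F ![a, b] := by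
      rw [LinearIndependent.pair_iff' ha0]
      exact fun r hr => hm (Submodule.mem_span_singleton.2 ⟨r, hr⟩)
    have hq : Q (a + b) = 0 := by rw [apply_add, hqa, hqb, hab]; ring
    have hab0 : a + b ≠ 0 := fun h0 => one_ne_zero
      (LinearIndependent.pair_iff.1 hli 1 1 (by rw [one_smul, one_smul, h0])).1
    have h1 := S.add D ha.swap hb.swap
    rw [hl _ (ha.add hb) hq hab0, hl a ha hqa ha0, hl b hb hqb hb0, smul_add] at h1
    obtain ⟨h2, h3⟩ := LinearIndependent.pair_iff.1 hli
      (l _ (ha.add hb) hq hab0 - l a ha hqa ha0) (l _ (ha.add hb) hq hab0 - l b hb hqb hb0)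
      (by linear_combination (norm := module) h1)
    exact (sub_eq_zero.1 h2).symm.trans (sub_eq_zero.1 h3)
  obtain ⟨u, hu0, hqu, hu⟩ := exists_sing_W D h
  set L := l u hu hqu hu0
  have glob : ∀ b (hb : InW Q e f b) (hqb : Q b = 0) (hb0 : b ≠ 0), l b hb hqb hb0 = L := by
    intro b hb hqb hb0
    rcases exists_bridge D h hb hu hqb hqu hb0 hu0 with ⟨h1, h2⟩ | ⟨c, hc, hqc, hc0, h1, h2, h3, h4⟩
    · exact same b u hb hu hqb hqu hb0 hu0 h1 h2
    · exact (same b c hb hc hqb hqc hb0 hc0 h1 h3).trans (same u c hu hc hqu hqc hu0 hc0 h2 h4).symm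
  have lin : ∀ x, InW Q e f x → A x = L • x := by
    intro x hx
    suffices InW Q e f x ∧ A x = L • x from this.2
    refine Submodule.closure_induction (p := fun x _ => InW Q e f x ∧ A x = L • x) ?_ ?_ ?_
      (span_W D h hx)
    · exact ⟨InW.zero, by rw [S.zero D, smul_zero]⟩
    · rintro x y - - ⟨hx, ex⟩ ⟨hy, ey⟩
      exact ⟨hx.add hy, by rw [S.add D hx.swap hy.swap, ex, ey, smul_add]⟩
    · rintro r x ⟨hqx, hx⟩
      refine ⟨hx.smul r, ?_⟩
      by_cases h0 : r • x = 0
      · rw [h0, S.zero D, smul_zero]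
      rw [hl _ (hx.smul r) (by rw [apply_smul, hqx, mul_zero]) h0, glob]
  -- the scalar is one
  obtain ⟨v, hv, H⟩ := exists_partner_W D h hu hqu hu0
  obtain ⟨b, hb0, hqb, hbW, hub, hvb⟩ := exists_sing_W2 D h hu hv H
  obtain ⟨d₀, hd₀, hbd₀⟩ := exists_sep_W D h hbW hb0
  set d := d₀ - polar Q u d₀ • v with hd
  have hdW : InW Q e f d := hd₀.sub (hv.smul _)
  have hud : polar Q u d = 0 := by
    rw [hd, QuadraticMap.polar_sub_right, polar_smul_right', H.ef]; ring
  have hbd : polar Q b d = 1 := by
    rw [hd, QuadraticMap.polar_sub_right, polar_smul_right', QuadraticMap.polar_comm (⇑Q) b v, hvb,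
      hbd₀]
    ring
  let xg : F → Om Q := fun t => eps D e u * eps D f (t • b) * (eps D e u)⁻¹ * (eps D f (t • b))⁻¹
  have hxg : ∀ t : F, ac (xg t) e = e ∧ ac (xg t) d = d - t • u := by
    intro t
    have hfb : ∀ r : F, polar Q f (r • b) = 0 := fun r => by rw [polar_smul_right', hbW.right, mul_zero]
    have hgf : ac (eps D e u) f = f - u := by
      rw [ac_eps D h.ee hu.left, h.fe, hu.right, hqu]; module
    have hgb : ac (eps D e u) (t • b) = t • b := by
      rw [ac_eps D h.ee hu.left, polar_smul_left', polar_smul_left',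
        QuadraticMap.polar_comm (⇑Q) b e, hbW.left, QuadraticMap.polar_comm (⇑Q) b u, hub]
      simp
    have hfu : polar Q (f - u) (t • b) = 0 := by
      rw [QuadraticMap.polar_sub_left, hfb, polar_smul_right', hub]; ring
    have hx : xg t = eps D (f - u) (t • b) * eps D f (-(t • b)) := by
      show eps D e u * eps D f (t • b) * (eps D e u)⁻¹ * _ = _
      rw [eps_conj D _ h.ff (hfb t), eps_inv D h.ff (hfb t), hgf, hgb]
    have hqfu : Q (f - u) = 0 := by
      rw [sub_eq_add_neg, apply_add, QuadraticMap.map_neg, QuadraticMap.polar_neg_right, h.ff, hqu,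
        hu.right]
      ring
    have hfb' : polar Q f (-(t • b)) = 0 := by rw [QuadraticMap.polar_neg_right, hfb, neg_zero]
    constructor
    · rw [hx, ac_mul, ac_eps D h.ff hfb', ac_eps D hqfu hfu]
      simp only [QuadraticMap.map_neg, apply_smul, hqb, QuadraticMap.polar_neg_right,
        polar_smul_right', polar_add_left', polar_smul_left', QuadraticMap.polar_neg_left,
        QuadraticMap.polar_sub_right, h.ef, hbW.left, hbW.right, polar_self', h.ff,
        QuadraticMap.polar_comm (⇑Q) b f, QuadraticMap.polar_comm (⇑Q) b u, hub, hu.left, hu.right]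
      module
    · rw [hx, ac_mul, ac_eps D h.ff hfb', ac_eps D hqfu hfu]
      simp only [QuadraticMap.map_neg, apply_smul, hqb, QuadraticMap.polar_neg_right,
        polar_smul_right', polar_add_left', polar_smul_left', QuadraticMap.polar_neg_left,
        QuadraticMap.polar_sub_right, hbW.right, polar_self', h.ff,
        QuadraticMap.polar_comm (⇑Q) d f, hdW.right, QuadraticMap.polar_comm (⇑Q) d b, hbd,
        QuadraticMap.polar_comm (⇑Q) d u, hud, QuadraticMap.polar_comm (⇑Q) b f,
        QuadraticMap.polar_comm (⇑Q) b u, hub, hu.right]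
      module
  have hconj : ∀ t : F, pr Q (xg t) * El D e d * (pr Q (xg t))⁻¹ = El D e (d - t • u) := fun t => by
    rw [conj_El D _ h.ee hdW.left, (hxg t).1, (hxg t).2]
  have hβx : β (pr Q (xg 1)) = pr Q (xg L) := by
    have hA : β (El D f b) = El D f (L • b) := by rw [S.eq b hbW.swap, lin b hbW]
    have h1 : ∀ t, pr Q (xg t) = El D e u * El D f (t • b) * (El D e u)⁻¹ * (El D f (t • b))⁻¹ :=
      fun t => by simp only [xg, El, map_mul, map_inv]
    rw [h1, h1, map_mul, map_mul, map_mul, map_inv, map_inv, one_smul, hfix u hu, hA]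
  have hL : L = 1 := by
    have h1 := congrArg β (hconj 1)
    rw [map_mul, map_mul, map_inv, hβx, hfix d hdW, hfix _ (hdW.sub (hu.smul _)), hconj L] at h1
    have h2 := El_W_inj D h (hdW.sub (hu.smul L)) (hdW.sub (hu.smul 1)) h1
    exact smul_left_injective F hu0 (sub_right_injective h2)
  have heq : (β.toMonoidHom).eqLocus (MonoidHom.id (POm Q)) = ⊤ :=
    closure_eq_top D h (fun a ha => hfix a ha) fun a ha => by
      show β (El D f a) = El D f a
      rw [S.eq a ha.swap, lin a ha, hL, one_smul]
  refine MulEquiv.ext fun x => ?_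
  exact (heq ▸ Subgroup.mem_top x : x ∈ (β.toMonoidHom).eqLocus (MonoidHom.id (POm Q)))

end CfsgLib.Known.AutPOmega
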