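import Cfsg.Agent.Lib.Known.AutPOmega.Gamma
import Cfsg.Agent.Lib.Classical.Quad.MinusGraphClass

/-!
The field part of an automorphism of `PΩ`.
-/

set_option autoImplicit false
set_option linter.unusedSectionVars false

namespace CfsgLib.Known.AutPOmega

open QuadraticMap (polar polarBilin)
open CfsgLib.Classical.Quad
open scoped Matrix

variable {F : Type*} [Field F] {ι : Type} [Fintype ι] [DecidableEq ι]
  {Q : QuadraticForm F (ι → F)}

/-- `β` is induced by the semisimilarity pair. -/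
structure Ind (Q : QuadraticForm F (ι → F)) (g : GL ι F) (σ : F ≃+* F)
    (β : MulAut (Cfsg.POmega F (⇑Q))) : Prop where
  pair : Cfsg.IsSemisimilarityPair (⇑Q) g σ
  induced : Cfsg.IsInducedBySemilinearPOmega (⇑Q) g σ β

/-- The semisimilarity of a pair. -/
noncomputable def semiOfPair {g : GL ι F} {σ : F ≃+* F}
    (hp : Cfsg.IsSemisimilarityPair (⇑Q) g σ) : Semi Q where
  G :=
    { toFun := fun v => (g : Matrix ι ι F) *ᵥ fun i => σ (v i)
      invFun := fun v => fun i => σ.symm ((((g⁻¹ : GL ι F) : Matrix ι ι F) *ᵥ v) i)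
      left_inv := fun v => by
        funext i
        show σ.symm ((((g⁻¹ : GL ι F) : Matrix ι ι F) *ᵥ ((g : Matrix ι ι F) *ᵥ fun j => σ (v j))) i) = v i
        rw [Matrix.mulVec_mulVec, ← Units.val_mul, inv_mul_cancel, Units.val_one, Matrix.one_mulVec,
          RingEquiv.symm_apply_apply]
      right_inv := fun v => by
        simp only [RingEquiv.apply_symm_apply, Matrix.mulVec_mulVec, ← Units.val_mul,
          mul_inv_cancel, Units.val_one, Matrix.one_mulVec]
      map_add' := fun v w => by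
        rw [← Matrix.mulVec_add]; congr 1; funext i; simp }
  θ := σ
  c := (hp.choose : F)
  c_ne := hp.choose.ne_zero
  semilin := fun t v => by
    show (g : Matrix ι ι F) *ᵥ (fun i => σ ((t • v) i)) = σ t • ((g : Matrix ι ι F) *ᵥ fun i => σ (v i))
    rw [← Matrix.mulVec_smul]; congr 1; funext i; simp
  quad := fun v => hp.choose_spec v

theorem Ind.exists {g : GL ι F} {σ : F ≃+* F} (hp : Cfsg.IsSemisimilarityPair (⇑Q) g σ) :
    ∃ β, Ind Q g σ β := by
  set S := semiOfPair hp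
  set E := pOmegaEquiv Q
  refine ⟨(E.trans S.aut).trans E.symm, hp, fun s s' hs => ?_⟩
  apply E.injective
  show E (E.symm (S.aut (E (QuotientGroup.mk s)))) = E (QuotientGroup.mk s')
  rw [E.apply_symm_apply]
  show S.aut (pr Q (omegaEquiv Q s)) = pr Q (omegaEquiv Q s')
  rw [Semi.aut_pr]
  refine congrArg (pr Q) (ext_ac fun x => ?_)
  obtain ⟨y, rfl⟩ := S.G.surjective x
  rw [Semi.ac_aut, AddEquiv.symm_apply_apply]
  show (g : Matrix ι ι F) *ᵥ (fun i => σ
      (((oEquiv Q (s : ↥(Cfsg.isometryGroup F (⇑Q))) : OQ Q) : (ι → F) ≃ₗ[F] (ι → F)) y i)) =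
    ((oEquiv Q (s' : ↥(Cfsg.isometryGroup F (⇑Q))) : OQ Q) : (ι → F) ≃ₗ[F] (ι → F))
      ((g : Matrix ι ι F) *ᵥ fun i => σ (y i))
  rw [oEquiv_apply, oEquiv_apply, hs, Matrix.mulVec_mulVec, mul_assoc, ← Units.val_mul,
    inv_mul_cancel, Units.val_one, mul_one, ← Matrix.mulVec_mulVec]
  congr 1
  funext i
  exact RingHom.map_mulVec σ.toRingHom _ y i

theorem Ind.unique {g : GL ι F} {σ : F ≃+* F} {β β' : MulAut (Cfsg.POmega F (⇑Q))}
    (h : Ind Q g σ β) (h' : Ind Q g σ β') : β = β' := by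
  refine MulEquiv.ext fun x => ?_
  induction x using QuotientGroup.induction_on with
  | H s =>
    rw [h.induced s ⟨_, semiConj_omega h.pair s⟩ (coe_semiConj h.pair _),
      h'.induced s ⟨_, semiConj_omega h.pair s⟩ (coe_semiConj h.pair _)]

theorem Ind.mul {g h : GL ι F} {σ τ : F ≃+* F} {β₁ β₂ : MulAut (Cfsg.POmega F (⇑Q))}
    (h₁ : Ind Q g σ β₁) (h₂ : Ind Q h τ β₂) :
    Ind Q (g * semiMap σ h) (τ.trans σ) (β₁ * β₂) := by
  refine ⟨semisim_mul h₁.pair h₂.pair, fun s s' hs => ?_⟩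
  rw [MulAut.mul_apply, h₂.induced s ⟨_, semiConj_omega h₂.pair s⟩ (coe_semiConj h₂.pair _)]
  refine h₁.induced _ _ ?_
  rw [hs]
  show _ = (g : Matrix ι ι F) * ((h : Matrix ι ι F) * (((s : ↥(Cfsg.isometryGroup F (⇑Q))) : GL ι F) :
    Matrix ι ι F).map τ * ((h⁻¹ : GL ι F) : Matrix ι ι F)).map σ * ((g⁻¹ : GL ι F) : Matrix ι ι F)
  rw [Matrix.map_mul, Matrix.map_mul, _root_.mul_inv_rev, ← map_inv, Units.val_mul, Units.val_mul,
    coe_semiMap, coe_semiMap, Matrix.map_map]
  simp only [mul_assoc]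
  rfl

theorem ind_one : Ind Q 1 (RingEquiv.refl F) 1 := by
  refine ⟨⟨1, fun v => by simp⟩, fun s s' hs => ?_⟩
  rw [MulAut.one_apply]
  refine congrArg _ (Subtype.ext (Subtype.ext (Units.ext ?_)))
  rw [hs]
  simp

theorem ind_refl_iff (g : GL ι F) (β : MulAut (Cfsg.POmega F (⇑Q))) :
    Ind Q g (RingEquiv.refl F) β ↔ ∃ hg : g ∈ simGrp Q, β = conjAut Q ⟨g, hg⟩ := by
  constructor
  · intro h
    have hg : g ∈ simGrp Q := by
      obtain ⟨c, hc⟩ := h.pair
      exact ⟨c, fun v => hc v⟩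
    exact ⟨hg, (induced_iff ⟨g, hg⟩ β).1 h.induced⟩
  · rintro ⟨hg, rfl⟩
    obtain ⟨c, hc⟩ := hg
    exact ⟨⟨c, fun v => hc v⟩, (induced_iff ⟨g, ⟨c, hc⟩⟩ _).2 rfl⟩

theorem ind_conjAut (g : simGrp Q) : Ind Q (g : GL ι F) (RingEquiv.refl F) (conjAut Q g) :=
  (ind_refl_iff _ _).2 ⟨g.2, rfl⟩

variable [Finite F] (D : Big Q)
include D

theorem seven_le_card : 7 ≤ Fintype.card ι := by
  have := D.seven
  rwa [Module.finrank_pi] at this

/-- The field automorphism of an induced automorphism is determined by it. -/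
theorem sigma_eq_refl {g : GL ι F} {σ : F ≃+* F} (h : Ind Q g σ 1) : σ = RingEquiv.refl F := by
  let f : ↥(Cfsg.Omega F (⇑Q)) →* ↥(Cfsg.Omega F (⇑Q)) :=
    { toFun := fun s => ⟨_, semiConj_omega h.pair s⟩
      map_one' := Subtype.ext (map_one (semiConj h.pair))
      map_mul' := fun a b => Subtype.ext (map_mul (semiConj h.pair) _ _) }
  have hf := hom_eq_id_of_centerQuot (commutator_Omega_top D.nondeg (seven_le_card D)) f fun s => by
    rw [← QuotientGroup.eq]
    exact h.induced s (f s) (coe_semiConj h.pair _)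
  set S := semiOfPair h.pair
  have hcomm : ∀ (x : Om Q) v, S.G (ac x v) = ac x (S.G v) := by
    intro x v
    obtain ⟨s, rfl⟩ := (omegaEquiv Q).surjective x
    show (g : Matrix ι ι F) *ᵥ (fun i => σ
      (((oEquiv Q (s : ↥(Cfsg.isometryGroup F (⇑Q))) : OQ Q) : (ι → F) ≃ₗ[F] (ι → F)) v i)) =
      ((oEquiv Q (s : ↥(Cfsg.isometryGroup F (⇑Q))) : OQ Q) : (ι → F) ≃ₗ[F] (ι → F))
      ((g : Matrix ι ι F) *ᵥ fun i => σ (v i))
    rw [oEquiv_apply, oEquiv_apply]
    conv_rhs => rw [← hf s]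
    show _ = (((semiConj h.pair (s : ↥(Cfsg.isometryGroup F (⇑Q))) : GL ι F)) : Matrix ι ι F) *ᵥ _
    rw [coe_semiConj, Matrix.mulVec_mulVec, mul_assoc, ← Units.val_mul, inv_mul_cancel,
      Units.val_one, mul_one, ← Matrix.mulVec_mulVec]
    congr 1
    funext i
    exact RingHom.map_mulVec σ.toRingHom _ v i
  obtain ⟨e, he0, he⟩ := exists_singular D.nondeg (by have := D.seven; omega)
  obtain ⟨a, -, hp, -, -⟩ := exists_pairs_at D he he0
  obtain ⟨z, hz, hz'⟩ := exists_sep_polar D.nondeg hp.swap.not_mem_left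
  have hze : polar Q z e = 0 := by
    rw [QuadraticMap.polar_comm]; exact hz' e (Submodule.mem_span_singleton_self e)
  have hza : polar Q z a = 1 := by rw [QuadraticMap.polar_comm]; exact hz
  have key : ∀ t : F, σ t • S.G e =
      t • (polar Q (S.G z) a • e + (-polar Q (S.G z) e) • a) := by
    intro t
    have h1 := hcomm (eps D e (t • a)) z
    rw [ac_eps_sing D hp, ac_eps_sing D hp, hze, hza, mul_zero, neg_zero, zero_smul, add_zero,
      mul_one, map_add, S.semilin, add_assoc] at h1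
    rw [show σ t • S.G e = _ from add_left_cancel h1, smul_add, smul_smul, smul_smul, mul_neg]
  have hGe : S.G e ≠ 0 := fun h0 => he0 (S.G.injective (h0.trans (map_zero _).symm))
  refine RingEquiv.ext fun t => ?_
  have h1 := key 1
  rw [map_one, one_smul, one_smul] at h1
  have h2 := key t
  rw [← h1] at h2
  exact smul_left_injective F hGe h2

theorem sigma_unique {g g' : GL ι F} {σ σ' : F ≃+* F} {β : MulAut (Cfsg.POmega F (⇑Q))}
    (h : Ind Q g σ β) (h' : Ind Q g' σ' β) : σ = σ' := by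
  obtain ⟨g₂, σ₂, hp₂, hi₂⟩ := IsSemiInduced.inv ⟨g', σ', h'.pair, h'.induced⟩
  have hi : Ind Q g₂ σ₂ β⁻¹ := ⟨hp₂, hi₂⟩
  have h1 := hi.mul h
  have h2 := hi.mul h'
  rw [inv_mul_cancel] at h1 h2
  have e1 := sigma_eq_refl D h1
  have e2 := sigma_eq_refl D h2
  exact RingEquiv.ext fun x => σ₂.injective
    ((RingEquiv.congr_fun e1 x).trans (RingEquiv.congr_fun e2 x).symm)

/-- The field part, a homomorphism whose kernel is the image of the similarities. -/
theorem exists_field_hom (hT : NoTriality Q) :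
    ∃ Φ : MulAut (Cfsg.POmega F (⇑Q)) →* (F ≃+* F),
      (∀ g σ β, Ind Q g σ β → Φ β = σ) ∧ Φ.ker = Cfsg.pgoAut F (⇑Q) := by
  choose g σ hg hi using exists_induced D hT
  have key : ∀ g' σ' β, Ind Q g' σ' β → σ β = σ' := fun g' σ' β h =>
    sigma_unique D ⟨hg β, hi β⟩ h
  refine ⟨MonoidHom.mk' σ fun a b => key _ _ _
    (Ind.mul (Ind.mk (hg a) (hi a)) (Ind.mk (hg b) (hi b))), key, ?_⟩
  ext β
  rw [pgoAut_eq, MonoidHom.mem_ker]
  constructor
  · intro h
    have h1 : Ind Q (g β) (RingEquiv.refl F) β := by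
      rw [show RingEquiv.refl F = σ β from h.symm]; exact ⟨hg β, hi β⟩
    obtain ⟨hs, e⟩ := (ind_refl_iff _ _).1 h1
    exact ⟨⟨g β, hs⟩, e.symm⟩
  · rintro ⟨x, rfl⟩
    exact key _ _ _ (ind_conjAut x)

theorem center_POmega_eq_bot : Subgroup.center (Cfsg.POmega F (⇑Q)) = ⊥ := by
  have := isSimpleGroup_POmega D.nondeg (seven_le_card D)
  refine ((Subgroup.center (Cfsg.POmega F (⇑Q))).normal_of_characteristic.eq_bot_or_eq_top).resolve_right
    fun htop => ?_
  have hperf : commutator (Cfsg.POmega F (⇑Q)) = ⊤ := by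
    rw [commutator_def, ← Subgroup.map_top_of_surjective _ (QuotientGroup.mk'_surjective
      (Subgroup.center ↥(Cfsg.Omega F (⇑Q)))), ← Subgroup.map_commutator, ← commutator_def,
      commutator_Omega_top D.nondeg (seven_le_card D)]
  have hb : commutator (Cfsg.POmega F (⇑Q)) = ⊥ := by
    rw [commutator_def, Subgroup.commutator_eq_bot_iff_le_centralizer, Subgroup.coe_top,
      Subgroup.centralizer_univ, htop]
  exact top_ne_bot (hperf ▸ hb)

theorem card_Inn : Nat.card (Cfsg.Inn (Cfsg.POmega F (⇑Q))) = Nat.card (Cfsg.POmega F (⇑Q)) := by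
  refine (Nat.card_congr (MonoidHom.ofInjective (f := MulAut.conj) ?_).toEquiv).symm
  rw [← MonoidHom.ker_eq_bot_iff, eq_bot_iff, ← center_POmega_eq_bot D]
  intro x hx
  refine Subgroup.mem_center_iff.2 fun y => ?_
  have := DFunLike.congr_fun (MonoidHom.mem_ker.1 hx) y
  rw [MulAut.conj_apply, MulAut.one_apply, mul_inv_eq_iff_eq_mul] at this
  exact this.symm

end CfsgLib.Known.AutPOmega
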