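import Cfsg.Agent.Lib.Known.AutPOmega.Fix

/-!
Every automorphism of `PΩ` is induced by a semisimilarity, except in dimension eight with Witt
index four.
-/

set_option autoImplicit false
set_option linter.unusedSectionVars false

namespace CfsgLib.Known.AutPOmega

open QuadraticMap (polar polarBilin)
open CfsgLib.Classical.Quad

variable {F : Type*} [Field F] {V : Type*} [AddCommGroup V] [Module F V] {Q : QuadraticForm F V}
  [FiniteDimensional F V] [Finite F] (D : Big Q)
include D

theorem img_mul (α β : MulAut (POm Q)) (A : Set (POm Q)) : img (α * β) A = img α (img β A) := by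
  rw [img, img, img, Set.image_image]
  rfl

theorem img_star_mul {α β : MulAut (POm Q)} {S S' S'' : Set (Set (POm Q))} (h : img β '' S = S')
    (h' : img α '' S' = S'') : img (α * β) '' S = S'' := by
  rw [← h', ← h, Set.image_image]
  exact Set.image_congr fun A _ => img_mul D α β A

theorem img_star_inv {α : MulAut (POm Q)} {S S' : Set (Set (POm Q))} (h : img α '' S = S') :
    img α⁻¹ '' S' = S := by
  rw [← h, Set.image_image]
  exact (Set.image_congr fun A _ => img_inv_img α A).trans (Set.image_id S)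

theorem semi_star (S : Semi Q) {p p' : V} (hp' : p' ≠ 0) {r : F} (hr : r ≠ 0)
    (hG : S.c⁻¹ • S.G p = r • p') : img S.aut '' Star D p = Star D p' := by
  have hsub : ∀ v, Pair Q p v → ∃ v', Pair Q p' v' ∧ img S.aut (X D p v) = X D p' v' := by
    intro v hv
    have hq : Q p' = 0 := by
      have h1 : Q (S.c⁻¹ • S.G p) = 0 := by rw [apply_smul, S.quad, hv.qu]; simp
      rw [hG, apply_smul] at h1
      exact (mul_eq_zero.1 h1).resolve_left (mul_ne_zero hr hr)
    have hperp : polar Q p' (S.G v) = 0 := by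
      have h1 : polar Q (S.c⁻¹ • S.G p) (S.G v) = 0 := by
        rw [polar_smul_left', S.polar_G, hv.uv]; simp
      rw [hG, polar_smul_left'] at h1
      exact (mul_eq_zero.1 h1).resolve_left hr
    have hpair : Pair Q p' (S.G v) := by
      refine ⟨hq, by rw [S.quad, hv.qv]; simp, hperp, ?_⟩
      rw [LinearIndependent.pair_iff' hp']
      intro k hk
      have h2 : S.G v = (k / r * S.c⁻¹) • S.G p := by
        rw [mul_smul, hG, smul_smul, div_mul_cancel₀ _ hr, hk]
      have h3 : v = S.θ.symm (k / r * S.c⁻¹) • p := S.G.injective (by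
        rw [h2, S.semilin, RingEquiv.apply_symm_apply])
      exact absurd (Submodule.mem_span_singleton.2 ⟨_, h3.symm⟩) hv.swap.not_mem_left
    refine ⟨S.G v, hpair, ?_⟩
    rw [img, X, X, ← Set.range_comp]
    have key : ∀ t, S.aut (El D p (t • v)) = El D p' ((r * S.θ t) • S.G v) := fun t => by
      rw [S.aut_El D hv.qu (by rw [polar_smul_right', hv.uv, mul_zero]), hG, S.semilin,
        El_scale D hq (by rw [polar_smul_right', hperp, mul_zero]), smul_smul]
    ext x
    constructor
    · rintro ⟨t, rfl⟩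
      exact ⟨r * S.θ t, (key t).symm⟩
    · rintro ⟨s, rfl⟩
      refine ⟨S.θ.symm (s / r), ?_⟩
      show S.aut (El D p (S.θ.symm (s / r) • v)) = El D p' (s • S.G v)
      rw [key, RingEquiv.apply_symm_apply, mul_div_cancel₀ _ hr]
  ext A
  constructor
  · rintro ⟨_, ⟨v, hv, rfl⟩, rfl⟩
    exact hsub v hv
  · rintro ⟨w, hw, rfl⟩
    obtain ⟨v, hv⟩ := S.G.surjective w
    have hGp : S.G p = (S.c * r) • p' := by
      rw [mul_smul, ← hG, smul_inv_smul₀ S.c_ne]
    have hcr : S.c * r ≠ 0 := mul_ne_zero S.c_ne hr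
    have hp : Pair Q p v := by
      refine ⟨?_, ?_, ?_, LinearIndependent.pair_iff.2 fun a b hab => ?_⟩
      · refine S.θ.injective (mul_left_cancel₀ S.c_ne ?_)
        rw [← S.quad, hGp, apply_smul, hw.qu]; simp
      · refine S.θ.injective (mul_left_cancel₀ S.c_ne ?_)
        rw [← S.quad, hv, hw.qv]; simp
      · refine S.θ.injective (mul_left_cancel₀ S.c_ne ?_)
        rw [← S.polar_G, hGp, hv, polar_smul_left', hw.uv]; simp
      · have h1 := congrArg S.G hab
        rw [map_add, S.semilin, S.semilin, hGp, hv, smul_smul, map_zero] at h1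
        obtain ⟨h2, h3⟩ := LinearIndependent.pair_iff.1 hw.li _ _ h1
        exact ⟨(map_eq_zero _).1 ((mul_eq_zero.1 h2).resolve_right hcr), (map_eq_zero _).1 h3⟩
    obtain ⟨v', hv', e⟩ := hsub v hp
    refine ⟨_, ⟨v, hp, rfl⟩, ?_⟩
    rw [img, X, X, ← Set.range_comp]
    ext x
    constructor
    · rintro ⟨t, rfl⟩
      refine ⟨r * S.θ t, ?_⟩
      show El D p' ((r * S.θ t) • w) = S.aut (El D p (t • v))
      rw [S.aut_El D hp.qu (by rw [polar_smul_right', hp.uv, mul_zero]), hG, S.semilin, hv,
        El_scale D hw.qu (by rw [polar_smul_right', hw.uv, mul_zero]), smul_smul]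
    · rintro ⟨s, rfl⟩
      refine ⟨S.θ.symm (s / r), ?_⟩
      show S.aut (El D p (S.θ.symm (s / r) • v)) = El D p' (s • w)
      rw [S.aut_El D hp.qu (by rw [polar_smul_right', hp.uv, mul_zero]), hG, S.semilin, hv,
        El_scale D hw.qu (by rw [polar_smul_right', hw.uv, mul_zero]), smul_smul,
        RingEquiv.apply_symm_apply, mul_div_cancel₀ _ hr]

variable [Finite (POm Q)]

/-- An automorphism permuting the pencils is induced by a semisimilarity. -/
theorem exists_semi_of_star (β : MulAut (POm Q))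
    (hstar : ∀ {p : V}, Q p = 0 → p ≠ 0 → ∃ p', Q p' = 0 ∧ p' ≠ 0 ∧ img β '' Star D p = Star D p') :
    ∃ S : Semi Q, β = S.aut := by
  obtain ⟨e, he0, hqe⟩ := exists_singular D.nondeg (by have := D.seven; omega)
  obtain ⟨f, hqf, hef⟩ := exists_partner_of_singular D.nondeg hqe he0
  have h : Hyp Q e f := ⟨hqe, hqf, hef⟩
  have hf0 := h.swap.ne_zero
  obtain ⟨e', hqe', he'0, hse⟩ := hstar hqe he0
  obtain ⟨f', hqf', hf'0, hsf⟩ := hstar hqf hf0
  -- the images are not orthogonal
  have hef' : polar Q e' f' ≠ 0 := by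
    intro h0
    have common : ∃ A, A ∈ Star D e' ∧ A ∈ Star D f' := by
      by_cases hm : f' ∈ Submodule.span F {e'}
      · obtain ⟨t, rfl⟩ := Submodule.mem_span_singleton.1 hm
        obtain ⟨a, -, hp, -, -⟩ := exists_pairs_at D hqe' he'0
        have hmem : t • e' ∈ line F e' a := Submodule.smul_mem _ t (left_mem_line e' a)
        have hli : LinearIndependent F ![t • e', a] := by
          have ht : t ≠ 0 := fun ht => hf'0 (by rw [ht, zero_smul])
          refine li_of_spans hp.li (mem_line.2 ⟨t⁻¹, 0, ?_⟩) (right_mem_line _ _)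
          rw [inv_smul_smul₀ ht, zero_smul, add_zero]
        exact ⟨_, ⟨a, hp, rfl⟩, a, hp.change hmem (right_mem_line _ _) hli,
          (X_change D hp hmem (right_mem_line _ _) hli).symm⟩
      · have hp : Pair Q e' f' := ⟨hqe', hqf', h0, (LinearIndependent.pair_iff' he'0).2 fun r hr =>
          hm (Submodule.mem_span_singleton.2 ⟨r, hr⟩)⟩
        exact ⟨_, ⟨f', hp, rfl⟩, e', hp.swap, (X_swap D hp).symm⟩
    obtain ⟨A, hA, hA'⟩ := common
    rw [← hse] at hA
    rw [← hsf] at hA'
    obtain ⟨B, hB, rfl⟩ := hA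
    obtain ⟨B', hB', eB⟩ := hA'
    obtain rfl := img_injective β eB
    obtain ⟨v, hv, hqv, -, hpv, e1⟩ := mem_star_W D h hB
    obtain ⟨v', hv', hqv', -, hpv', e2⟩ := mem_star_W D h.swap hB'
    have hl := line_of_X_eq D hpv hpv' (e1.symm.trans e2)
    have hm : e ∈ line F f v' := hl ▸ left_mem_line e v
    have h1 := hpv'.perp hm (left_mem_line f v')
    rw [hef] at h1
    exact one_ne_zero h1
  set f'' := (polar Q e' f')⁻¹ • f' with hf''
  have h'' : Hyp Q e' f'' := ⟨hqe', by rw [hf'', apply_smul, hqf', mul_zero],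
    by rw [hf'', polar_smul_right', inv_mul_cancel₀ hef']⟩
  -- an isometry taking `(e, f)` to `(e', f'')`
  obtain ⟨g, -, hg⟩ := exists_move_pair D.nondeg D.five hqe hqf hef hqe' h''.ff h''.ef
  set T := Semi.ofIso g
  have hTe : img T.aut '' Star D e = Star D e' := semi_star D T he'0 one_ne_zero (by
    show (1 : F)⁻¹ • (g : V ≃ₗ[F] V) e = _
    rw [inv_one, hg.1])
  have hTf : img T.aut '' Star D f = Star D f' := semi_star D T hf'0 (inv_ne_zero hef') (by
    show (1 : F)⁻¹ • (g : V ≃ₗ[F] V) f = _
    rw [inv_one, one_smul, hg.2])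
  set β₁ := T.aut⁻¹ * β
  have h1e : img β₁ '' Star D e = Star D e := img_star_mul D hse (img_star_inv D hTe)
  have h1f : img β₁ '' Star D f = Star D f := img_star_mul D hsf (img_star_inv D hTf)
  obtain ⟨A, SA⟩ := exists_side D h h1e
  obtain ⟨θ, c, hc, hlin, hquad⟩ := SA.exists_semilinear D
  set G₀ : V → V := fun z => θ (polar Q f z) • (c • e) + θ (polar Q e z) • f + A (prW Q e f z)
  have hpr : ∀ x y, prW Q e f (x + y) = prW Q e f x + prW Q e f y := fun x y => by
    simp only [prW, polar_add_right']; module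
  have hprs : ∀ (t : F) x, prW Q e f (t • x) = t • prW Q e f x := fun t x => by
    simp only [prW, polar_smul_right']; module
  have hadd : ∀ x y, G₀ (x + y) = G₀ x + G₀ y := fun x y => by
    simp only [G₀, hpr, SA.add D (prW_inW h x) (prW_inW h y), polar_add_right', map_add]; module
  have hsm : ∀ (t : F) x, G₀ (t • x) = θ t • G₀ x := fun t x => by
    simp only [G₀, hprs, hlin t _ (prW_inW h x), polar_smul_right', map_mul]; module
  have hQ : ∀ z, Q (G₀ z) = c * θ (Q z) := fun z => by
    have hA := SA.mem _ (prW_inW h z)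
    conv_rhs => rw [prW_decomp (Q := Q) (e := e) (f := f) z]
    simp only [G₀, apply_add, apply_smul, polar_add_left', polar_smul_left', polar_smul_right',
      h.ee, h.ff, h.ef, hA.left, hA.right, (prW_inW h z).left, (prW_inW h z).right,
      hquad _ (prW_inW h z), map_add, map_mul, mul_zero, add_zero, zero_add, mul_one]
    ring
  have hinj : Function.Injective G₀ := by
    intro x y hxy
    rw [← sub_eq_zero]
    refine eq_zero_of_perp D fun z => ?_
    have h0 : G₀ (x - y) = 0 := by
      have := hadd (x - y) y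
      rw [sub_add_cancel, hxy] at this
      exact left_eq_add.1 (by rw [add_comm]; exact this)
    have h2 : c * θ (polar Q (x - y) z) = 0 := by
      have e3 := hQ (x - y + z)
      rw [hadd, h0, zero_add, hQ, apply_add, map_add, map_add] at e3
      have e4 := hQ (x - y)
      rw [h0, QuadraticMap.map_zero] at e4
      linear_combination -e3 + e4
    exact (map_eq_zero θ).1 ((mul_eq_zero.1 h2).resolve_left hc)
  have : Finite V := Module.finite_of_finite F
  let Gh : V →+ V := AddMonoidHom.mk' G₀ hadd
  let S : Semi Q :=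
    { G := AddEquiv.ofBijective Gh ⟨hinj, Finite.injective_iff_surjective.1 hinj⟩
      θ := θ, c := c, c_ne := hc, semilin := hsm, quad := hQ }
  have hSe : S.c⁻¹ • S.G e = e := by
    show c⁻¹ • G₀ e = e
    have : prW Q e f e = 0 := by simp [prW, h.fe, polar_self', h.ee]
    simp only [G₀, this, SA.zero D, h.fe, polar_self', h.ee, map_one, mul_zero, map_zero, zero_smul,
      add_zero, one_smul, inv_smul_smul₀ hc]
  have hSf : S.c⁻¹ • S.G f = c⁻¹ • f := by
    show c⁻¹ • G₀ f = c⁻¹ • f
    have : prW Q e f f = 0 := by simp [prW, h.ef, polar_self', h.ff]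
    simp only [G₀, this, SA.zero D, h.ef, polar_self', h.ff, map_one, mul_zero, map_zero, zero_smul,
      add_zero, zero_add, one_smul]
  have hSW : ∀ a, InW Q e f a → S.G a = A a := fun a ha => by
    show G₀ a = A a
    have : prW Q e f a = a := by simp [prW, ha.left, ha.right]
    simp only [G₀, this, ha.left, ha.right, map_zero, zero_smul, zero_add]
  set β₂ := S.aut⁻¹ * β₁
  have hfix : ∀ a, InW Q e f a → β₂ (El D e a) = El D e a := by
    intro a ha
    show S.aut⁻¹ (β₁ (El D e a)) = _
    rw [SA.eq a ha]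
    have h2 := S.aut_El D h.ee ha.left
    rw [hSe, hSW a ha] at h2
    rw [← h2]
    exact S.aut.symm_apply_apply _
  have h2f : img β₂ '' Star D f = Star D f :=
    img_star_mul D h1f (img_star_inv D (semi_star D S hf0 (inv_ne_zero hc) hSf))
  have hone := eq_one_of_fix D h hfix h2f
  refine ⟨T.comp S, ?_⟩
  have hS1 : S.aut = β₁ := inv_mul_eq_one.1 hone
  rw [Semi.aut_comp, hS1, mul_inv_cancel_left]

/-- Every automorphism is induced by a semisimilarity. -/
theorem exists_semi (hT : NoTriality Q) (β : MulAut (POm Q)) : ∃ S : Semi Q, β = S.aut :=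
  exists_semi_of_star D β (star_image D hT β)

end CfsgLib.Known.AutPOmega
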