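import Cfsg.Agent.Lib.Known.AutPOmega.Counts

/-!
Group theory for the structure of the outer automorphism groups of `PΩ`.
-/

set_option autoImplicit false
set_option linter.unusedSectionVars false

namespace CfsgLib.Known.AutPOmega

variable {G C : Type*} [Group G] [Group C]

/-- A central section splits a group as a direct product. -/
theorem iso_prod (π : G →* C) (N : Subgroup G) (hk : π.ker = N) (s : C →* G)
    (hs : ∀ c, π (s c) = c) (hc : ∀ n ∈ N, ∀ c, Commute n (s c)) :
    Nonempty (G ≃* N × C) := by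
  refine ⟨(MulEquiv.ofBijective (MonoidHom.noncommCoprod N.subtype s fun n c => hc _ n.2 c)
    ⟨?_, fun g => ?_⟩).symm⟩
  · rintro ⟨⟨a, ha⟩, c⟩ ⟨⟨b, hb⟩, d⟩ h
    change a * s c = b * s d at h
    have hcd : c = d := by
      have h1 := congrArg π h
      rw [← hk, MonoidHom.mem_ker] at ha hb
      rw [map_mul, map_mul, ha, hb, one_mul, one_mul, hs, hs] at h1
      exact h1
    subst hcd
    exact Prod.ext (Subtype.ext (mul_right_cancel h)) rfl
  · refine ⟨(⟨g * (s (π g))⁻¹, ?_⟩, π g), ?_⟩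
    · rw [← hk, MonoidHom.mem_ker, map_mul, map_inv, hs, mul_inv_cancel]
    · show g * (s (π g))⁻¹ * s (π g) = g
      rw [inv_mul_cancel_right]

/-- The homomorphism from a cyclic group given by an element of suitable order. -/
def homOfPow (n : ℕ) (x : G) (h : x ^ n = 1) : Multiplicative (ZMod n) →* G :=
  AddMonoidHom.toMultiplicativeLeft (ZMod.lift n ⟨zmultiplesHom (Additive G) (Additive.ofMul x), by
    simp only [zmultiplesHom_apply, natCast_zsmul, ← ofMul_pow, h, ofMul_one]⟩)

theorem homOfPow_apply (n : ℕ) (x : G) (h : x ^ n = 1) (i : ℤ) :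
    homOfPow n x h (Multiplicative.ofAdd (i : ZMod n)) = x ^ i := by
  simp only [homOfPow, AddMonoidHom.toMultiplicativeLeft_apply_apply, toAdd_ofAdd, ZMod.lift_coe,
    zmultiplesHom_apply, ← ofMul_zpow, toMul_ofMul]

/-- A commuting involution and an element of order dividing `2 f` generating a group of order
`4 f`. -/
theorem iso_two_cyclic [Finite G] {f : ℕ} (hf : 1 ≤ f) (hcard : Nat.card G = 4 * f) (d y : G)
    (hd : d ^ 2 = 1) (hy : y ^ (2 * f) = 1) (hdy : Commute d y)
    (hgen : ∀ g : G, ∃ i j : ℤ, g = d ^ i * y ^ j) :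
    Nonempty (G ≃* Multiplicative (ZMod 2 × ZMod (2 * f))) := by
  haveI : NeZero (2 * f) := ⟨by omega⟩
  set φ : Multiplicative (ZMod 2) × Multiplicative (ZMod (2 * f)) →* G :=
    MonoidHom.noncommCoprod (homOfPow 2 d hd) (homOfPow (2 * f) y hy) (fun a b => by
      obtain ⟨i, hi⟩ := ZMod.intCast_surjective (Multiplicative.toAdd a)
      obtain ⟨j, hj⟩ := ZMod.intCast_surjective (Multiplicative.toAdd b)
      rw [show a = Multiplicative.ofAdd (i : ZMod 2) by rw [hi]; rfl,
        show b = Multiplicative.ofAdd (j : ZMod (2 * f)) by rw [hj]; rfl, homOfPow_apply,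
        homOfPow_apply]
      exact hdy.zpow_zpow i j)
  have hs : Function.Surjective φ := fun g => by
    obtain ⟨i, j, rfl⟩ := hgen g
    exact ⟨(Multiplicative.ofAdd (i : ZMod 2), Multiplicative.ofAdd (j : ZMod (2 * f))), by
      rw [MonoidHom.noncommCoprod_apply, homOfPow_apply, homOfPow_apply]⟩
  have hb : Function.Bijective φ := (Nat.bijective_iff_surjective_and_card φ).2 ⟨hs, by
    rw [Nat.card_prod, Nat.card_congr Multiplicative.toAdd, Nat.card_congr Multiplicative.toAdd,
      Nat.card_zmod, Nat.card_zmod, hcard]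
    ring⟩
  exact ⟨(MulEquiv.ofBijective φ hb).symm.trans (MulEquiv.prodMultiplicative _ _).symm⟩

theorem iso_zmod [Finite G] (h : IsCyclic G) {n : ℕ} (hn : Nat.card G = n) :
    Nonempty (G ≃* Multiplicative (ZMod n)) := by
  subst hn
  exact ⟨(zmodCyclicMulEquiv h).symm⟩

open CfsgLib.Classical.Quad

variable {F : Type*} [Field F] [Finite F] {ι : Type} [Fintype ι] [DecidableEq ι]
  {Q : QuadraticForm F (ι → F)}

/-- The field part on the outer automorphism group. -/
theorem exists_out_field (D : Big Q) {Φ : MulAut (Cfsg.POmega F (⇑Q)) →* (F ≃+* F)}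
    (hs : Function.Surjective Φ) (hk : Φ.ker = Cfsg.pgoAut F (⇑Q)) {k : ℕ}
    (hcard : Nat.card ↥(Cfsg.pgoAut F (⇑Q)) = k * Nat.card (Cfsg.POmega F (⇑Q))) :
    ∃ π : Cfsg.Out (Cfsg.POmega F (⇑Q)) →* (F ≃+* F), (∀ β, π (QuotientGroup.mk β) = Φ β) ∧
      π.ker = (Cfsg.pgoAut F (⇑Q)).map (QuotientGroup.mk' _) ∧
      Nat.card (Cfsg.Out (Cfsg.POmega F (⇑Q))) = Nat.card (F ≃+* F) * k ∧
      Nat.card π.ker = k := by
  set P := Cfsg.POmega F (⇑Q)
  refine ⟨QuotientGroup.lift _ Φ (by rw [hk]; exact inn_le_pgo), fun β => rfl, ?_, ?_⟩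
  · rw [QuotientGroup.ker_lift, hk]
  have := finite_pOmega (Q := Q)
  have hP : 0 < Nat.card P := Nat.card_pos
  have hFinAut : Finite (MulAut P) := Finite.of_injective (fun e : MulAut P => (e : P → P))
    DFunLike.coe_injective
  have hOut : Nat.card (Cfsg.Out P) = Nat.card (F ≃+* F) * k := by
    refine Nat.eq_of_mul_eq_mul_right hP ?_
    rw [mul_assoc, ← hcard, ← card_aut hs hk]
    conv_rhs => rw [Subgroup.card_eq_card_quotient_mul_card_subgroup (Cfsg.Inn P), card_Inn D]
  refine ⟨hOut, ?_⟩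
  set π := QuotientGroup.lift (Cfsg.Inn P) Φ (by rw [hk]; exact inn_le_pgo)
  have hπs : Function.Surjective π := fun c => by
    obtain ⟨β, hβ⟩ := hs c
    exact ⟨QuotientGroup.mk β, hβ⟩
  rw [Subgroup.card_eq_card_quotient_mul_card_subgroup π.ker,
    Nat.card_congr (QuotientGroup.quotientKerEquivOfSurjective π hπs).toEquiv] at hOut
  have hFF : Finite (F ≃+* F) := Finite.of_injective (fun e : F ≃+* F => (e : F → F))
    DFunLike.coe_injective
  exact Nat.eq_of_mul_eq_mul_left Nat.card_pos hOut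

end CfsgLib.Known.AutPOmega
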