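import Cfsg.Agent.Lib.Known.AutPOmega.Gamma

/-!
Pairs of commuting non-adjacent root groups, and automorphisms that agree on each such pair with
an inner automorphism: these permute the pencils, so that they come from semisimilarities.
-/

set_option autoImplicit false
set_option linter.unusedSectionVars false

namespace CfsgLib.Known.AutPOmega

open QuadraticMap (polar polarBilin)
open CfsgLib.Classical.Quad

variable {F : Type*} [Field F] {V : Type*} [AddCommGroup V] [Module F V] {Q : QuadraticForm F V}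
  [FiniteDimensional F V]

/-- Witt's theorem for two tuples with the same Gram data. -/
theorem exists_iso_tuple (hQ : (polarBilin Q).Nondegenerate) {n : ℕ} (v w : Fin n → V)
    (hv : LinearIndependent F v) (hw : LinearIndependent F w) (hq : ∀ i, Q (v i) = Q (w i))
    (hp : ∀ i j, polar Q (v i) (v j) = polar Q (w i) (w j)) :
    ∃ g : OQ Q, ∀ i, (g : V ≃ₗ[F] V) (v i) = w i := by
  classical
  set Lv := Fintype.linearCombination F v with hLv
  set Lw := Fintype.linearCombination F w with hLw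
  have hiv : Function.Injective Lv := LinearIndependent.fintypeLinearCombination_injective hv
  have hiw : Function.Injective Lw := LinearIndependent.fintypeLinearCombination_injective hw
  have hsv : ∀ i, Lv (Pi.single i 1) = v i := fun i => by
    simp [hLv, Fintype.linearCombination_apply_single]
  have hsw : ∀ i, Lw (Pi.single i 1) = w i := fun i => by
    simp [hLw, Fintype.linearCombination_apply_single]
  have hzero : ∀ c, Q (Lv c) = Q (Lw c) := by
    intro c
    rw [show c = ∑ i, c i • Pi.single i (1 : F) from pi_eq_sum_univ' c]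
    have key : ∀ s : Finset (Fin n), Q (Lv (∑ i ∈ s, c i • Pi.single i (1 : F))) =
        Q (Lw (∑ i ∈ s, c i • Pi.single i (1 : F))) ∧
        ∀ j, polar Q (v j) (Lv (∑ i ∈ s, c i • Pi.single i (1 : F))) =
          polar Q (w j) (Lw (∑ i ∈ s, c i • Pi.single i (1 : F))) := by
      intro s
      induction s using Finset.induction_on with
      | empty => simp
      | insert i s hi ih =>
        refine ⟨?_, fun j => ?_⟩
        · rw [Finset.sum_insert hi, map_add Lv, map_add Lw, map_smul Lv, map_smul Lw, hsv, hsw, apply_add,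
            apply_add, ih.1, polar_smul_left', polar_smul_left', ih.2, apply_smul, apply_smul, hq]
        · rw [Finset.sum_insert hi, map_add Lv, map_add Lw, map_smul Lv, map_smul Lw, hsv, hsw, polar_add_right',
            polar_add_right', ih.2, polar_smul_right', polar_smul_right', hp]
    exact (key Finset.univ).1
  obtain ⟨g, hg⟩ := witt hQ (LinearMap.range Lv)
    (Lw.comp (LinearEquiv.ofInjective Lv hiv).symm.toLinearMap)
    (hiw.comp (LinearEquiv.ofInjective Lv hiv).symm.injective) (by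
      rintro ⟨_, c, rfl⟩
      show Q (Lw ((LinearEquiv.ofInjective Lv hiv).symm _)) = Q (Lv c)
      rw [show (LinearEquiv.ofInjective Lv hiv).symm ⟨Lv c, c, rfl⟩ = c from
        (LinearEquiv.ofInjective Lv hiv).symm_apply_apply c, hzero])
  refine ⟨g, fun i => ?_⟩
  have h := hg ⟨Lv (Pi.single i 1), _, rfl⟩
  show (g : V ≃ₗ[F] V) (v i) = w i
  rw [← hsv i, ← hsw i]
  exact h.trans (congrArg Lw ((LinearEquiv.ofInjective Lv hiv).symm_apply_apply (Pi.single i 1)))

variable [Finite F] (D : Big Q)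
include D

/-- The two root groups have lines with a common point. -/
def MeetP (A B : Set (POm Q)) : Prop :=
  ∃ w a b, Pair Q w a ∧ Pair Q w b ∧ A = X D w a ∧ B = X D w b

/-- The root groups whose lines meet two given ones. -/
def StarP (L M : Set (POm Q)) : Set (Set (POm Q)) := {N | MeetP D N L ∧ MeetP D N M}

theorem meetP_of_common {u v x y w : V} (h : Pair Q u v) (h' : Pair Q x y) (hw0 : w ≠ 0)
    (hw : w ∈ line F u v) (hw' : w ∈ line F x y) : MeetP D (X D u v) (X D x y) := by
  obtain ⟨a, ha, ea⟩ := exists_through D h hw0 hw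
  obtain ⟨b, hb, eb⟩ := exists_through D h' hw0 hw'
  exact ⟨w, a, b, ha, hb, ea, eb⟩

theorem starP_point {p a b : V} (hpa : Pair Q p a) (hpb : Pair Q p b) (hab : polar Q a b ≠ 0) :
    StarP D (X D p a) (X D p b) = Star D p := by
  ext N
  constructor
  · rintro ⟨⟨w, c, a', hwc, hwa', rfl, e1⟩, w', c', b', hwc', hwb', e, e2⟩
    have hwL : w ∈ line F p a := (line_of_X_eq D hpa hwa' e1).symm ▸ left_mem_line w a'
    have hwM : w' ∈ line F p b := (line_of_X_eq D hpb hwb' e2).symm ▸ left_mem_line w' b'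
    have hwN : w' ∈ line F w c := (line_of_X_eq D hwc hwc' e).symm ▸ left_mem_line w' c'
    obtain ⟨k, hk, e'⟩ := exists_through D hwc hpa.ne_zero_left
      (through_point D hpa hpb hab hwc hwc.ne_zero_left (left_mem_line w c) hwL hwc'.ne_zero_left
        hwN hwM)
    exact ⟨k, hk, e'⟩
  · rintro ⟨k, hk, rfl⟩
    exact ⟨⟨p, k, a, hk, hpa, rfl, rfl⟩, p, k, b, hk, hpb, rfl, rfl⟩

/-- Two root groups that are distinct, commute and are not adjacent. -/
def Opp (A B : Set (POm Q)) : Prop :=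
  IsX D A ∧ IsX D B ∧ A ≠ B ∧ CommS A B ∧ ¬ AdjS D A B

theorem opp_cases {A B : Set (POm Q)} (h : Opp D A B) :
    (∃ w a b, Pair Q w a ∧ Pair Q w b ∧ polar Q a b = 1 ∧ A = X D w a ∧ B = X D w b) ∨
    ∃ u v x y, Pair Q u v ∧ Pair Q x y ∧ LinearIndependent F ![u, v, x, y] ∧
      (polar Q x u = 0 ∧ polar Q x v = 0 ∧ polar Q y u = 0 ∧ polar Q y v = 0) ∧
      A = X D u v ∧ B = X D x y := by
  obtain ⟨⟨u, v, huv, rfl⟩, ⟨x, y, hxy, rfl⟩, hne, hc, hna⟩ := h
  by_cases ha : Apart (F := F) u v x y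
  · refine Or.inr ⟨u, v, x, y, huv, hxy, ?_, perp_of_comm D huv hxy ha hc, rfl, rfl⟩
    rw [Fintype.linearIndependent_iff]
    intro c hc0
    simp only [Fin.sum_univ_four, Matrix.cons_val_zero, Matrix.cons_val_one, Matrix.cons_val] at hc0
    have h0 : c 0 • u + c 1 • v = 0 := ha _ (mem_line.2 ⟨_, _, rfl⟩)
      (mem_line.2 ⟨-c 2, -c 3, by linear_combination (norm := module) hc0⟩)
    obtain ⟨h1, h2⟩ := LinearIndependent.pair_iff.1 huv.li _ _ h0
    obtain ⟨h3, h4⟩ := LinearIndependent.pair_iff.1 hxy.li (c 2) (c 3)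
      (by linear_combination (norm := module) hc0 - h0)
    intro i
    fin_cases i <;> assumption
  · obtain ⟨w, a, b, hwa, hwb, ea, eb⟩ := common_point D huv hxy ha
    rw [ea, eb] at hne hna
    have hab : polar Q a b ≠ 0 := fun h0 => hna (adj_point D hwa hwb h0 hne)
    have hli : LinearIndependent F ![w, (polar Q a b)⁻¹ • b] :=
      li_of_spans hwb.li (left_mem_line _ _)
        (mem_line.2 ⟨0, polar Q a b, by rw [zero_smul, zero_add, smul_inv_smul₀ hab]⟩)
    have hm : (polar Q a b)⁻¹ • b ∈ line F w b := Submodule.smul_mem _ _ (right_mem_line w b)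
    refine Or.inl ⟨w, a, _, hwa, hwb.change (left_mem_line w b) hm hli, ?_, ea, ?_⟩
    · rw [polar_smul_right', inv_mul_cancel₀ hab]
    · rw [eb]; exact (X_change D hwb (left_mem_line w b) hm hli).symm

/-- The automorphism agrees with an element of `N` on every opposite pair. -/
def Agree (N : Subgroup (MulAut (POm Q))) (δ : MulAut (POm Q)) : Prop :=
  ∀ A B, Opp D A B → ∃ ω ∈ N, img δ A = img ω A ∧ img δ B = img ω B

theorem img_conj_inner (g : Om Q) {u v : V} (h : Pair Q u v) :
    img (MulAut.conj (pr Q g)) (X D u v) = X D (ac g u) (ac g v) := conj_X D g h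

variable [Finite (POm Q)]

theorem opp_img (β : MulAut (POm Q)) {A B : Set (POm Q)} :
    Opp D (img β A) (img β B) ↔ Opp D A B := by
  unfold Opp
  rw [isX_img, isX_img, (img_injective β).ne_iff, comm_img, adj_img]

theorem agree_conj {N : Subgroup (MulAut (POm Q))} [N.Normal] {δ : MulAut (POm Q)}
    (h : Agree D N δ) (α : MulAut (POm Q)) : Agree D N (α * δ * α⁻¹) := by
  intro A B hAB
  obtain ⟨ω, hω, eA, eB⟩ := h _ _ ((opp_img D α⁻¹).2 hAB)
  refine ⟨α * ω * α⁻¹, Subgroup.Normal.conj_mem inferInstance ω hω α, ?_, ?_⟩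
  · simp only [img_mul D, eA]
  · simp only [img_mul D, eB]

theorem meetP_img_of_agree {β : MulAut (POm Q)} (h : Agree D (Cfsg.Inn (POm Q)) β)
    {A B : Set (POm Q)} (hm : MeetP D A B) : MeetP D (img β A) (img β B) := by
  obtain ⟨w, a, b, hwa, hwb, rfl, rfl⟩ := hm
  by_cases heq : X D w a = X D w b
  · obtain ⟨u, v, huv, e⟩ := X_image D β hwa
    refine ⟨u, v, v, huv, huv, e, ?_⟩
    rw [← heq]; exact e
  by_cases hadj : AdjS D (X D w a) (X D w b)
  · obtain ⟨u, v, huv, e⟩ := X_image D β hwa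
    obtain ⟨x, y, hxy, e'⟩ := X_image D β hwb
    have h1 := (adj_img D β _ _).2 hadj
    change img β (X D w a) = _ at e
    change img β (X D w b) = _ at e'
    rw [e, e'] at h1 ⊢
    obtain ⟨z, hz0, hz, hz'⟩ := adj_common D huv hxy h1
    exact meetP_of_common D huv hxy hz0 hz hz'
  · obtain ⟨ω, ⟨c, rfl⟩, eA, eB⟩ :=
      h _ _ ⟨⟨w, a, hwa, rfl⟩, ⟨w, b, hwb, rfl⟩, heq, comm_point D hwa hwb, hadj⟩
    obtain ⟨g, rfl⟩ := pr_surjective c
    refine ⟨ac g w, ac g a, ac g b, hwa.map D g, hwb.map D g, ?_, ?_⟩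
    · exact eA.trans (img_conj_inner D g hwa)
    · exact eB.trans (img_conj_inner D g hwb)

theorem star_image_of_agree {β : MulAut (POm Q)} (h : Agree D (Cfsg.Inn (POm Q)) β)
    (h' : Agree D (Cfsg.Inn (POm Q)) β⁻¹) {p : V} (hp : Q p = 0) (hp0 : p ≠ 0) :
    ∃ p', Q p' = 0 ∧ p' ≠ 0 ∧ img β '' Star D p = Star D p' := by
  obtain ⟨a, b, hpa, hpb, hab⟩ := exists_pairs_at D hp hp0
  have hab' : polar Q a b ≠ 0 := by rw [hab]; exact one_ne_zero
  have key : ∀ A B, MeetP D (img β A) (img β B) ↔ MeetP D A B := fun A B =>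
    ⟨fun hm => by simpa [img_inv_img] using meetP_img_of_agree D h' hm, meetP_img_of_agree D h⟩
  obtain ⟨w, a', b', ha', hb', eA, eB⟩ := (key _ _).2 ⟨p, a, b, hpa, hpb, rfl, rfl⟩
  have hab'' : polar Q a' b' ≠ 0 := fun h0 => by
    by_cases hne : img β (X D p a) = img β (X D p b)
    · obtain ⟨c, d, hcd⟩ := mem_line.1 (mem_line_of_X_eq D hpa hpb (img_injective β hne))
      apply hab'
      rw [hcd, polar_add_right', polar_smul_right', polar_smul_right', QuadraticMap.polar_comm,
        hpa.uv, polar_self', hpa.qv]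
      ring
    · refine not_adj_point D hpa hpb hab' ((adj_img D β _ _).1 ?_)
      rw [eA, eB] at hne ⊢
      exact adj_point D ha' hb' h0 hne
  refine ⟨w, ha'.qu, ha'.ne_zero_left, ?_⟩
  rw [← starP_point D hpa hpb hab', ← starP_point D ha' hb' hab'', ← eA, ← eB]
  ext N
  constructor
  · rintro ⟨N, ⟨h1, h2⟩, rfl⟩
    exact ⟨(key _ _).2 h1, (key _ _).2 h2⟩
  · intro hN
    exact ⟨img β⁻¹ N, ⟨(key _ _).1 (by rw [img_img_inv]; exact hN.1),
      (key _ _).1 (by rw [img_img_inv]; exact hN.2)⟩, img_img_inv β N⟩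

theorem exists_semi_of_agree {β : MulAut (POm Q)} (h : Agree D (Cfsg.Inn (POm Q)) β)
    (h' : Agree D (Cfsg.Inn (POm Q)) β⁻¹) : ∃ S : Semi Q, β = S.aut :=
  exists_semi_of_star D β (star_image_of_agree D h h')

omit [Finite (POm Q)]

/-- The image of a root group under a semisimilarity. -/
theorem img_X_semi (S : Semi Q) {u v : V} (h : Pair Q u v) :
    Pair Q (S.G u) (S.G v) ∧ img S.aut (X D u v) = X D (S.G u) (S.G v) := by
  have hp : Pair Q (S.G u) (S.G v) := by
    refine ⟨by rw [S.quad, h.qu]; simp, by rw [S.quad, h.qv]; simp,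
      by rw [S.polar_G, h.uv]; simp, LinearIndependent.pair_iff.2 fun a b hab => ?_⟩
    have h1 : S.θ.symm a • u + S.θ.symm b • v = 0 := S.G.injective (by
      rw [map_add, S.semilin, S.semilin, RingEquiv.apply_symm_apply, RingEquiv.apply_symm_apply,
        hab, map_zero])
    obtain ⟨h2, h3⟩ := LinearIndependent.pair_iff.1 h.li _ _ h1
    exact ⟨(map_eq_zero _).1 h2, (map_eq_zero _).1 h3⟩
  refine ⟨hp, ?_⟩
  have key : ∀ t, S.aut (El D u (t • v)) = El D (S.G u) ((S.c⁻¹ * S.θ t) • S.G v) := fun t => by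
    rw [S.aut_El D h.qu (by rw [polar_smul_right', h.uv, mul_zero]), S.semilin,
      El_scale D hp.qu (by rw [polar_smul_right', hp.uv, mul_zero]), smul_smul]
  ext x
  constructor
  · rintro ⟨_, ⟨t, rfl⟩, rfl⟩
    exact ⟨_, (key t).symm⟩
  · rintro ⟨s, rfl⟩
    refine ⟨_, ⟨S.θ.symm (S.c * s), rfl⟩, (key _).trans ?_⟩
    rw [RingEquiv.apply_symm_apply, inv_mul_cancel_left₀ S.c_ne]

/-- A semisimilarity fixing a root group pointwise is linear. -/
theorem theta_eq_of_fix (S : Semi Q) {u v : V} (h : Pair Q u v)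
    (hfix : ∀ t : F, S.aut (El D u (t • v)) = El D u (t • v)) (t : F) : S.θ t = t := by
  obtain ⟨hp, -⟩ := img_X_semi D S h
  have key : ∀ t, El D (S.G u) ((S.c⁻¹ * S.θ t) • S.G v) = El D u (t • v) := fun t => by
    rw [← smul_smul, ← El_scale D hp.qu (by rw [polar_smul_right', hp.uv, mul_zero]), ← S.semilin,
      ← S.aut_El D h.qu (by rw [polar_smul_right', h.uv, mul_zero]), hfix]
  obtain ⟨hu, hv⟩ := line_of_El_eq D hp h
    (mul_ne_zero (inv_ne_zero S.c_ne) ((map_ne_zero _).2 one_ne_zero)) (key 1)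
  obtain ⟨a, b, hab⟩ := mem_line.1 hu
  obtain ⟨c, d, hcd⟩ := mem_line.1 hv
  have h2 : ∀ t, S.c⁻¹ * S.θ t * (a * d - b * c) = t := fun t => El_sing_inj D h (by
    rw [← key t, El, El, eps_change D h hab hcd])
  have h1 := h2 1
  rw [map_one, mul_one] at h1
  have h3 := h2 t
  rwa [mul_right_comm, h1, one_mul] at h3

end CfsgLib.Known.AutPOmega
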