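import Cfsg.Agent.Lib.Known.AutPOmega.Lines

/-!
Complements of hyperbolic planes: singular vectors there.
-/

set_option autoImplicit false
set_option linter.unusedSectionVars false

namespace CfsgLib.Known.AutPOmega

open QuadraticMap (polar polarBilin)
open CfsgLib.Classical.Quad

variable {F : Type*} [Field F] {V : Type*} [AddCommGroup V] [Module F V] {Q : QuadraticForm F V}

/-- A hyperbolic pair. -/
structure Hyp (Q : QuadraticForm F V) (e f : V) : Prop where
  ee : Q e = 0
  ff : Q f = 0
  ef : polar Q e f = 1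

/-- Orthogonal to both. -/
structure InW (Q : QuadraticForm F V) (e f x : V) : Prop where
  left : polar Q e x = 0
  right : polar Q f x = 0

variable {e f : V}

theorem Hyp.fe (h : Hyp Q e f) : polar Q f e = 1 := by rw [QuadraticMap.polar_comm]; exact h.ef

theorem Hyp.swap (h : Hyp Q e f) : Hyp Q f e := ⟨h.ff, h.ee, h.fe⟩

theorem Hyp.ne_zero (h : Hyp Q e f) : e ≠ 0 := fun he => by
  have := h.ef
  rw [he, QuadraticMap.polar_zero_left] at this
  exact zero_ne_one this

theorem InW.swap {x : V} (h : InW Q e f x) : InW Q f e x := ⟨h.right, h.left⟩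

theorem InW.add {x y : V} (hx : InW Q e f x) (hy : InW Q e f y) : InW Q e f (x + y) :=
  ⟨by rw [polar_add_right', hx.left, hy.left, add_zero],
    by rw [polar_add_right', hx.right, hy.right, add_zero]⟩

theorem InW.smul {x : V} (t : F) (hx : InW Q e f x) : InW Q e f (t • x) :=
  ⟨by rw [polar_smul_right', hx.left, mul_zero], by rw [polar_smul_right', hx.right, mul_zero]⟩

theorem InW.zero : InW Q e f (0 : V) :=
  ⟨QuadraticMap.polar_zero_right _ _, QuadraticMap.polar_zero_right _ _⟩

theorem InW.sub {x y : V} (hx : InW Q e f x) (hy : InW Q e f y) : InW Q e f (x - y) :=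
  ⟨by rw [QuadraticMap.polar_sub_right, hx.left, hy.left, sub_zero],
    by rw [QuadraticMap.polar_sub_right, hx.right, hy.right, sub_zero]⟩

/-- The projection onto the complement. -/
def prW (Q : QuadraticForm F V) (e f z : V) : V := z - polar Q f z • e - polar Q e z • f

theorem prW_inW (h : Hyp Q e f) (z : V) : InW Q e f (prW Q e f z) := by
  constructor <;>
    simp only [prW, QuadraticMap.polar_sub_right, polar_smul_right', polar_self', h.ee, h.ff, h.ef,
      h.fe] <;> ring

theorem prW_decomp (z : V) : z = polar Q f z • e + polar Q e z • f + prW Q e f z := by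
  rw [prW]; abel

theorem Pair.of_W (h : Hyp Q e f) {a : V} (ha : InW Q e f a) (hqa : Q a = 0) (ha0 : a ≠ 0) :
    Pair Q e a := by
  refine ⟨h.ee, hqa, ha.left, ?_⟩
  rw [LinearIndependent.pair_iff' h.ne_zero]
  intro c hc
  have := ha.right
  rw [← hc, polar_smul_right', h.fe, mul_one] at this
  exact ha0 (by rw [← hc, this, zero_smul])

variable [FiniteDimensional F V] [Finite F] (D : Big Q)

theorem sing_span_three (hQ : (polarBilin Q).Nondegenerate) (hn : 3 ≤ Module.finrank F V) :
    Submodule.span F {w : V | Q w = 0} = ⊤ := by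
  set S := Submodule.span F {w : V | Q w = 0}
  obtain ⟨u, hu0, hu⟩ := exists_singular hQ hn
  obtain ⟨u', hu', huu'⟩ := exists_partner_of_singular hQ hu hu0
  have H : Hyp Q u u' := ⟨hu, hu', huu'⟩
  rw [eq_top_iff]
  rintro z -
  set r := prW Q u u' z
  have hr : InW Q u u' r := prW_inW H z
  have hrs : r + (u' + (-Q r) • u) ∈ S := Submodule.subset_span (by
    show Q _ = 0
    simp only [apply_add, apply_smul, polar_add_right', polar_smul_right', hu', hu, H.fe,
      QuadraticMap.polar_comm (⇑Q) r u', hr.right, QuadraticMap.polar_comm (⇑Q) r u, hr.left]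
    ring)
  have e : z = (polar Q u' z + Q r) • u + (polar Q u z - 1) • u' + (r + (u' + (-Q r) • u)) := by
    conv_lhs => rw [prW_decomp (Q := Q) (e := u) (f := u') z]
    module
  rw [e]
  exact add_mem (add_mem (S.smul_mem _ (Submodule.subset_span hu))
    (S.smul_mem _ (Submodule.subset_span hu'))) hrs

include D

section Nondeg

variable {P : Submodule F V} (hP : ∀ x ∈ P, (∀ y ∈ P, polar Q x y = 0) → x = 0)
include hP

theorem perp_data : (polarBilin (Q.comp (LinearMap.BilinForm.orthogonal (polarBilin Q) P).subtype)).Nondegenerate ∧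
    Module.finrank F (LinearMap.BilinForm.orthogonal (polarBilin Q) P) + Module.finrank F P =
      Module.finrank F V := by
  set K := LinearMap.BilinForm.orthogonal (polarBilin Q) P
  have hp : ∀ x y : K, polar (Q.comp K.subtype) x y = polar Q (x : V) y := fun x y => by
    simp only [polar, QuadraticMap.comp_apply, Submodule.subtype_apply, Submodule.coe_add]
  have key : ∀ x : K, (∀ y : K, polar Q (x : V) y = 0) → x = 0 := by
    intro x hx
    have h1 : (x : V) ∈ LinearMap.BilinForm.orthogonal (polarBilin Q)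
        (LinearMap.BilinForm.orthogonal (polarBilin Q) P) := fun z hz => by
      show polar Q z (x : V) = 0
      rw [QuadraticMap.polar_comm]; exact hx ⟨z, hz⟩
    rw [LinearMap.BilinForm.orthogonal_orthogonal D.nondeg (fun a b h => by
      show polar Q b a = 0
      rw [QuadraticMap.polar_comm]; exact h)] at h1
    exact Subtype.ext (hP _ h1 fun y hy => by rw [QuadraticMap.polar_comm]; exact x.2 y hy)
  refine ⟨⟨fun x hx => key x fun y => by rw [← hp]; exact hx y,
    fun x hx => key x fun y => by rw [← hp, QuadraticMap.polar_comm]; exact hx y⟩, ?_⟩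
  rw [LinearMap.BilinForm.finrank_orthogonal D.nondeg]
  have := Submodule.finrank_le P
  omega

theorem sing_span_perp (hn : Module.finrank F P + 3 ≤ Module.finrank F V) {x : V}
    (hx : ∀ u ∈ P, polar Q u x = 0) :
    x ∈ Submodule.span F {w : V | Q w = 0 ∧ ∀ u ∈ P, polar Q u w = 0} := by
  set K := LinearMap.BilinForm.orthogonal (polarBilin Q) P
  obtain ⟨hnd, hd⟩ := perp_data D hP
  have h1 : (⟨x, hx⟩ : K) ∈ Submodule.span F {w : K | (Q.comp K.subtype) w = 0} := by
    rw [sing_span_three hnd (by omega)]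
    exact Submodule.mem_top
  have h2 := Submodule.mem_map_of_mem (f := K.subtype) h1
  rw [Submodule.map_span] at h2
  refine Submodule.span_mono ?_ h2
  rintro _ ⟨w, hw, rfl⟩
  exact ⟨hw, fun u hu => w.2 u hu⟩

theorem exists_sing_perp (hn : Module.finrank F P + 3 ≤ Module.finrank F V) :
    ∃ w : V, w ≠ 0 ∧ Q w = 0 ∧ ∀ u ∈ P, polar Q u w = 0 := by
  obtain ⟨hnd, hd⟩ := perp_data D hP
  obtain ⟨w, hw0, hw⟩ := exists_singular hnd (by omega)
  exact ⟨w, fun h => hw0 (Subtype.ext h), hw, fun u hu => w.2 u hu⟩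

end Nondeg

variable (h : Hyp Q e f)
include h

theorem span_W {a : V} (ha : InW Q e f a) :
    a ∈ Submodule.span F {w : V | Q w = 0 ∧ InW Q e f w} := by
  have hP : ∀ x ∈ Submodule.span F (Set.range ![e, f]),
      (∀ y ∈ Submodule.span F (Set.range ![e, f]), polar Q x y = 0) → x = 0 := by
    intro x hx hxy
    obtain ⟨r, s, rfl⟩ := mem_line.1 hx
    have h1 := hxy e (left_mem_line e f)
    have h2 := hxy f (right_mem_line e f)
    simp [polar_smul_left', polar_self', h.ee, h.ff, h.ef, h.fe] at h1 h2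
    simp [h1, h2]
  have hr : Module.finrank F (Submodule.span F (Set.range ![e, f])) ≤ 2 := (finrank_range_le_card _).trans (by simp)
  have := sing_span_perp D hP (by have := D.seven; omega) (x := a) fun u hu => by
    obtain ⟨r, s, rfl⟩ := mem_line.1 hu
    rw [polar_add_left', polar_smul_left', polar_smul_left', ha.left, ha.right]; ring
  refine Submodule.span_mono ?_ this
  rintro w ⟨hw, hw'⟩
  exact ⟨hw, hw' e (left_mem_line e f), hw' f (right_mem_line e f)⟩

theorem nondeg_four {u v : V} (hu : InW Q e f u) (hv : InW Q e f v) (huv : Hyp Q u v) :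
    ∀ x ∈ Submodule.span F (Set.range ![e, f, u, v]),
      (∀ y ∈ Submodule.span F (Set.range ![e, f, u, v]), polar Q x y = 0) → x = 0 := by
  intro x hx hxy
  obtain ⟨c, rfl⟩ := (Submodule.mem_span_range_iff_exists_fun F).1 hx
  have hm : ∀ i, (![e, f, u, v] : Fin 4 → V) i ∈ Submodule.span F (Set.range ![e, f, u, v]) :=
    fun i => Submodule.subset_span ⟨i, rfl⟩
  have h0 := hxy _ (hm 0)
  have h1 := hxy _ (hm 1)
  have h2 := hxy _ (hm 2)
  have h3 := hxy _ (hm 3)
  simp [Fin.sum_univ_four, polar_smul_left', polar_self', h.ee, h.ff, h.ef, h.fe, huv.ee, huv.ff,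
    huv.ef, huv.fe, hu.left, hu.right, hv.left, hv.right, QuadraticMap.polar_comm (⇑Q) u e,
    QuadraticMap.polar_comm (⇑Q) u f, QuadraticMap.polar_comm (⇑Q) v e,
    QuadraticMap.polar_comm (⇑Q) v f] at h0 h1 h2 h3
  simp [Fin.sum_univ_four, h0, h1, h2, h3]

theorem span_W2 {u v a : V} (hu : InW Q e f u) (hv : InW Q e f v) (huv : Hyp Q u v)
    (ha : InW Q e f a) (hau : polar Q u a = 0) (hav : polar Q v a = 0) :
    a ∈ Submodule.span F {w : V | Q w = 0 ∧ InW Q e f w ∧ polar Q u w = 0 ∧ polar Q v w = 0} := by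
  have hr : Module.finrank F (Submodule.span F (Set.range ![e, f, u, v])) ≤ 4 :=
    (finrank_range_le_card _).trans (by simp)
  have := sing_span_perp D (nondeg_four D h hu hv huv) (by have := D.seven; omega) (x := a)
    fun y hy => by
      obtain ⟨c, rfl⟩ := (Submodule.mem_span_range_iff_exists_fun F).1 hy
      simp [Fin.sum_univ_four, polar_smul_left', ha.left, ha.right, hau, hav]
  refine Submodule.span_mono ?_ this
  rintro w ⟨hw, hw'⟩
  exact ⟨hw, ⟨hw' e (Submodule.subset_span ⟨0, rfl⟩), hw' f (Submodule.subset_span ⟨1, rfl⟩)⟩,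
    hw' u (Submodule.subset_span ⟨2, rfl⟩), hw' v (Submodule.subset_span ⟨3, rfl⟩)⟩

theorem exists_sing_W2 {u v : V} (hu : InW Q e f u) (hv : InW Q e f v) (huv : Hyp Q u v) :
    ∃ w, w ≠ 0 ∧ Q w = 0 ∧ InW Q e f w ∧ polar Q u w = 0 ∧ polar Q v w = 0 := by
  have hr : Module.finrank F (Submodule.span F (Set.range ![e, f, u, v])) ≤ 4 :=
    (finrank_range_le_card _).trans (by simp)
  obtain ⟨w, hw0, hw, hw'⟩ :=
    exists_sing_perp D (nondeg_four D h hu hv huv) (by have := D.seven; omega)
  exact ⟨w, hw0, hw, ⟨hw' e (Submodule.subset_span ⟨0, rfl⟩), hw' f (Submodule.subset_span ⟨1, rfl⟩)⟩,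
    hw' u (Submodule.subset_span ⟨2, rfl⟩), hw' v (Submodule.subset_span ⟨3, rfl⟩)⟩

theorem exists_sep_W {x : V} (hx : InW Q e f x) (hx0 : x ≠ 0) :
    ∃ d, InW Q e f d ∧ polar Q x d = 1 := by
  obtain ⟨d, hd⟩ := exists_polar_eq_one D hx0
  refine ⟨prW Q e f d, prW_inW h d, ?_⟩
  rw [prW, QuadraticMap.polar_sub_right, QuadraticMap.polar_sub_right, polar_smul_right',
    polar_smul_right', QuadraticMap.polar_comm (⇑Q) x e, hx.left,
    QuadraticMap.polar_comm (⇑Q) x f, hx.right, hd]
  ring

theorem exists_partner_W {x : V} (hx : InW Q e f x) (hqx : Q x = 0) (hx0 : x ≠ 0) :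
    ∃ y, InW Q e f y ∧ Hyp Q x y := by
  obtain ⟨d, hd, hxd⟩ := exists_sep_W D h hx hx0
  refine ⟨d + (-Q d) • x, hd.add (hx.smul _), hqx, ?_, ?_⟩
  · rw [apply_add, apply_smul, polar_smul_right', hqx, QuadraticMap.polar_comm (⇑Q) d x, hxd]; ring
  · rw [polar_add_right', polar_smul_right', polar_self', hqx, hxd]; ring

theorem exists_sing_W : ∃ w, w ≠ 0 ∧ Q w = 0 ∧ InW Q e f w := by
  have hP : ∀ x ∈ Submodule.span F (Set.range ![e, f]),
      (∀ y ∈ Submodule.span F (Set.range ![e, f]), polar Q x y = 0) → x = 0 := by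
    intro x hx hxy
    obtain ⟨r, s, rfl⟩ := mem_line.1 hx
    have h1 := hxy e (left_mem_line e f)
    have h2 := hxy f (right_mem_line e f)
    simp [polar_smul_left', polar_self', h.ee, h.ff, h.ef, h.fe] at h1 h2
    simp [h1, h2]
  have hr : Module.finrank F (Submodule.span F (Set.range ![e, f])) ≤ 2 := (finrank_range_le_card _).trans (by simp)
  obtain ⟨w, hw0, hw, hw'⟩ := exists_sing_perp D hP (by have := D.seven; omega)
  exact ⟨w, hw0, hw, hw' e (left_mem_line e f), hw' f (right_mem_line e f)⟩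

theorem exists_bridge {a b : V} (ha : InW Q e f a) (hb : InW Q e f b) (hqa : Q a = 0) (hqb : Q b = 0)
    (ha0 : a ≠ 0) (hb0 : b ≠ 0) :
    (polar Q a b = 0 ∧ b ∉ Submodule.span F {a}) ∨
    ∃ c, InW Q e f c ∧ Q c = 0 ∧ c ≠ 0 ∧ polar Q a c = 0 ∧ polar Q b c = 0 ∧
      c ∉ Submodule.span F {a} ∧ c ∉ Submodule.span F {b} := by
  by_cases hab : polar Q a b = 0
  · by_cases hm : b ∈ Submodule.span F {a}
    · right
      obtain ⟨s, rfl⟩ := Submodule.mem_span_singleton.1 hm
      have hs : s ≠ 0 := fun hs => hb0 (by rw [hs, zero_smul])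
      obtain ⟨a', ha', H⟩ := exists_partner_W D h ha hqa ha0
      obtain ⟨c, hc0, hc, hcW, h1, h2⟩ := exists_sing_W2 D h ha ha' H
      have hca : c ∉ Submodule.span F {a} := fun hm => by
        obtain ⟨r, rfl⟩ := Submodule.mem_span_singleton.1 hm
        rw [polar_smul_right', H.fe, mul_one] at h2
        exact hc0 (by rw [h2, zero_smul])
      exact ⟨c, hcW, hc, hc0, h1, by rw [polar_smul_left', h1, mul_zero], hca,
        fun hm => hca (Submodule.span_singleton_le_iff_mem _ _ |>.2
          (Submodule.smul_mem _ s (Submodule.mem_span_singleton_self a)) hm)⟩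
    · exact Or.inl ⟨hab, hm⟩
  · right
    have H : Hyp Q a ((polar Q a b)⁻¹ • b) := ⟨hqa, by rw [apply_smul, hqb, mul_zero],
      by rw [polar_smul_right', inv_mul_cancel₀ hab]⟩
    obtain ⟨c, hc0, hc, hcW, h1, h2⟩ := exists_sing_W2 D h ha (hb.smul _) H
    rw [polar_smul_left', mul_eq_zero] at h2
    have h2' := h2.resolve_left (inv_ne_zero hab)
    refine ⟨c, hcW, hc, hc0, h1, h2', ?_, ?_⟩ <;>
      · intro hm
        obtain ⟨r, rfl⟩ := Submodule.mem_span_singleton.1 hm
        simp [polar_smul_right', QuadraticMap.polar_comm (⇑Q) b a, hab] at h1 h2'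
        simp [*] at hc0

end CfsgLib.Known.AutPOmega
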