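import Cfsg.Agent.Lib.Known.AutPOmega.Lines
import Mathlib.GroupTheory.Sylow

/-!
In `PΩ` the centre of a Sylow subgroup of the defining characteristic is the root group of a
singular line; hence automorphisms permute these root groups.
-/

set_option autoImplicit false
set_option linter.unusedSectionVars false

namespace CfsgLib.Known.AutPOmega

open QuadraticMap (polar polarBilin)
open CfsgLib.Classical.Quad
open scoped Pointwise

variable {F : Type*} [Field F] {V : Type*} [AddCommGroup V] [Module F V] {Q : QuadraticForm F V}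
  [FiniteDimensional F V] [Finite F] (D : Big Q)
include D

theorem El_pow {u a : V} (hu : Q u = 0) (ha : polar Q u a = 0) :
    ∀ k : ℕ, El D u a ^ k = El D u ((k : F) • a)
  | 0 => by rw [pow_zero, Nat.cast_zero, zero_smul, El_zero]
  | k + 1 => by
    rw [pow_succ, El_pow hu ha k, El_mul D hu (by rw [polar_smul_right', ha, mul_zero]) ha,
      Nat.cast_succ, add_smul, one_smul]

/-- The radical of a singular point. -/
def Rad {u : V} (hu : Q u = 0) : Subgroup (POm Q) where
  carrier := {g | ∃ a, polar Q u a = 0 ∧ g = El D u a}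
  one_mem' := ⟨0, QuadraticMap.polar_zero_right _ _, (El_zero D u).symm⟩
  mul_mem' := by
    rintro _ _ ⟨a, ha, rfl⟩ ⟨b, hb, rfl⟩
    exact ⟨a + b, by rw [polar_add_right', ha, hb, add_zero], El_mul D hu ha hb⟩
  inv_mem' := by
    rintro _ ⟨a, ha, rfl⟩
    exact ⟨-a, by rw [QuadraticMap.polar_neg_right, ha, neg_zero], El_inv D hu ha⟩

/-- The part of the radical of `v` fixing `u`. -/
def RadFix (u : V) {v : V} (hv : Q v = 0) : Subgroup (POm Q) where
  carrier := {g | ∃ a, polar Q v a = 0 ∧ polar Q u a = 0 ∧ g = El D v a}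
  one_mem' := ⟨0, QuadraticMap.polar_zero_right _ _, QuadraticMap.polar_zero_right _ _,
    (El_zero D v).symm⟩
  mul_mem' := by
    rintro _ _ ⟨a, ha, ha', rfl⟩ ⟨b, hb, hb', rfl⟩
    exact ⟨a + b, by rw [polar_add_right', ha, hb, add_zero],
      by rw [polar_add_right', ha', hb', add_zero], El_mul D hv ha hb⟩
  inv_mem' := by
    rintro _ ⟨a, ha, ha', rfl⟩
    exact ⟨-a, by rw [QuadraticMap.polar_neg_right, ha, neg_zero],
      by rw [QuadraticMap.polar_neg_right, ha', neg_zero], El_inv D hv ha⟩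

theorem mem_Rad {u : V} (hu : Q u = 0) {g : POm Q} :
    g ∈ Rad D hu ↔ ∃ a, polar Q u a = 0 ∧ g = El D u a := Iff.rfl

theorem isPGroup_radFix (p : ℕ) [Fact p.Prime] [CharP F p] (u : V) {v : V} (hv : Q v = 0) :
    IsPGroup p ↥(RadFix D u hv) := by
  rintro ⟨_, a, ha, ha', rfl⟩
  refine ⟨1, Subtype.ext ?_⟩
  show El D v a ^ p ^ 1 = 1
  rw [pow_one, El_pow D hv ha, CharP.cast_eq_zero, zero_smul, El_zero]

theorem isPGroup_rad (p : ℕ) [Fact p.Prime] [CharP F p] {u : V} (hu : Q u = 0) :
    IsPGroup p ↥(Rad D hu) := by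
  rintro ⟨_, a, ha, rfl⟩
  refine ⟨1, Subtype.ext ?_⟩
  show El D u a ^ p ^ 1 = 1
  rw [pow_one, El_pow D hu ha, CharP.cast_eq_zero, zero_smul, El_zero]

theorem El_conj_mem {u v a b : V} (h : Pair Q u v) (ha : polar Q u a = 0) (hb : polar Q v b = 0)
    (hb' : polar Q u b = 0) :
    El D v b * El D u a * (El D v b)⁻¹ ∈ Rad D h.qu := by
  have hfix : ac (eps D v b) u = u :=
    eps_fix D h.qv hb h.uv hb'
  refine ⟨ac (eps D v b) a, ?_, ?_⟩
  · conv_lhs => rw [← hfix, polar_ac, ha]
  · show pr Q (eps D v b) * El D u a * (pr Q (eps D v b))⁻¹ = _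
    rw [conj_El D _ h.qu ha, hfix]

theorem radFix_le_normalizer {u v : V} (h : Pair Q u v) :
    RadFix D u h.qv ≤ Subgroup.normalizer (Rad D h.qu : Set (POm Q)) := by
  rintro _ ⟨b, hb, hb', rfl⟩
  rw [Subgroup.mem_normalizer_iff]
  intro g
  constructor
  · rintro ⟨a, ha, rfl⟩
    exact El_conj_mem D h ha hb hb'
  · rintro ⟨a, ha, e⟩
    have : g = El D v (-b) * El D u a * (El D v (-b))⁻¹ := by
      rw [← e, ← El_inv D h.qv hb]
      group
    rw [this]
    exact El_conj_mem D h ha (by rw [QuadraticMap.polar_neg_right, hb, neg_zero])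
      (by rw [QuadraticMap.polar_neg_right, hb', neg_zero])

theorem eq_of_comm_El {g : Om Q} {u a : V} (hu : Q u = 0) (ha : polar Q u a = 0)
    (e : pr Q g * El D u a = El D u a * pr Q g) :
    eps D (ac g u) (ac g a) = eps D u a := by
  obtain ⟨z, hz0, hz⟩ := exists_perp_ne D (k := 4) (by have := D.seven; omega) ![u, a, ac g u, ac g a]
  have e' : El D (ac g u) (ac g a) = El D u a := by
    rw [← conj_El D g hu ha, e, mul_inv_cancel_right]
  refine eq_of_pr D e' hz0 ?_
  have h1 : polar Q z u = 0 := hz 0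
  have h2 : polar Q z a = 0 := hz 1
  have h3 : polar Q z (ac g u) = 0 := hz 2
  have h4 : polar Q z (ac g a) = 0 := hz 3
  rw [eps_fix D (by rw [Q_ac, hu]) (by rw [polar_ac, ha]) h3 h4, eps_fix D hu ha h1 h2]

/-- An element centralising the radical of a point lies in it. -/
theorem mem_rad_of_comm (p : ℕ) [Fact p.Prime] [CharP F p] {u : V} (hu : Q u = 0) (hu0 : u ≠ 0)
    {z : POm Q} (hzp : ∃ k : ℕ, z ^ p ^ k = 1)
    (hz : ∀ a, polar Q u a = 0 → z * El D u a = El D u a * z) :
    ∃ b, polar Q u b = 0 ∧ z = El D u b := by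
  obtain ⟨g, rfl⟩ := pr_surjective z
  have hn := D.seven
  have key : ∀ g : Om Q, (∀ a, polar Q u a = 0 → pr Q g * El D u a = El D u a * pr Q g) →
      ∀ a, polar Q u a = 0 → eps D (ac g u) (ac g a) = eps D u a :=
    fun g hg a ha => eq_of_comm_El D hu ha (hg a ha)
  have hkey := key g hz
  have hline : ∃ c : F, ac g u = c • u := by
    refine apply_mem_line_of_comm D.nondeg D.five hu hu0 fun a ha => ?_
    have h1 : g * eps D u a = eps D u a * g := by
      rw [← mul_inv_eq_iff_eq_mul, eps_conj D g hu ha, hkey a ha]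
    classical
    rw [eps, dif_pos ⟨hu, ha⟩] at h1
    exact congrArg Subtype.val h1
  obtain ⟨c, hc⟩ := hline
  obtain ⟨f, hf, huf⟩ := exists_partner_of_singular D.nondeg hu hu0
  have hmod : ∀ a, polar Q u a = 0 → ∃ r : F, c • ac g a = a + r • u := by
    intro a ha
    have h1 := congrArg (fun g' : Om Q => ac g' f) (hkey a ha)
    have hga : polar Q u (c • ac g a) = 0 := by
      rw [polar_smul_right', ← polar_smul_left', ← hc, polar_ac, ha]
    simp only [ac_eps D (show Q (ac g u) = 0 by rw [Q_ac, hu]) (show polar Q (ac g u) (ac g a) = 0 by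
      rw [polar_ac, ha]), ac_eps D hu ha] at h1
    rw [hc, Q_ac, polar_smul_right', QuadraticMap.polar_comm (⇑Q) f u, huf, mul_one, add_assoc,
      add_assoc, add_right_inj, smul_smul, mul_one, neg_one_smul, neg_smul] at h1
    refine ⟨(polar Q f (ac g a) - Q a * c) * c - (polar Q f a - Q a), ?_⟩
    rw [sub_smul]
    linear_combination (norm := module) -h1
  obtain ⟨a, hqa, hua⟩ : ∃ a, Q a ≠ 0 ∧ polar Q u a = 0 := by
    obtain ⟨a, hqa, ha⟩ := exists_nonsingular_perp D.nondeg (Submodule.span F {u})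
      (by rw [finrank_span_singleton hu0]; omega)
    exact ⟨a, hqa, ha u (Submodule.mem_span_singleton_self u)⟩
  have hcc : c * c = 1 := by
    obtain ⟨r, hr⟩ := hmod a hua
    have := congrArg Q hr
    rw [apply_smul, Q_ac, apply_add, apply_smul, polar_smul_right', hu, QuadraticMap.polar_comm,
      hua] at this
    exact mul_right_cancel₀ hqa (by rw [one_mul]; linear_combination this)
  -- replace `g` by a lift fixing `u`
  obtain ⟨g', hg'pr, hg'u, hg'⟩ : ∃ g' : Om Q, pr Q g' = pr Q g ∧ ac g' u = u ∧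
      ∀ a, polar Q u a = 0 → ∃ r : F, ac g' a = a + r • u := by
    by_cases hc1 : c = 1
    · refine ⟨g, rfl, by rw [hc, hc1, one_smul], fun a ha => ?_⟩
      obtain ⟨r, hr⟩ := hmod a ha
      exact ⟨r, by rw [← hr, hc1, one_smul]⟩
    have hcm : c = -1 := (mul_self_eq_one_iff.1 hcc).resolve_left hc1
    have hpodd : Odd p := by
      refine (Fact.out : p.Prime).odd_of_ne_two fun h2 => hc1 ?_
      subst h2
      rw [hcm, CharTwo.neg_eq]
    obtain ⟨k, hk⟩ := hzp
    obtain ⟨d, hd2, hd⟩ := exists_scalar D (g := 1) (h := g ^ p ^ k)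
      (by rw [map_one, map_pow, hk])
    have hpow : ∀ j : ℕ, ac (g ^ j) u = c ^ j • u := by
      intro j
      induction j with
      | zero => rw [pow_zero, ac_one, pow_zero, one_smul]
      | succ j ih => rw [pow_succ, ac_mul, hc, ac_smul, ih, smul_smul, pow_succ, mul_comm]
    have hdc : d = c := by
      have h1 : d • u = c ^ p ^ k • u := by rw [← hpow, hd, ac_one]
      rw [hcm, (hpodd.pow).neg_one_pow] at h1
      rw [hcm]
      exact smul_left_injective F hu0 h1
    refine ⟨g ^ p ^ k * g, by rw [map_mul, map_pow, hk, one_mul], ?_, fun a ha => ?_⟩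
    · rw [ac_mul, hd, ac_one, hc, hdc, smul_smul, hcc, one_smul]
    · rw [ac_mul, hd, ac_one, hdc]
      exact hmod a ha
  obtain ⟨b, hb, hgb⟩ := exists_eps_of_rad D hu hu0 hg'u hg'
  exact ⟨b, hb, by rw [← hg'pr, hgb]; rfl⟩

/-- The centre of some Sylow subgroup is the root group of a given line. -/
theorem exists_sylow_center (p : ℕ) [Fact p.Prime] [CharP F p] [Finite (POm Q)] {u v : V}
    (h : Pair Q u v) :
    ∃ S : Sylow p (POm Q), {z | z ∈ S ∧ ∀ g ∈ S, g * z = z * g} = X D u v := by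
  have hn := D.seven
  have hpg : IsPGroup p ↥(Rad D h.qu ⊔ RadFix D u h.qv) :=
    (isPGroup_rad D p h.qu).to_sup_of_normal_left' (isPGroup_radFix D p u h.qv)
      (radFix_le_normalizer D h)
  obtain ⟨S, hS⟩ := hpg.exists_le_sylow
  have hR : ∀ a, polar Q u a = 0 → El D u a ∈ S := fun a ha =>
    hS (Subgroup.mem_sup_left ⟨a, ha, rfl⟩)
  have hR' : ∀ a, polar Q v a = 0 → polar Q u a = 0 → El D v a ∈ S := fun a ha ha' =>
    hS (Subgroup.mem_sup_right ⟨a, ha, ha', rfl⟩)
  -- central elements lie in the root group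
  have hsub : ∀ z ∈ S, (∀ g ∈ S, g * z = z * g) → z ∈ X D u v := by
    intro z hzS hz
    obtain ⟨k, hk⟩ := S.2 ⟨z, hzS⟩
    obtain ⟨b, hb, rfl⟩ := mem_rad_of_comm D p h.qu h.ne_zero_left
      ⟨k, congrArg Subtype.val hk⟩ fun a ha => (hz _ (hR a ha)).symm
    have hfix : ∀ a, polar Q v a = 0 → polar Q u a = 0 →
        eps D u (ac (eps D v a) b) = eps D u b := by
      intro a ha ha'
      have hu' : ac (eps D v a) u = u := eps_fix D h.qv ha h.uv ha'
      have h1 := eq_of_comm_El D h.qu hb (g := eps D v a) (hz _ (hR' a ha ha'))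
      rwa [hu'] at h1
    obtain ⟨f, hf, huf⟩ := exists_partner_of_singular D.nondeg h.qu h.ne_zero_left
    have hmod : ∀ a, polar Q v a = 0 → polar Q u a = 0 → ∃ r : F,
        (polar Q b a - Q a * polar Q b v) • v + (-polar Q b v) • a = r • u := by
      intro a ha ha'
      have h1 := congrArg (fun g : Om Q => ac g f) (hfix a ha ha')
      have hb' : polar Q u (ac (eps D v a) b) = 0 := by
        conv_lhs => rw [← eps_fix D h.qv ha h.uv ha', polar_ac, hb]
      simp only [ac_eps D h.qu hb', ac_eps D h.qu hb] at h1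
      rw [Q_ac, QuadraticMap.polar_comm (⇑Q) f u, huf, mul_one, add_assoc, add_assoc, add_right_inj,
        neg_one_smul, neg_one_smul, ← sub_eq_add_neg, ← sub_eq_add_neg] at h1
      refine ⟨polar Q f (ac (eps D v a) b) - polar Q f b, ?_⟩
      rw [ac_eps D h.qv ha] at h1 ⊢
      linear_combination (norm := module) -h1
    obtain ⟨a₀, hqa, ha₀⟩ := exists_nonsingular_perp D.nondeg (line F u v) (by
      have : Module.finrank F (line F u v) ≤ 2 := (finrank_range_le_card _).trans (by simp)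
      omega)
    have hbv : polar Q b v = 0 := by
      by_contra hbv
      obtain ⟨r, hr⟩ := hmod a₀ (ha₀ v (right_mem_line u v)) (ha₀ u (left_mem_line u v))
      apply hqa
      refine h.sing (mem_line.2 ⟨-(r / polar Q b v),
        (polar Q b a₀ - Q a₀ * polar Q b v) / polar Q b v, ?_⟩)
      apply smul_right_injective V hbv
      simp only [smul_add, smul_smul, mul_neg, mul_div_cancel₀ _ hbv]
      linear_combination (norm := module) -hr
    have hperp : ∀ a ∈ LinearMap.BilinForm.orthogonal (polarBilin Q) (line F u v),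
        polar Q b a = 0 := by
      intro a ha
      obtain ⟨r, hr⟩ := hmod a (ha v (right_mem_line u v)) (ha u (left_mem_line u v))
      rw [hbv, mul_zero, sub_zero, neg_zero, zero_smul, add_zero] at hr
      exact (LinearIndependent.pair_iff.1 h.swap.li (polar Q b a) (-r)
        (by rw [hr, neg_smul, add_neg_cancel])).1
    have hbL : b ∈ line F u v := by
      rw [← LinearMap.BilinForm.orthogonal_orthogonal D.nondeg
        (fun x y hxy => by
          show polar Q y x = 0
          rw [QuadraticMap.polar_comm]; exact hxy) (line F u v)]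
      intro a ha
      show polar Q a b = 0
      rw [QuadraticMap.polar_comm]
      exact hperp a ha
    obtain ⟨r, t, rfl⟩ := mem_line.1 hbL
    refine ⟨t, ?_⟩
    have hu0 : polar Q u (r • u) = 0 := by rw [polar_smul_right', polar_self', h.qu]; ring
    show El D u (t • v) = El D u (r • u + t • v)
    rw [← El_mul D h.qu hu0 (by rw [polar_smul_right', h.uv, mul_zero])]
    have : eps D u (r • u) = 1 := ext_ac fun z => by
      rw [ac_eps D h.qu hu0, ac_one, apply_smul, h.qu, polar_smul_right']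
      module
    rw [show El D u (r • u) = 1 by rw [El, this, map_one], one_mul]
  -- a non-trivial central element
  have hXS : ∀ t : F, El D u (t • v) ∈ S := fun t => hR _ (by rw [polar_smul_right', h.uv, mul_zero])
  have : Nontrivial ↥(S : Subgroup (POm Q)) := by
    refine ⟨⟨⟨_, hXS 1⟩, 1, fun e => ?_⟩⟩
    exact El_sing_ne_one D h one_ne_zero (congrArg Subtype.val e)
  have := (S.2).center_nontrivial
  obtain ⟨⟨⟨z, hzS⟩, hzc⟩, hz1⟩ := exists_ne (1 : Subgroup.center ↥(S : Subgroup (POm Q)))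
  have hzcomm : ∀ g ∈ S, g * z = z * g := fun g hg =>
    congrArg Subtype.val (Subgroup.mem_center_iff.1 hzc ⟨g, hg⟩)
  obtain ⟨t, rfl⟩ := hsub z hzS hzcomm
  have ht : t ≠ 0 := fun ht => hz1 (by
    apply Subtype.ext; apply Subtype.ext
    show El D u (t • v) = 1
    rw [ht, zero_smul, El_zero])
  -- so all of the root group is central
  have hcent : ∀ s : F, ∀ g ∈ S, g * El D u (s • v) = El D u (s • v) * g := by
    intro s g hg
    obtain ⟨g, rfl⟩ := pr_surjective g
    have h1 := eq_of_comm_El D h.qu (a := t • v) (by rw [polar_smul_right', h.uv, mul_zero])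
      (hzcomm _ hg)
    rw [ac_smul] at h1
    have h1' : El D (ac g u) (t • ac g v) = El D u (t • v) := by rw [El, El, h1]
    obtain ⟨hu', hv'⟩ := line_of_El_eq D (h.map D g) h ht h1'
    obtain ⟨a, b, hau⟩ := mem_line.1 hu'
    obtain ⟨c, d, hcv⟩ := mem_line.1 hv'
    have h2 : ∀ r : F, El D (ac g u) (r • ac g v) = El D u ((r * (a * d - b * c)) • v) := fun r => by
      rw [El, El, eps_change D h hau hcv]
    have h3 : a * d - b * c = 1 := by
      have := El_sing_inj D h (((h2 t).symm.trans h1'))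
      exact mul_left_cancel₀ ht (by rw [mul_one]; exact this)
    rw [← mul_inv_eq_iff_eq_mul, conj_El D g h.qu (by rw [polar_smul_right', h.uv, mul_zero]),
      ac_smul, h2, h3, mul_one]
  refine ⟨S, Set.ext fun z => ⟨fun hz => hsub z hz.1 hz.2, ?_⟩⟩
  rintro ⟨s, rfl⟩
  exact ⟨hXS s, hcent s⟩

/-- Automorphisms permute the root groups of lines. -/
theorem X_image [Finite (POm Q)] (β : MulAut (POm Q)) {u v : V} (h : Pair Q u v) :
    ∃ x y : V, Pair Q x y ∧ β '' X D u v = X D x y := by
  obtain ⟨p, hp⟩ := CharP.exists F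
  have := Fact.mk (CharP.char_is_prime F p)
  obtain ⟨S, hS⟩ := exists_sylow_center D p h
  obtain ⟨g, hg⟩ := MulAction.exists_smul_eq (POm Q) S (β • S)
  obtain ⟨g, rfl⟩ := pr_surjective g
  refine ⟨ac g u, ac g v, h.map D g, ?_⟩
  rw [← conj_X D g h, ← hS]
  have hmem : ∀ z, β z ∈ (β • S : Sylow p (POm Q)) ↔ z ∈ S := fun z => by
    show β z ∈ β • (S : Subgroup (POm Q)) ↔ _
    rw [← MulAut.smul_def, Subgroup.smul_mem_pointwise_smul_iff]
    rfl
  have hmem' : ∀ z, pr Q g * z * (pr Q g)⁻¹ ∈ (β • S : Sylow p (POm Q)) ↔ z ∈ S := fun z => by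
    rw [← hg]
    show MulAut.conj (pr Q g) z ∈ MulAut.conj (pr Q g) • (S : Subgroup (POm Q)) ↔ _
    rw [← MulAut.smul_def, Subgroup.smul_mem_pointwise_smul_iff]
    rfl
  ext y
  constructor
  · rintro ⟨z, ⟨hz, hzc⟩, rfl⟩
    refine ⟨(pr Q g)⁻¹ * β z * pr Q g, ⟨(hmem' _).1 (by simpa [mul_assoc] using (hmem z).2 hz),
      fun a ha => ?_⟩, by group⟩
    obtain ⟨b, hb⟩ := β.surjective (pr Q g * a * (pr Q g)⁻¹)
    have hbS : b ∈ S := (hmem b).1 (hb ▸ (hmem' a).2 ha)
    have h1 := congrArg β (hzc b hbS)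
    rw [map_mul, map_mul, hb] at h1
    calc a * ((pr Q g)⁻¹ * β z * pr Q g)
        = (pr Q g)⁻¹ * (pr Q g * a * (pr Q g)⁻¹ * β z) * pr Q g := by group
      _ = (pr Q g)⁻¹ * (β z * (pr Q g * a * (pr Q g)⁻¹)) * pr Q g := by rw [h1]
      _ = _ := by group
  · rintro ⟨z, ⟨hz, hzc⟩, rfl⟩
    obtain ⟨z', hz'⟩ := β.surjective (pr Q g * z * (pr Q g)⁻¹)
    refine ⟨z', ⟨(hmem z').1 (hz' ▸ (hmem' z).2 hz), fun a ha => β.injective ?_⟩, hz'⟩
    rw [map_mul, map_mul, hz']
    have ha' : (pr Q g)⁻¹ * β a * pr Q g ∈ S :=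
      (hmem' _).1 (by simpa [mul_assoc] using (hmem a).2 ha)
    calc β a * (pr Q g * z * (pr Q g)⁻¹)
        = pr Q g * ((pr Q g)⁻¹ * β a * pr Q g * z) * (pr Q g)⁻¹ := by group
      _ = pr Q g * (z * ((pr Q g)⁻¹ * β a * pr Q g)) * (pr Q g)⁻¹ := by rw [hzc _ ha']
      _ = _ := by group

end CfsgLib.Known.AutPOmega
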