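import Cfsg.Agent.Lib.Known.AutPOmega.Adjacency
import Cfsg.Agent.Lib.Known.AutPOmega.Sylow

/-!
The pencils of root groups through singular points are preserved by automorphisms, except in
dimension eight with Witt index four.
-/

set_option autoImplicit false
set_option linter.unusedSectionVars false

namespace CfsgLib.Known.AutPOmega

open QuadraticMap (polar polarBilin)
open CfsgLib.Classical.Quad

variable {F : Type*} [Field F] {V : Type*} [AddCommGroup V] [Module F V] {Q : QuadraticForm F V}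

/-- Dimension at least nine, or no four-dimensional totally singular subspace. -/
def NoTriality (Q : QuadraticForm F V) : Prop :=
  9 ≤ Module.finrank F V ∨ ∀ a b c d : V, Q a = 0 → Q b = 0 → Q c = 0 → Q d = 0 →
    polar Q a b = 0 → polar Q a c = 0 → polar Q a d = 0 → polar Q b c = 0 → polar Q b d = 0 →
    polar Q c d = 0 → ¬ LinearIndependent F ![a, b, c, d]

variable [FiniteDimensional F V] [Finite F] (D : Big Q)
include D

/-- A common neighbour. -/
def Cn (A B N : Set (POm Q)) : Prop := IsX D N ∧ AdjS D N A ∧ AdjS D N B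

/-- Two non-adjacent common neighbours have exactly two common neighbours among these. -/
def GridS (A B : Set (POm Q)) : Prop :=
  ∃ K K' N₁ N₂ : Set (POm Q), Cn D A B K ∧ Cn D A B K' ∧ K ≠ K' ∧ ¬ AdjS D K K' ∧ N₁ ≠ N₂ ∧
    (Cn D A B N₁ ∧ AdjS D N₁ K ∧ AdjS D N₁ K') ∧ (Cn D A B N₂ ∧ AdjS D N₂ K ∧ AdjS D N₂ K') ∧
    ∀ N, Cn D A B N → AdjS D N K → AdjS D N K' → N = N₁ ∨ N = N₂

/-- The lines meet. -/
def MeetS (A B : Set (POm Q)) : Prop :=
  AdjS D A B ∨ (A ≠ B ∧ CommS A B ∧ ¬ AdjS D A B ∧ ¬ GridS D A B)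

/-- The lines meeting two given ones. -/
def StarS (L M : Set (POm Q)) : Set (Set (POm Q)) :=
  {N | IsX D N ∧ (N = L ∨ MeetS D N L) ∧ (N = M ∨ MeetS D N M)}

/-- The pencil of a point. -/
def Star (p : V) : Set (Set (POm Q)) := {A | ∃ v, Pair Q p v ∧ A = X D p v}

/-- An automorphism acting on sets. -/
def img (β : MulAut (POm Q)) (A : Set (POm Q)) : Set (POm Q) := β '' A

omit D in
theorem img_inv_img (β : MulAut (POm Q)) (A : Set (POm Q)) : img β⁻¹ (img β A) = A := by
  rw [img, img, Set.image_image]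
  exact (Set.image_congr fun x _ => β.symm_apply_apply x).trans (Set.image_id A)

omit D in
theorem img_injective (β : MulAut (POm Q)) : Function.Injective (img (Q := Q) β) :=
  Function.LeftInverse.injective (img_inv_img β)

omit D in
theorem img_img_inv (β : MulAut (POm Q)) (A : Set (POm Q)) : img β (img β⁻¹ A) = A := by
  conv_lhs => arg 1; rw [← inv_inv β]
  exact img_inv_img β⁻¹ A

omit D in
theorem comm_img (β : MulAut (POm Q)) (A B : Set (POm Q)) :
    CommS (img β A) (img β B) ↔ CommS A B := by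
  constructor
  · intro h a ha b hb
    apply β.injective
    rw [map_mul, map_mul]
    exact h _ ⟨a, ha, rfl⟩ _ ⟨b, hb, rfl⟩
  · rintro h _ ⟨a, ha, rfl⟩ _ ⟨b, hb, rfl⟩
    rw [← map_mul, ← map_mul, h a ha b hb]

variable [Finite (POm Q)]

theorem isX_img (β : MulAut (POm Q)) {A : Set (POm Q)} : IsX D (img β A) ↔ IsX D A := by
  have one : ∀ (β : MulAut (POm Q)) {A : Set (POm Q)}, IsX D A → IsX D (img β A) := by
    rintro β _ ⟨u, v, h, rfl⟩
    obtain ⟨x, y, h', e⟩ := X_image D β h
    exact ⟨x, y, h', e⟩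
  refine ⟨fun h => ?_, one β⟩
  have := one β⁻¹ h
  rwa [img_inv_img] at this

theorem adj_img (β : MulAut (POm Q)) (A B : Set (POm Q)) :
    AdjS D (img β A) (img β B) ↔ AdjS D A B := by
  unfold AdjS
  rw [(img_injective β).ne_iff]
  refine and_congr_right fun _ => ?_
  constructor
  · intro h a ha b hb
    obtain ⟨C, hC, hm⟩ := h _ ⟨a, ha, rfl⟩ _ ⟨b, hb, rfl⟩
    refine ⟨img β⁻¹ C, (isX_img D β⁻¹).2 hC, ⟨_, hm, ?_⟩⟩
    rw [← map_mul]
    exact β.symm_apply_apply _
  · rintro h _ ⟨a, ha, rfl⟩ _ ⟨b, hb, rfl⟩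
    obtain ⟨C, hC, hm⟩ := h a ha b hb
    exact ⟨img β C, (isX_img D β).2 hC, ⟨a * b, hm, map_mul β a b⟩⟩

theorem cn_img (β : MulAut (POm Q)) (A B N : Set (POm Q)) :
    Cn D (img β A) (img β B) (img β N) ↔ Cn D A B N := by
  unfold Cn
  rw [isX_img, adj_img, adj_img]

theorem grid_img (β : MulAut (POm Q)) (A B : Set (POm Q)) :
    GridS D (img β A) (img β B) ↔ GridS D A B := by
  have one : ∀ (β : MulAut (POm Q)) (A B : Set (POm Q)), GridS D A B → GridS D (img β A) (img β B) := by
    rintro β A B ⟨K, K', N₁, N₂, h1, h2, h3, h4, h5, h6, h7, h8⟩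
    refine ⟨img β K, img β K', img β N₁, img β N₂, (cn_img D β ..).2 h1, (cn_img D β ..).2 h2,
      (img_injective β).ne h3, fun h => h4 ((adj_img D β ..).1 h), (img_injective β).ne h5,
      ⟨(cn_img D β ..).2 h6.1, (adj_img D β ..).2 h6.2.1, (adj_img D β ..).2 h6.2.2⟩,
      ⟨(cn_img D β ..).2 h7.1, (adj_img D β ..).2 h7.2.1, (adj_img D β ..).2 h7.2.2⟩,
      fun N hN hK hK' => ?_⟩
    rw [← img_img_inv β N] at hN hK hK' ⊢
    rcases h8 _ ((cn_img D β ..).1 hN) ((adj_img D β ..).1 hK) ((adj_img D β ..).1 hK') with h | h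
    · exact Or.inl (by rw [h])
    · exact Or.inr (by rw [h])
  refine ⟨fun h => ?_, one β A B⟩
  have := one β⁻¹ _ _ h
  rwa [img_inv_img, img_inv_img] at this

theorem meet_img (β : MulAut (POm Q)) (A B : Set (POm Q)) :
    MeetS D (img β A) (img β B) ↔ MeetS D A B := by
  unfold MeetS
  rw [adj_img, comm_img, grid_img, (img_injective β).ne_iff]

theorem starS_img (β : MulAut (POm Q)) (L M : Set (POm Q)) :
    img β '' StarS D L M = StarS D (img β L) (img β M) := by
  have key : ∀ N, N ∈ StarS D L M ↔ img β N ∈ StarS D (img β L) (img β M) := fun N => by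
    show (_ ∧ _ ∧ _) ↔ (_ ∧ _ ∧ _)
    rw [isX_img, meet_img, meet_img, (img_injective β).eq_iff, (img_injective β).eq_iff]
  ext N
  constructor
  · rintro ⟨N, hN, rfl⟩
    exact (key N).1 hN
  · intro hN
    exact ⟨img β⁻¹ N, (key _).2 (by rwa [img_img_inv]), img_img_inv β N⟩

omit [Finite (POm Q)]

theorem adj_point_iff {u v y : V} (h : Pair Q u v) (h' : Pair Q u y) :
    AdjS D (X D u v) (X D u y) ↔ X D u v ≠ X D u y ∧ polar Q v y = 0 :=
  ⟨fun ha => ⟨ha.1, by_contra fun hne => not_adj_point D h h' hne ha⟩,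
    fun ⟨h1, h2⟩ => adj_point D h h' h2 h1⟩

theorem adj_common {u v x y : V} (h : Pair Q u v) (h' : Pair Q x y)
    (ha : AdjS D (X D u v) (X D x y)) : ∃ w, w ≠ 0 ∧ w ∈ line F u v ∧ w ∈ line F x y := by
  by_contra hc
  exact not_adj_apart D h h' (fun z hz hz' => by_contra fun hz0 => hc ⟨z, hz0, hz, hz'⟩) ha

theorem mem_line_of_X_eq {u v y : V} (h : Pair Q u v) (h' : Pair Q u y)
    (e : X D u v = X D u y) : y ∈ line F u v := by
  rw [line_of_X_eq D h h' e]; exact right_mem_line u y

theorem grid_perp {u v x y : V} (h : Pair Q u v) (h' : Pair Q x y) (ha : Apart (F := F) u v x y)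
    (hc : CommS (X D u v) (X D x y)) : GridS D (X D u v) (X D x y) := by
  obtain ⟨hxu, hxv, hyu, hyv⟩ := perp_of_comm D h h' ha hc
  have sep : ∀ {a b c d : F}, a • u + b • v = c • x + d • y → (a = 0 ∧ b = 0) ∧ c = 0 ∧ d = 0 := by
    intro a b c d e
    have h0 := ha _ (mem_line.2 ⟨a, b, rfl⟩) (mem_line.2 ⟨c, d, e⟩)
    exact ⟨LinearIndependent.pair_iff.1 h.li a b h0, LinearIndependent.pair_iff.1 h'.li c d (e ▸ h0)⟩
  have pr4 : ∀ {a b : V}, a ∈ line F u v → b ∈ line F x y → a ≠ 0 → b ≠ 0 → Pair Q a b := by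
    intro a b ha' hb' ha0 hb0
    refine ⟨h.sing ha', h'.sing hb', ?_, LinearIndependent.pair_iff.2 fun r s e => ?_⟩
    · obtain ⟨r, s, rfl⟩ := mem_line.1 ha'
      obtain ⟨r', s', rfl⟩ := mem_line.1 hb'
      simp only [polar_add_left', polar_add_right', polar_smul_left', polar_smul_right',
        QuadraticMap.polar_comm (⇑Q) u x, QuadraticMap.polar_comm (⇑Q) u y,
        QuadraticMap.polar_comm (⇑Q) v x, QuadraticMap.polar_comm (⇑Q) v y, hxu, hxv, hyu, hyv]
      ring
    · have h1 := ha (r • a) (Submodule.smul_mem _ r ha') (by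
        rw [eq_neg_of_add_eq_zero_left e]; exact neg_mem (Submodule.smul_mem _ s hb'))
      refine ⟨(smul_eq_zero.1 h1).resolve_right ha0, (smul_eq_zero.1 ?_).resolve_right hb0⟩
      rwa [h1, zero_add] at e
  have hux : Pair Q u x := pr4 (left_mem_line u v) (left_mem_line x y) h.ne_zero_left h'.ne_zero_left
  have huy : Pair Q u y := pr4 (left_mem_line u v) (right_mem_line x y) h.ne_zero_left h'.ne_zero_right
  have hvx : Pair Q v x := pr4 (right_mem_line u v) (left_mem_line x y) h.ne_zero_right h'.ne_zero_left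
  have hvy : Pair Q v y := pr4 (right_mem_line u v) (right_mem_line x y) h.ne_zero_right h'.ne_zero_right
  -- adjacency at a corner
  have corner : ∀ {p a b : V}, Pair Q p a → Pair Q p b → polar Q a b = 0 → b ∉ line F p a →
      AdjS D (X D p a) (X D p b) := fun hpa hpb hab hb =>
    adj_point D hpa hpb hab fun e => hb (mem_line_of_X_eq D hpa hpb e)
  have nx : x ∉ line F u v := fun hm => h'.ne_zero_left (ha x hm (left_mem_line x y))
  have ny : y ∉ line F u v := fun hm => h'.ne_zero_right (ha y hm (right_mem_line x y))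
  have nu : u ∉ line F x y := fun hm => h.ne_zero_left (ha u (left_mem_line u v) hm)
  have nv : v ∉ line F x y := fun hm => h.ne_zero_right (ha v (right_mem_line u v) hm)
  have hne12 : ∀ {a b : V}, a ∈ line F u v → b ∈ line F x y → a ∉ Submodule.span F {u} →
      a ∉ line F u b := by
    intro a b ha' hb' hau hm
    obtain ⟨r, s, e⟩ := mem_line.1 hm
    obtain ⟨c, d, rfl⟩ := mem_line.1 ha'
    obtain ⟨c', d', rfl⟩ := mem_line.1 hb'
    obtain ⟨⟨h1, h2⟩, -⟩ := sep (a := c - r) (b := d) (c := s * c') (d := s * d')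
      (by linear_combination (norm := module) e)
    exact hau (Submodule.mem_span_singleton.2 ⟨c, by rw [h2]; simp⟩)
  have nvu : v ∉ Submodule.span F {u} := h.swap.not_mem_left
  -- the four corners
  have cK : Cn D (X D u v) (X D x y) (X D u x) := by
    refine ⟨⟨u, x, hux, rfl⟩, corner hux h hxv
      (hne12 (right_mem_line u v) (left_mem_line x y) nvu), ?_⟩
    rw [← X_swap D hux]
    exact corner hux.swap h' huy.uv (fun hm => ny (by
      obtain ⟨r, s, e⟩ := mem_line.1 hm
      obtain ⟨-, h1, h2⟩ := sep (a := s) (b := 0) (c := -r) (d := 1)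
        (by linear_combination (norm := module) -e)
      exact absurd h2 one_ne_zero))
  have cK' : Cn D (X D u v) (X D x y) (X D v y) := by
    refine ⟨⟨v, y, hvy, rfl⟩, ?_, ?_⟩
    · rw [← X_swap D h]
      refine corner hvy h.swap (by rw [QuadraticMap.polar_comm]; exact huy.uv) fun hm => ?_
      obtain ⟨r, s, e⟩ := mem_line.1 hm
      obtain ⟨⟨h1, h2⟩, -⟩ := sep (a := 1) (b := -r) (c := 0) (d := s)
        (by linear_combination (norm := module) e)
      exact one_ne_zero h1
    · rw [← X_swap D hvy, ← X_swap D h']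
      refine corner hvy.swap h'.swap hvx.uv fun hm => ?_
      obtain ⟨r, s, e⟩ := mem_line.1 hm
      obtain ⟨-, h1, -⟩ := sep (a := 0) (b := s) (c := 1) (d := -r)
        (by linear_combination (norm := module) -e)
      exact one_ne_zero h1
  have cN1 : Cn D (X D u v) (X D x y) (X D u y) := by
    refine ⟨⟨u, y, huy, rfl⟩, corner huy h (by rw [QuadraticMap.polar_comm]; exact hvy.uv)
      (hne12 (right_mem_line u v) (right_mem_line x y) nvu), ?_⟩
    rw [← X_swap D huy, ← X_swap D h']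
    exact corner huy.swap h'.swap hux.uv fun hm => by
      obtain ⟨r, s, e⟩ := mem_line.1 hm
      obtain ⟨-, h1, -⟩ := sep (a := s) (b := 0) (c := 1) (d := -r)
        (by linear_combination (norm := module) -e)
      exact one_ne_zero h1
  have cN2 : Cn D (X D u v) (X D x y) (X D v x) := by
    refine ⟨⟨v, x, hvx, rfl⟩, ?_, ?_⟩
    · rw [← X_swap D h]
      refine corner hvx h.swap (by rw [QuadraticMap.polar_comm]; exact hux.uv) fun hm => ?_
      obtain ⟨r, s, e⟩ := mem_line.1 hm
      obtain ⟨⟨h1, h2⟩, -⟩ := sep (a := 1) (b := -r) (c := s) (d := 0)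
        (by linear_combination (norm := module) e)
      exact one_ne_zero h1
    · rw [← X_swap D hvx]
      refine corner hvx.swap h' hvy.uv fun hm => ?_
      obtain ⟨r, s, e⟩ := mem_line.1 hm
      obtain ⟨-, -, h1⟩ := sep (a := 0) (b := s) (c := -r) (d := 1)
        (by linear_combination (norm := module) -e)
      exact one_ne_zero h1
  have hKK' : Apart (F := F) u x v y := by
    intro z hz hz'
    obtain ⟨r, s, rfl⟩ := mem_line.1 hz
    obtain ⟨r', s', e⟩ := mem_line.1 hz'
    obtain ⟨⟨h1, h2⟩, h3, h4⟩ := sep (a := r) (b := -r') (c := -s) (d := s')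
      (by linear_combination (norm := module) e)
    rw [h1, neg_eq_zero.1 h3]; simp
  refine ⟨X D u x, X D v y, X D u y, X D v x, cK, cK',
    fun e => hux.ne_zero_left (hKK' u (left_mem_line u x)
      (by rw [← line_of_X_eq D hux hvy e]; exact left_mem_line u x)),
    not_adj_apart D hux hvy hKK',
    fun e => h.ne_zero_left ?_, ⟨cN1, ?_, ?_⟩, ⟨cN2, ?_, ?_⟩, ?_⟩
  · have hm : u ∈ line F v x := by rw [← line_of_X_eq D huy hvx e]; exact left_mem_line u y
    obtain ⟨r, s, e'⟩ := mem_line.1 hm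
    obtain ⟨⟨h1, h2⟩, -⟩ := sep (a := 1) (b := -r) (c := s) (d := 0)
      (by linear_combination (norm := module) e')
    exact absurd h1 one_ne_zero
  · exact corner huy hux (by rw [QuadraticMap.polar_comm]; exact h'.uv) fun hm => by
      obtain ⟨r, s, e⟩ := mem_line.1 hm
      obtain ⟨-, h1, -⟩ := sep (a := r) (b := 0) (c := 1) (d := -s)
        (by linear_combination (norm := module) -e)
      exact one_ne_zero h1
  · rw [← X_swap D huy, ← X_swap D hvy]
    exact corner huy.swap hvy.swap h.uv fun hm => by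
      obtain ⟨r, s, e⟩ := mem_line.1 hm
      obtain ⟨⟨-, h1⟩, -⟩ := sep (a := -s) (b := 1) (c := 0) (d := r)
        (by linear_combination (norm := module) e)
      exact one_ne_zero h1
  · rw [← X_swap D hvx, ← X_swap D hux]
    exact corner hvx.swap hux.swap (by rw [QuadraticMap.polar_comm]; exact h.uv) fun hm => by
      obtain ⟨r, s, e⟩ := mem_line.1 hm
      obtain ⟨⟨h1, -⟩, -⟩ := sep (a := 1) (b := -s) (c := r) (d := 0)
        (by linear_combination (norm := module) e)
      exact one_ne_zero h1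
  · exact corner hvx hvy h'.uv fun hm => by
      obtain ⟨r, s, e⟩ := mem_line.1 hm
      obtain ⟨-, -, h1⟩ := sep (a := 0) (b := r) (c := -s) (d := 1)
        (by linear_combination (norm := module) -e)
      exact one_ne_zero h1
  -- nothing else
  rintro _ ⟨⟨g₁, g₂, hN, rfl⟩, hL, hM⟩ hK hK'
  obtain ⟨w, hw0, hwN, hwL⟩ := adj_common D hN h hL
  obtain ⟨w', hw'0, hw'N, hw'M⟩ := adj_common D hN h' hM
  have hp := pr4 hwL hw'M hw0 hw'0
  obtain ⟨z, hz0, hzN, hzK⟩ := adj_common D hN hux hK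
  obtain ⟨z', hz'0, hz'N, hz'K⟩ := adj_common D hN hvy hK'
  have hl : line F g₁ g₂ = line F w w' := le_antisymm
    (by
      refine (Submodule.eq_of_le_of_finrank_le (line_le hwN hw'N) ?_).symm.le
      rw [line, line, finrank_span_eq_card hN.li, finrank_span_eq_card hp.li])
    (line_le hwN hw'N)
  rw [hl] at hzN hz'N
  obtain ⟨a, b, rfl⟩ := mem_line.1 hwL
  obtain ⟨c, d, rfl⟩ := mem_line.1 hw'M
  obtain ⟨α, β', e1⟩ := mem_line.1 hzN
  obtain ⟨γ, δ, e2⟩ := mem_line.1 hzK
  obtain ⟨α', β'', e3⟩ := mem_line.1 hz'N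
  obtain ⟨γ', δ', e4⟩ := mem_line.1 hz'K
  obtain ⟨⟨-, s1⟩, -, s2⟩ := sep (a := α * a - γ) (b := α * b) (c := δ - β' * c) (d := -(β' * d))
    (by linear_combination (norm := module) e2 - e1)
  obtain ⟨⟨s3, -⟩, s4, -⟩ := sep (a := α' * a) (b := α' * b - γ') (c := -(β'' * c)) (d := δ' - β'' * d)
    (by linear_combination (norm := module) e4 - e3)
  rw [neg_eq_zero] at s2 s4
  rw [X_change D hN hwN hw'N hp.li |>.symm]
  by_cases hb : b = 0
  · left
    subst hb
    have ha0 : a ≠ 0 := fun e => hw0 (by rw [e]; simp)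
    have hβ : β'' ≠ 0 := fun e => hz'0 (by
      rw [e3, e, (mul_eq_zero.1 s3).resolve_right ha0]; simp)
    have hc0 : c = 0 := (mul_eq_zero.1 s4).resolve_left hβ
    exact X_change D huy (mem_line.2 ⟨a, 0, by simp⟩) (mem_line.2 ⟨0, d, by rw [hc0]; simp⟩) hp.li
  · right
    have hα : α = 0 := (mul_eq_zero.1 s1).resolve_right hb
    have hβ : β' ≠ 0 := fun e => hz0 (by rw [e1, e, hα]; simp)
    have hd0 : d = 0 := (mul_eq_zero.1 s2).resolve_left hβ
    have hc0 : c ≠ 0 := fun e => hw'0 (by rw [e, hd0]; simp)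
    have hβ2 : β'' = 0 := (mul_eq_zero.1 s4).resolve_right hc0
    have hα2 : α' ≠ 0 := fun e => hz'0 (by rw [e3, e, hβ2]; simp)
    have ha0 : a = 0 := (mul_eq_zero.1 s3).resolve_left hα2
    exact X_change D hvx (mem_line.2 ⟨b, 0, by rw [ha0]; simp⟩)
      (mem_line.2 ⟨0, c, by rw [hd0]; simp⟩) hp.li

theorem through_point {p a b g₁ g₂ w w' : V} (hpa : Pair Q p a) (hpb : Pair Q p b)
    (hab : polar Q a b ≠ 0) (hN : Pair Q g₁ g₂) (hw : w ≠ 0) (hwN : w ∈ line F g₁ g₂)
    (hwL : w ∈ line F p a) (hw' : w' ≠ 0) (hw'N : w' ∈ line F g₁ g₂) (hw'M : w' ∈ line F p b) :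
    p ∈ line F g₁ g₂ := by
  obtain ⟨α, β, rfl⟩ := mem_line.1 hwL
  obtain ⟨γ, δ, rfl⟩ := mem_line.1 hw'M
  have h := hN.perp hwN hw'N
  simp only [polar_add_left', polar_add_right', polar_smul_left', polar_smul_right', polar_self',
    hpa.qu, hpb.uv, QuadraticMap.polar_comm (⇑Q) a p, hpa.uv, mul_zero, zero_add, add_zero] at h
  have hbd : β * δ = 0 :=
    (mul_eq_zero.1 (show β * δ * polar Q a b = 0 by linear_combination h)).resolve_right hab
  rcases mul_eq_zero.1 hbd with hβ | hδ
  · rw [hβ, zero_smul, add_zero] at hw hwN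
    have hα : α ≠ 0 := fun e => hw (by rw [e, zero_smul])
    simpa [smul_smul, inv_mul_cancel₀ hα] using Submodule.smul_mem _ α⁻¹ hwN
  · rw [hδ, zero_smul, add_zero] at hw' hw'N
    have hγ : γ ≠ 0 := fun e => hw' (by rw [e, zero_smul])
    simpa [smul_smul, inv_mul_cancel₀ hγ] using Submodule.smul_mem _ γ⁻¹ hw'N

theorem exists_through {p g₁ g₂ : V} (hN : Pair Q g₁ g₂) (hp0 : p ≠ 0) (hp : p ∈ line F g₁ g₂) :
    ∃ k, Pair Q p k ∧ X D g₁ g₂ = X D p k := by
  obtain ⟨k, hk, h1, h2⟩ := exists_partner_line hp hp0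
  have hli := li_of_spans hN.li h1 h2
  exact ⟨k, hN.change hp hk hli, (X_change D hN hp hk hli).symm⟩

theorem not_grid_point (hT : NoTriality Q) {p a b : V} (hpa : Pair Q p a) (hpb : Pair Q p b)
    (hab : polar Q a b ≠ 0) : ¬ GridS D (X D p a) (X D p b) := by
  rintro ⟨K, K', N₁, N₂, hK, hK', hKne, hKnadj, hNne, ⟨hN1, hN1K, hN1K'⟩, ⟨hN2, hN2K, hN2K'⟩, hall⟩
  have thru : ∀ {N}, Cn D (X D p a) (X D p b) N → ∃ k, Pair Q p k ∧ N = X D p k ∧
      polar Q k a = 0 ∧ polar Q k b = 0 := by
    rintro _ ⟨⟨g₁, g₂, hN, rfl⟩, h1, h2⟩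
    obtain ⟨w, hw0, hwN, hwL⟩ := adj_common D hN hpa h1
    obtain ⟨w', hw'0, hw'N, hw'M⟩ := adj_common D hN hpb h2
    obtain ⟨k, hk, e⟩ := exists_through D hN hpa.ne_zero_left
      (through_point D hpa hpb hab hN hw0 hwN hwL hw'0 hw'N hw'M)
    rw [e] at h1 h2
    exact ⟨k, hk, e, ((adj_point_iff D hk hpa).1 h1).2, ((adj_point_iff D hk hpb).1 h2).2⟩
  obtain ⟨k, hk, rfl, hka, hkb⟩ := thru hK
  obtain ⟨k', hk', rfl, hk'a, hk'b⟩ := thru hK'
  obtain ⟨l, hl, rfl, hla, hlb⟩ := thru hN1
  obtain ⟨l', hl', rfl, hl'a, hl'b⟩ := thru hN2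
  have hkk : polar Q k k' ≠ 0 := fun h => hKnadj (adj_point D hk hk' h hKne)
  have hlk := ((adj_point_iff D hl hk).1 hN1K).2
  have hlk' := ((adj_point_iff D hl hk').1 hN1K').2
  have hl'k := ((adj_point_iff D hl' hk).1 hN2K).2
  have hl'k' := ((adj_point_iff D hl' hk').1 hN2K').2
  -- a third common neighbour
  suffices ∃ r, Pair Q p r ∧ polar Q r a = 0 ∧ polar Q r b = 0 ∧ polar Q r k = 0 ∧
      polar Q r k' = 0 ∧ r ∉ line F p l ∧ r ∉ line F p l' by
    obtain ⟨r, hr, hra, hrb, hrk, hrk', hrl, hrl'⟩ := this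
    have adj : ∀ {y}, Pair Q p y → polar Q r y = 0 → X D p r ≠ X D p y → AdjS D (X D p r) (X D p y) :=
      fun hy h1 h2 => adj_point D hr hy h1 h2
    have hne : ∀ {y}, Pair Q p y → (∃ z, polar Q r z = 0 ∧ polar Q p z = 0 ∧ polar Q y z ≠ 0) →
        X D p r ≠ X D p y := by
      rintro y hy ⟨z, hz, hpz, hyz⟩ e
      obtain ⟨c, d, hcd⟩ := mem_line.1 (mem_line_of_X_eq D hr hy e)
      apply hyz
      rw [hcd, polar_add_left', polar_smul_left', polar_smul_left', hz, hpz]
      ring
    have hcn : Cn D (X D p a) (X D p b) (X D p r) :=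
      ⟨⟨p, r, hr, rfl⟩, adj hpa hra (hne hpa ⟨b, hrb, hpb.uv, hab⟩),
        adj hpb hrb (hne hpb ⟨a, hra, hpa.uv, by rw [QuadraticMap.polar_comm]; exact hab⟩)⟩
    rcases hall _ hcn (adj hk hrk (hne hk ⟨k', hrk', hk'.uv, hkk⟩))
      (adj hk' hrk' (hne hk' ⟨k, hrk, hk.uv, by rw [QuadraticMap.polar_comm]; exact hkk⟩)) with e | e
    · exact hrl (mem_line_of_X_eq D hl hr e.symm)
    · exact hrl' (mem_line_of_X_eq D hl' hr e.symm)
  have nll : l' ∉ line F p l := fun hm => hNne (X_change D hl (left_mem_line p l) hm hl'.li).symm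
  have nll' : l ∉ line F p l' := fun hm => hNne (X_change D hl' (left_mem_line p l') hm hl.li)
  by_cases hd : polar Q l l' = 0
  · refine ⟨l + l', ⟨hpa.qu, by rw [apply_add, hl.qv, hl'.qv, hd]; ring,
      by rw [polar_add_right', hl.uv, hl'.uv, add_zero], LinearIndependent.pair_iff.2 fun r s e => ?_⟩,
      by rw [polar_add_left', hla, hl'a, add_zero], by rw [polar_add_left', hlb, hl'b, add_zero],
      by rw [polar_add_left', hlk, hl'k, add_zero], by rw [polar_add_left', hlk', hl'k', add_zero],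
      fun hm => nll ?_, fun hm => nll' ?_⟩
    · by_cases hs : s = 0
      · subst hs
        rw [zero_smul, add_zero] at e
        exact ⟨(smul_eq_zero.1 e).resolve_right hpa.ne_zero_left, rfl⟩
      · refine absurd (mem_line.2 ⟨-(r / s), -1, ?_⟩) nll
        apply smul_right_injective V hs
        simp only [smul_add, smul_smul, mul_neg, mul_div_cancel₀ _ hs, mul_one]
        linear_combination (norm := module) e
    · simpa using sub_mem hm (right_mem_line p l)
    · simpa using sub_mem hm (right_mem_line p l')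
  rcases hT with hn | h4
  · set P := Submodule.span F (Set.range ![p, a, b, k, k', l, l'])
    have hP : Module.finrank F P ≤ 7 := (finrank_range_le_card _).trans (by simp)
    have hdim := LinearMap.BilinForm.finrank_orthogonal D.nondeg P
    obtain ⟨r, hr, hrp⟩ : ∃ r ∈ LinearMap.BilinForm.orthogonal (polarBilin Q) P,
        r ∉ Submodule.span F {p} := by
      refine SetLike.not_le_iff_exists.1 fun hle => ?_
      have := Submodule.finrank_mono hle
      rw [finrank_span_singleton hpa.ne_zero_left] at this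
      omega
    have hr' : ∀ i, polar Q r (![p, a, b, k, k', l, l'] i) = 0 := fun i => by
      rw [QuadraticMap.polar_comm]; exact hr _ (Submodule.subset_span ⟨i, rfl⟩)
    have hrp0 : polar Q p r = 0 := by rw [QuadraticMap.polar_comm]; exact hr' 0
    have hra : polar Q r a = 0 := hr' 1
    have hrb : polar Q r b = 0 := hr' 2
    have hrk : polar Q r k = 0 := hr' 3
    have hrk' : polar Q r k' = 0 := hr' 4
    have hrl : polar Q r l = 0 := hr' 5
    have hrl' : polar Q r l' = 0 := hr' 6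
    have hlr : polar Q l r = 0 := by rw [QuadraticMap.polar_comm]; exact hrl
    have hl'r : polar Q l' r = 0 := by rw [QuadraticMap.polar_comm]; exact hrl'
    set s := -(Q r) / polar Q l l' with hs
    have hq : Q (l + s • l' + r) = 0 := by
      rw [apply_add, apply_add, apply_smul, polar_smul_right', hl.qv, hl'.qv, polar_add_left',
        polar_smul_left', hlr, hl'r, hs]
      field_simp
      ring
    have notmem : ∀ c₁ c₂ c₃ : F, l + s • l' + r = c₁ • p + (c₂ • l + c₃ • l') →
        c₂ = 1 ∧ c₃ = s := by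
      intro c₁ c₂ c₃ e
      have h1 := congrArg (fun z => polar Q z l') e
      have h2 := congrArg (fun z => polar Q z l) e
      simp only [polar_add_left', polar_smul_left', polar_self', hl'.qv, hl.qv, hl.uv, hl'.uv,
        hrl, hrl', QuadraticMap.polar_comm (⇑Q) l' l] at h1 h2
      refine ⟨mul_right_cancel₀ hd ?_, mul_right_cancel₀ hd ?_⟩
      · rw [one_mul]; linear_combination -h1
      · linear_combination -h2
    refine ⟨l + s • l' + r, ⟨hpa.qu, hq, ?_, ?_⟩, ?_, ?_, ?_, ?_, fun hm => ?_, fun hm => ?_⟩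
    · rw [polar_add_right', polar_add_right', polar_smul_right', hl.uv, hl'.uv, hrp0]; ring
    · rw [LinearIndependent.pair_iff' hpa.ne_zero_left]
      intro c e
      obtain ⟨h1, -⟩ := notmem c 0 0 (by rw [← e]; simp)
      exact zero_ne_one h1
    · rw [polar_add_left', polar_add_left', polar_smul_left', hla, hl'a, hra]; ring
    · rw [polar_add_left', polar_add_left', polar_smul_left', hlb, hl'b, hrb]; ring
    · rw [polar_add_left', polar_add_left', polar_smul_left', hlk, hl'k, hrk]; ring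
    · rw [polar_add_left', polar_add_left', polar_smul_left', hlk', hl'k', hrk']; ring
    · obtain ⟨c, c', e⟩ := mem_line.1 hm
      obtain ⟨h1, h2⟩ := notmem c c' 0 (by rw [e]; simp)
      rw [h1, ← h2, zero_smul, add_zero, one_smul] at e
      exact hrp (Submodule.mem_span_singleton.2 ⟨c, by linear_combination (norm := module) -e⟩)
    · obtain ⟨c, c', e⟩ := mem_line.1 hm
      obtain ⟨h1, -⟩ := notmem c 0 c' (by rw [e]; simp)
      exact zero_ne_one h1
  · refine absurd ?_ (h4 p a k l hpa.qu hpa.qv hk.qv hl.qv hpa.uv hk.uv hl.uv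
      (by rw [QuadraticMap.polar_comm]; exact hka) (by rw [QuadraticMap.polar_comm]; exact hla)
      (by rw [QuadraticMap.polar_comm]; exact hlk))
    rw [Fintype.linearIndependent_iff]
    intro c hc
    simp only [Fin.sum_univ_four, Matrix.cons_val_zero, Matrix.cons_val_one, Matrix.cons_val] at hc
    have h1 := congrArg (fun z => polar Q z b) hc
    have h2 := congrArg (fun z => polar Q z k') hc
    have h3 := congrArg (fun z => polar Q z l') hc
    simp only [polar_add_left', polar_smul_left', QuadraticMap.polar_zero_left, hpb.uv, hk'.uv,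
      hl'.uv, hkb, hlb, hlk'] at h1 h2 h3
    have c1 : c 1 = 0 := (mul_eq_zero.1 (by linear_combination h1)).resolve_right hab
    rw [c1] at h2 h3 hc
    have c2 : c 2 = 0 := (mul_eq_zero.1 (by linear_combination h2)).resolve_right hkk
    rw [c2] at h3 hc
    have c3 : c 3 = 0 := (mul_eq_zero.1 (by linear_combination h3)).resolve_right hd
    rw [c3] at hc
    have c0 : c 0 = 0 := by
      refine (smul_eq_zero.1 ?_).resolve_right hpa.ne_zero_left
      simpa using hc
    intro i; fin_cases i <;> assumption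

theorem meet_point (hT : NoTriality Q) {u v y : V} (h : Pair Q u v) (h' : Pair Q u y)
    (hne : X D u v ≠ X D u y) : MeetS D (X D u v) (X D u y) := by
  by_cases hvy : polar Q v y = 0
  · exact Or.inl (adj_point D h h' hvy hne)
  · exact Or.inr ⟨hne, comm_point D h h', not_adj_point D h h' hvy, not_grid_point D hT h h' hvy⟩

theorem meet_common {u v x y : V} (h : Pair Q u v) (h' : Pair Q x y)
    (hm : MeetS D (X D u v) (X D x y)) : ∃ w, w ≠ 0 ∧ w ∈ line F u v ∧ w ∈ line F x y := by
  by_contra hc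
  have ha : Apart (F := F) u v x y := fun z hz hz' => by_contra fun hz0 => hc ⟨z, hz0, hz, hz'⟩
  rcases hm with hm | ⟨-, hcm, -, hg⟩
  · exact not_adj_apart D h h' ha hm
  · exact hg (grid_perp D h h' ha hcm)

theorem starS_point (hT : NoTriality Q) {p a b : V} (hpa : Pair Q p a) (hpb : Pair Q p b)
    (hab : polar Q a b ≠ 0) : StarS D (X D p a) (X D p b) = Star D p := by
  ext N
  constructor
  · rintro ⟨⟨g₁, g₂, hN, rfl⟩, h1, h2⟩
    have common : ∀ {c : V}, Pair Q p c → X D g₁ g₂ = X D p c ∨ MeetS D (X D g₁ g₂) (X D p c) →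
        ∃ w, w ≠ 0 ∧ w ∈ line F g₁ g₂ ∧ w ∈ line F p c := by
      intro c hc h
      rcases h with h | h
      · exact ⟨p, hc.ne_zero_left, by rw [line_of_X_eq D hN hc h]; exact left_mem_line p c,
          left_mem_line p c⟩
      · exact meet_common D hN hc h
    obtain ⟨w, hw0, hwN, hwL⟩ := common hpa h1
    obtain ⟨w', hw'0, hw'N, hw'M⟩ := common hpb h2
    obtain ⟨k, hk, e⟩ := exists_through D hN hpa.ne_zero_left
      (through_point D hpa hpb hab hN hw0 hwN hwL hw'0 hw'N hw'M)
    exact ⟨k, hk, e⟩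
  · rintro ⟨k, hk, rfl⟩
    exact ⟨⟨p, k, hk, rfl⟩, or_iff_not_imp_left.2 (meet_point D hT hk hpa),
      or_iff_not_imp_left.2 (meet_point D hT hk hpb)⟩

theorem exists_pairs_at {p : V} (hp : Q p = 0) (hp0 : p ≠ 0) :
    ∃ a b, Pair Q p a ∧ Pair Q p b ∧ polar Q a b = 1 := by
  obtain ⟨a, b, ha, hb, hpa, hpb, hab⟩ := exists_singular_pair_perp D.nondeg D.five hp0
  have hli : ∀ {a b : V}, polar Q p b = 0 → polar Q a b = 1 → LinearIndependent F ![p, a] := by
    intro a b hpb hab
    rw [LinearIndependent.pair_iff' hp0]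
    intro c hc
    rw [← hc, polar_smul_left', hpb, mul_zero] at hab
    exact zero_ne_one hab
  exact ⟨a, b, ⟨hp, ha, hpa, hli hpb hab⟩,
    ⟨hp, hb, hpb, hli hpa (by rw [QuadraticMap.polar_comm]; exact hab)⟩, hab⟩

variable [Finite (POm Q)]

/-- Automorphisms permute the pencils. -/
theorem star_image (hT : NoTriality Q) (β : MulAut (POm Q)) {p : V} (hp : Q p = 0) (hp0 : p ≠ 0) :
    ∃ p', Q p' = 0 ∧ p' ≠ 0 ∧ img β '' Star D p = Star D p' := by
  obtain ⟨a, b, hpa, hpb, hab⟩ := exists_pairs_at D hp hp0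
  have hab' : polar Q a b ≠ 0 := by rw [hab]; exact one_ne_zero
  have hne : X D p a ≠ X D p b := fun e => by
    obtain ⟨c, d, hcd⟩ := mem_line.1 (mem_line_of_X_eq D hpa hpb e)
    apply hab'
    rw [hcd, polar_add_right', polar_smul_right', polar_smul_right', QuadraticMap.polar_comm,
      hpa.uv, polar_self', hpa.qv]
    ring
  obtain ⟨x, y, hxy, ex⟩ := X_image D β hpa
  obtain ⟨x', y', hxy', ex'⟩ := X_image D β hpb
  have hnadj : ¬ AdjS D (X D p a) (X D p b) := not_adj_point D hpa hpb hab'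
  have hm : MeetS D (X D x y) (X D x' y') := by
    rw [← ex, ← ex']
    exact (meet_img D β _ _).2 (meet_point D hT hpa hpb hne)
  obtain ⟨w, hw0, hw, hw'⟩ := meet_common D hxy hxy' hm
  obtain ⟨a', ha', e⟩ := exists_through D hxy hw0 hw
  obtain ⟨b', hb', e'⟩ := exists_through D hxy' hw0 hw'
  have eA : img β (X D p a) = X D w a' := ex.trans e
  have eB : img β (X D p b) = X D w b' := ex'.trans e'
  have hab'' : polar Q a' b' ≠ 0 := fun h => hnadj ((adj_img D β _ _).1 (by
    rw [eA, eB]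
    exact adj_point D ha' hb' h (by rw [← eA, ← eB]; exact (img_injective β).ne hne)))
  refine ⟨w, hxy.sing hw, hw0, ?_⟩
  rw [← starS_point D hT hpa hpb hab', starS_img, eA, eB, starS_point D hT ha' hb' hab'']

end CfsgLib.Known.AutPOmega
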